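import Mathlib
import Cfsg.Agent.CharactersDeep.ElemExt
import Cfsg.Agent.H436.TTPsl2
import Cfsg.Agent.WeakTI.PslTwo
import Cfsg.Agent.TwoFusion.SLTwoFacts
import Cfsg.Agent.S0799
import Cfsg.Agent.H672.Lin
import Cfsg.Agent.OddOrderCharacters.PF9.CliffGen
import Cfsg.Agent.H988.DG.Out
import Cfsg.Agent.S2086
import Cfsg.Agent.S0188
import Cfsg.Agent.H671.Frame
import Cfsg.Agent.H670.Palfy.Defs
import Cfsg.Agent.Lib.Zsigmondy
import Cfsg.Agent.H948.PSLMax
import Cfsg.Agent.FastGrp
import Cfsg.Agent.Prune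
set_option linter.all false

section
prune_inst 0x7ffcfef9a9a8c5dfffff7e3ffefddffe30c6cfffefdffb4bffecfbbfefdf23023be5fb8f1de058ff0ed7e2b630b87813f97eceffeb6bdd7ffffd5ff45ffbee1fe5ffbf0951d698341f7c6ffffbf17f8e7f3fffffffffffffffffffffffffffbeffffffffffff

-- part: H191/CrossMain
section
prune_inst 0x46100a200000000000000000000000001000000000100040000000080000000080000000002000000000000002812000040400000000000000000000000000a400012000008000000000004000000000000000000000000000000000000000000000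
set_option linter.all false
open scoped Cfsg.Agent.FastGrp

-- part: H191/CrossAct
section
/-!
# Small lemmas for `CROSS`: signs, extension of a linear character
-/

set_option autoImplicit false
set_option linter.unusedSectionVars false

namespace Cfsg.Agent.H191.Cross

universe u v

/-- An elementary abelian 2-group of operators on an abelian group of odd order which does not act trivially
has a nontrivial "eigenvector" with sign. -/
theorem exists_sign {D : Type u} [Group D] [Finite D] {M : Type v} [CommGroup M] [Finite M]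
    [MulDistribMulAction D M] (hodd : Odd (Nat.card M)) (hsq : ∀ (d : D) (m : M), d • d • m = m)
    (hc : ∀ (d e : D) (m : M), d • e • m = e • d • m) (hne : ∃ (d : D) (m : M), d • m ≠ m) :
    ∃ m : M, (∃ d : D, d • m ≠ m) ∧ ∀ d : D, d • m = m ∨ d • m = m⁻¹ := by
  classical
  have hsq1 : ∀ m : M, m = m⁻¹ → m = 1 := by
    intro m hm
    have h1 : m ^ 2 = 1 := by
      rw [pow_two]
      nth_rewrite 2 [hm]
      exact mul_inv_cancel m
    have h2 : orderOf m ∣ 2 := orderOf_dvd_of_pow_eq_one h1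
    have h3 : orderOf m ∣ Nat.card M := orderOf_dvd_natCard m
    have h4 : Nat.Coprime 2 (Nat.card M) := by
      rw [Nat.prime_two.coprime_iff_not_dvd]
      exact hodd.not_two_dvd_nat
    have h5 := Nat.eq_one_of_dvd_coprimes h4 h2 h3
    exact orderOf_eq_one_iff.1 h5
  -- a non-fixed element with maximal stabiliser
  let T : Set M := {m | ∃ d : D, d • m ≠ m}
  have hT : T.Nonempty := by
    obtain ⟨d, m, h⟩ := hne
    exact ⟨m, d, h⟩
  obtain ⟨m, hm, hmax⟩ := T.toFinite.exists_maximalFor (fun m => Nat.card (MulAction.stabilizer D m)) T hT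
  obtain ⟨e, he⟩ := hm
  have hmax' : ∀ n : M, n ∈ T → MulAction.stabilizer D m ≤ MulAction.stabilizer D n →
      MulAction.stabilizer D n = MulAction.stabilizer D m := by
    intro n hn hle
    have h1 : Nat.card (MulAction.stabilizer D m) ≤ Nat.card (MulAction.stabilizer D n) := Subgroup.card_le_of_le hle
    have h2 := hmax hn h1
    exact (Subgroup.eq_of_le_of_card_ge hle h2).symm
  set ν : M := m⁻¹ * e • m with hν
  have heν : e • ν = ν⁻¹ := by
    rw [hν, smul_mul', smul_inv', hsq, mul_inv, inv_inv, mul_comm]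
  have hν1 : ν ≠ 1 := by
    intro h
    apply he
    rw [hν, inv_mul_eq_one] at h
    exact h.symm
  have hνT : e • ν ≠ ν := by
    rw [heν]
    intro h
    exact hν1 (hsq1 ν h.symm)
  have hle : MulAction.stabilizer D m ≤ MulAction.stabilizer D ν := by
    intro d hd
    rw [MulAction.mem_stabilizer_iff] at hd ⊢
    rw [hν, smul_mul', smul_inv', hd, hc, hd]
  have hst := hmax' ν ⟨e, hνT⟩ hle
  clear_value ν
  refine ⟨ν, ⟨e, hνT⟩, fun d => ?_⟩
  by_cases hd : d • ν = ν
  · exact Or.inl hd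
  right
  set κ : M := ν * d • ν with hκ
  have hdκ : d • κ = κ := by
    rw [hκ, smul_mul', hsq, mul_comm]
  have hle2 : MulAction.stabilizer D ν ≤ MulAction.stabilizer D κ := by
    intro c hc2
    rw [MulAction.mem_stabilizer_iff] at hc2 ⊢
    rw [hκ, smul_mul', hc, hc2]
  have hκfix : ∀ c : D, c • κ = κ := by
    by_contra hcon
    push Not at hcon
    have h1 := hmax' κ hcon (hst ▸ hle2)
    rw [← hst] at h1
    have h2 : d ∈ MulAction.stabilizer D κ := hdκ
    rw [h1] at h2
    exact hd h2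
  have heκ : e • κ = κ⁻¹ := by
    rw [hκ, smul_mul', hc, heν, smul_inv', mul_inv]
  have h3 : κ = 1 := hsq1 κ (by rw [← heκ]; exact (hκfix e).symm)
  rw [hκ] at h3
  exact (inv_eq_of_mul_eq_one_right h3).symm

/-- Extension of a linear character when all squares lie in its kernel. -/
theorem exists_ext {P : Type u} [Group P] [Finite P] {V : Type v} [Group V] (f : V →* P)
    (hf : Function.Injective f) (l : V →* ℂˣ)
    (hinv : ∀ (x : P) (v : V), ∃ w : V, x * f v * x⁻¹ = f w ∧ l w = l v)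
    (hsq : ∀ x : P, ∃ v : V, x * x = f v ∧ l v = 1) :
    ∃ φ : P →* ℂˣ, ∀ v, φ (f v) = l v := by
  let K : Subgroup P := l.ker.map f
  have hK : K.Normal := by
    constructor
    rintro _ ⟨v, hv, rfl⟩ x
    obtain ⟨w, hw, hlw⟩ := hinv x v
    refine ⟨w, ?_, hw.symm⟩
    show l w = 1
    rw [hlw]
    exact hv
  have hsq2 : ∀ a : P ⧸ K, a * a = 1 := by
    intro a
    induction a using QuotientGroup.induction_on with
    | H x =>
      obtain ⟨v, hv, hl⟩ := hsq x
      rw [← QuotientGroup.mk_mul, QuotientGroup.eq_one_iff, hv]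
      exact ⟨v, hl, rfl⟩
  have hcomm : ∀ a b : P ⧸ K, a * b = b * a := by
    intro a b
    have e1 : a⁻¹ = a := inv_eq_of_mul_eq_one_left (hsq2 a)
    have e2 : b⁻¹ = b := inv_eq_of_mul_eq_one_left (hsq2 b)
    have e3 : (a * b)⁻¹ = a * b := inv_eq_of_mul_eq_one_left (hsq2 (a * b))
    rw [mul_inv_rev, e1, e2] at e3
    exact e3.symm
  let j : V ⧸ l.ker →* P ⧸ K := QuotientGroup.map l.ker K f (Subgroup.le_comap_map f l.ker)
  have hj : Function.Injective j := by
    rw [injective_iff_map_eq_one]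
    intro a ha
    induction a using QuotientGroup.induction_on with
    | H v =>
      have h1 : (QuotientGroup.mk (f v) : P ⧸ K) = 1 := ha
      rw [QuotientGroup.eq_one_iff] at h1
      obtain ⟨w, hw, hwv⟩ := h1
      rw [QuotientGroup.eq_one_iff]
      rwa [← hf hwv]
  obtain ⟨β, hβ⟩ := CharactersDeep.ElemExt.exists_ext_of_injective hcomm j hj (QuotientGroup.kerLift l)
  refine ⟨β.comp (QuotientGroup.mk' K), fun v => ?_⟩
  have h1 := hβ (QuotientGroup.mk v)
  exact h1

end Cfsg.Agent.H191.Cross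
end

-- part: H191/CrossPsl
section
/-!
# Subgroups of `PSL(2, q)`, `q` even, with a large intersection with a Sylow 2-subgroup
-/

set_option autoImplicit false
set_option linter.unusedSectionVars false
open Cfsg

namespace Cfsg.Agent.H191.Cross

open Cfsg.Agent.ClassicalGeometry

/-- `PSL(2, F)` -/
abbrev P2 (F : Type) [Field F] := Matrix.ProjectiveSpecialLinearGroup (Fin 2) F

section
variable {F : Type} [Field F] [Fintype F]

theorem charTwo (hF : Even (Fintype.card F)) : CharP F 2 := by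
  obtain ⟨p, hp⟩ := CharP.exists F
  have := hp
  obtain ⟨n, hpr, hn⟩ := FiniteField.card F p
  have : p = 2 := by
    have h : 2 ∣ p ^ (n : ℕ) := by rw [← hn]; exact hF.two_dvd
    exact ((Nat.prime_dvd_prime_iff_eq Nat.prime_two hpr).1 (Nat.prime_two.dvd_of_dvd_pow h)).symm
  exact this ▸ hp

theorem card_two_pow (hF : Even (Fintype.card F)) (h4 : 4 < Fintype.card F) :
    ∃ n : ℕ, 3 ≤ n ∧ Fintype.card F = 2 ^ n := by
  have := charTwo hF
  obtain ⟨n, hpr, hn⟩ := FiniteField.card F 2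
  refine ⟨n, ?_, hn⟩
  by_contra hcon
  push Not at hcon
  have : 2 ^ (n : ℕ) ≤ 2 ^ 2 := Nat.pow_le_pow_right (by norm_num) (by omega)
  omega

theorem card_sylow (hF : Even (Fintype.card F)) (h4 : 4 < Fintype.card F)
    (Q : Sylow 2 (P2 F)) : Nat.card Q = Fintype.card F := by
  have := charTwo hF
  obtain ⟨n, hn3, hn⟩ := card_two_pow hF h4
  have h1 : Nat.card (P2 F) = Fintype.card F * (Fintype.card F ^ 2 - 1) :=
    Classification.PSLTwoEvenSylow.card_psl
  rw [Sylow.card_eq_multiplicity, h1, hn]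
  have hodd : ¬ 2 ∣ (2 ^ n) ^ 2 - 1 := by
    have h2 : 2 ∣ (2 ^ n) ^ 2 := (dvd_pow_self 2 (by omega)).trans (dvd_pow_self _ (by norm_num))
    have h3 : 0 < (2 ^ n) ^ 2 := by positivity
    omega
  have h5 : (2 ^ n) ^ 2 - 1 ≠ 0 := by
    intro h0; rw [h0] at hodd; exact hodd (dvd_zero _)
  rw [Nat.factorization_mul (by positivity) h5]
  simp only [Finsupp.coe_add, Pi.add_apply, Nat.factorization_eq_zero_of_not_dvd hodd, add_zero]
  rw [Nat.Prime.factorization_pow Nat.prime_two]
  simp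

/-- the nontrivial elements of a Sylow 2-subgroup are involutions -/
theorem sq_one (hF : Even (Fintype.card F)) (Q : Sylow 2 (P2 F))
    {x : P2 F} (hx : x ∈ Q) : x * x = 1 := by
  have := charTwo hF
  obtain ⟨k, hk⟩ := Q.isPGroup' ⟨x, hx⟩
  exact WeakTI.PslTwo.mul_self (MulEquiv.refl _) (k := k) (by simpa only [_root_.SubmonoidClass.mk_pow, _root_.OneMemClass.coe_one] using congrArg Subtype.val hk)

theorem comm_of (hF : Even (Fintype.card F)) (Q : Sylow 2 (P2 F))
    {x y : P2 F} (hx : x ∈ Q) (hy : y ∈ Q) : x * y = y * x := by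
  have h1 := sq_one hF Q hx
  have h2 := sq_one hF Q hy
  have h3 := sq_one hF Q (mul_mem hx hy)
  have e1 : x⁻¹ = x := inv_eq_of_mul_eq_one_left h1
  have e2 : y⁻¹ = y := inv_eq_of_mul_eq_one_left h2
  have e3 : (x * y)⁻¹ = x * y := inv_eq_of_mul_eq_one_left h3
  rw [mul_inv_rev, e1, e2] at e3
  exact e3.symm

/-- A subgroup of order divisible by `q - 1` normalising a Sylow 2-subgroup `Q` is transitive on the
involutions of `Q`. -/
theorem trans_of_dvd (hF : Even (Fintype.card F)) (h4 : 4 < Fintype.card F)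
    (Q : Sylow 2 (P2 F))
    (J : Subgroup (P2 F))
    (hJ : J ≤ Subgroup.normalizer ((Q : Subgroup (P2 F)) :
      Set (P2 F)))
    (hd : Fintype.card F - 1 ∣ Nat.card J)
    {x y : P2 F} (hx : x ∈ Q) (hx1 : x ≠ 1) (hy : y ∈ Q) (hy1 : y ≠ 1) :
    ∃ g ∈ J, g * x * g⁻¹ = y := by
  classical
  have := charTwo hF
  let _ : MulAction J (P2 F) :=
    MulAction.compHom _ ((MulAut.conj (G := P2 F)).comp J.subtype)
  have hact : ∀ (g : J) (z : P2 F), g • z = (g : P2 F) * z * (g : P2 F)⁻¹ := fun _ _ => rfl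
  have hstab : IsPGroup 2 (MulAction.stabilizer J x) := by
    intro g
    refine ⟨1, ?_⟩
    have h1 : (g : J) • x = x := g.2
    rw [hact] at h1
    have h2 : x * ((g : J) : P2 F) = (g : J) * x := by
      rw [mul_inv_eq_iff_eq_mul] at h1
      exact h1.symm
    have h3 := WeakTI.PslTwo.cent (MulEquiv.refl _) (sq_one hF Q hx) hx1 h2
    apply Subtype.ext
    apply Subtype.ext
    simpa only [pow_succ, _root_.pow_zero, _root_.one_mul, _root_.Subgroup.coe_mul, _root_.OneMemClass.coe_one] using h3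
  obtain ⟨k, hk⟩ := (IsPGroup.iff_card).1 hstab
  have h1 := Subgroup.card_mul_index (MulAction.stabilizer J x)
  rw [MulAction.index_stabilizer, hk] at h1
  obtain ⟨n, hn3, hn⟩ := card_two_pow hF h4
  have hcop : Nat.Coprime (Fintype.card F - 1) (2 ^ k) := by
    apply Nat.Coprime.pow_right
    rw [Nat.coprime_comm, Nat.prime_two.coprime_iff_not_dvd]
    have : 2 ∣ Fintype.card F := hF.two_dvd
    omega
  rw [← h1] at hd
  have h2 := hcop.dvd_of_dvd_mul_left hd
  have hsub : MulAction.orbit J x ⊆ (Q : Set (P2 F)) \ {1} := by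
    rintro z ⟨g, rfl⟩
    show g • x ∈ _
    rw [hact]
    refine ⟨(Subgroup.mem_normalizer_iff.1 (hJ g.2) x).1 hx, ?_⟩
    intro h
    rw [Set.mem_singleton_iff] at h
    apply hx1
    simpa only [_root_.conj_eq_one_iff] using h
  have hcard : ((Q : Set (P2 F)) \ {1}).ncard = Fintype.card F - 1 := by
    rw [Set.ncard_sdiff_singleton_of_mem (one_mem Q)]
    rw [← card_sylow hF h4 Q]
    rfl
  have hpos : 0 < (MulAction.orbit J x).ncard := by
    rw [Set.ncard_pos]
    exact ⟨x, MulAction.mem_orbit_self x⟩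
  have heq : MulAction.orbit J x = (Q : Set (P2 F)) \ {1} := by
    apply Set.eq_of_subset_of_ncard_le hsub
    rw [hcard]
    exact Nat.le_of_dvd hpos h2
  have hyo : y ∈ MulAction.orbit J x := by
    rw [heq]
    exact ⟨hy, hy1⟩
  obtain ⟨g, hg⟩ := hyo
  exact ⟨g, g.2, hg⟩

theorem arith_alt {n N : ℕ} (hn : 3 ≤ n) (hN : N = 12 ∨ N = 24 ∨ N = 60) (h1 : 2 ^ (n - 1) ∣ N)
    (h2 : 2 ^ n - 1 ∣ N ∨ 2 ^ n + 1 ∣ N) : False := by
  have hle : n ≤ 6 := by
    by_contra hcon
    push Not at hcon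
    have h3 : 2 ^ 6 ≤ 2 ^ (n - 1) := Nat.pow_le_pow_right (by norm_num) (by omega)
    have h4 := Nat.le_of_dvd (by omega) h1
    omega
  rcases hN with rfl | rfl | rfl <;> interval_cases n <;> revert h1 h2 <;> decide

/-- **Subgroups of `PSL(2, q)`, `q ≥ 8` even, containing at least half of a Sylow 2-subgroup.** -/
theorem le_normalizer_of_large (hF : Even (Fintype.card F)) (h4 : 4 < Fintype.card F)
    (Q : Sylow 2 (P2 F)) (J : Subgroup (P2 F)) (hJ : J ≠ ⊤)
    (hQ : Fintype.card F ≤ 2 * Nat.card (J ⊓ (Q : Subgroup (P2 F)) : Subgroup (P2 F)))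
    (hd : Fintype.card F - 1 ∣ Nat.card J ∨ Fintype.card F + 1 ∣ Nat.card J) :
    J ≤ Subgroup.normalizer ((Q : Subgroup (P2 F)) : Set (P2 F)) := by
  classical
  have := charTwo hF
  obtain ⟨n, hn3, hn⟩ := card_two_pow hF h4
  have hpg : IsPGroup 2 (J ⊓ (Q : Subgroup (P2 F)) : Subgroup (P2 F)) := Q.isPGroup'.to_le inf_le_right
  obtain ⟨a, ha⟩ := (IsPGroup.iff_card).1 hpg
  have han : n ≤ a + 1 := by
    rw [ha, hn, ← pow_succ'] at hQ
    exact (Nat.pow_le_pow_iff_right (by norm_num)).1 hQ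
  have hdJ : 2 ^ (n - 1) ∣ Nat.card J := by
    have h1 : 2 ^ (n - 1) ∣ 2 ^ a := pow_dvd_pow 2 (by omega)
    rw [← ha] at h1
    exact h1.trans (Subgroup.card_dvd_of_le inf_le_left)
  have h4J : 4 ∣ Nat.card J := by
    have h1 : 2 ^ 2 ∣ 2 ^ (n - 1) := pow_dvd_pow 2 (by omega)
    exact (by norm_num : (4 : ℕ) = 2 ^ 2) ▸ h1.trans hdJ
  -- it suffices to find a nontrivial normal 2-subgroup
  have key : ∀ R : Subgroup J, R.Normal → IsPGroup 2 R → R ≠ ⊥ →
      J ≤ Subgroup.normalizer ((Q : Subgroup (P2 F)) : Set (P2 F)) := by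
    intro R hR hRp hR1
    obtain ⟨P, hRP, hJP⟩ := PSL2ElemOrder.le_normalizer_of_normal 2 J (R.map J.subtype)
      (hRp.map _) (by
        intro h
        apply hR1
        rw [Subgroup.map_eq_bot_iff_of_injective _ J.subtype_injective] at h
        exact h)
      (by
        intro g hg
        rw [Subgroup.mem_normalizer_iff]
        intro h
        constructor
        · rintro ⟨r, hr, rfl⟩
          exact ⟨⟨g, hg⟩ * r * ⟨g, hg⟩⁻¹, hR.conj_mem r hr _, rfl⟩
        · rintro ⟨r, hr, hr2⟩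
          refine ⟨⟨g, hg⟩⁻¹ * r * ⟨g, hg⟩, ?_, ?_⟩
          · have := hR.conj_mem r hr (⟨g, hg⟩ : J)⁻¹
            simpa only [_root_.SetLike.mem_coe, _root_.inv_inv] using this
          · have h3 : (r : P2 F) = g * h * g⁻¹ := hr2
            show g⁻¹ * (r : P2 F) * g = h
            rw [h3]
            group)
    have h5 : J ⊓ (Q : Subgroup (P2 F)) ≤ (P : Subgroup (P2 F)) := by
      have h6 : J ⊓ (Q : Subgroup (P2 F)) ⊓
          Subgroup.normalizer ((P : Subgroup (P2 F)) : Set (P2 F)) = J ⊓ (Q : Subgroup (P2 F)) ⊓ (P : Subgroup (P2 F)) :=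
        hpg.inf_normalizer_sylow P
      have h7 : J ⊓ (Q : Subgroup (P2 F)) ≤ J ⊓ (Q : Subgroup (P2 F)) ⊓
          Subgroup.normalizer ((P : Subgroup (P2 F)) : Set (P2 F)) :=
        le_inf le_rfl (inf_le_left.trans hJP)
      rw [h6] at h7
      exact h7.trans inf_le_right
    have hne : (J ⊓ (Q : Subgroup (P2 F)) : Subgroup (P2 F)) ≠ ⊥ := by
      intro h0
      rw [h0] at hQ
      simp only [_root_.Subgroup.mem_bot, _root_.Nat.card_eq_fintype_card, _root_.Fintype.card_unique, _root_.mul_one] at hQ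
      omega
    obtain ⟨x, hx, hx1⟩ := (Subgroup.bot_or_exists_ne_one _).resolve_left hne
    have h8 : P = Q := PSL2ElemOrder.sylow_eq_of_mem 2 P Q x hx1 (h5 hx) (hx.2)
    rw [← h8]
    exact hJP
  have hgcd : Nat.gcd 2 (Fintype.card F - 1) = 1 := by
    have h2 : 2 ∣ Fintype.card F := hF.two_dvd
    rw [← Nat.coprime_iff_gcd_eq_one, Nat.prime_two.coprime_iff_not_dvd]
    omega
  rcases S0799.result (F := F) rfl 2 J with h | h | h | h | h | h
  · exfalso
    obtain ⟨k, hk, hk2⟩ := h
    rw [hgcd, Nat.div_one, Nat.div_one] at hk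
    have hodd : ¬ 2 ∣ k := by
      intro h2
      have h3 : 2 ∣ Fintype.card F := hF.two_dvd
      rcases hk with hk | hk
      · have := h2.trans hk
        omega
      · have := h2.trans hk
        omega
    rcases hk2 with ⟨-, hk2⟩ | ⟨⟨e⟩⟩
    · rw [hk2] at h4J
      omega
    · rw [Nat.card_congr e.toEquiv, DihedralGroup.nat_card] at h4J
      omega
  · obtain ⟨P, K, hKP, ⟨e⟩⟩ := h
    -- `P ∩ K` pulled back
    let R : Subgroup J := ((P : Subgroup (P2 F)).subgroupOf K).comap e.toMonoidHom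
    have hRn : R.Normal := by
      have h1 : ((P : Subgroup (P2 F)).subgroupOf K).Normal := Subgroup.normal_subgroupOf_of_le_normalizer hKP
      exact Subgroup.Normal.comap h1 _
    have hRp : IsPGroup 2 R := by
      apply IsPGroup.comap_of_injective _ _ e.injective
      exact (P.isPGroup'.comap_subtype)
    refine key R hRn hRp ?_
    intro h0
    have h1 : (P : Subgroup (P2 F)).subgroupOf K = ⊥ := by
      have h2 : R.map e.toMonoidHom = (P : Subgroup (P2 F)).subgroupOf K :=
        Subgroup.map_comap_eq_self_of_surjective e.surjective _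
      rw [← h2, h0, Subgroup.map_bot]
    -- `K` has even order, so an involution
    have h2 : 2 ∣ Nat.card K := by
      rw [← Nat.card_congr e.toEquiv]
      exact (by norm_num : (2 : ℕ) ∣ 4).trans h4J
    obtain ⟨x, hx⟩ := exists_prime_orderOf_dvd_card' 2 h2
    have h3 : IsPGroup 2 (Subgroup.zpowers (x : P2 F)) := by
      apply IsPGroup.of_card (n := 1)
      rw [Nat.card_zpowers, pow_one]
      simpa using hx
    have h4 : Subgroup.zpowers (x : P2 F) ⊓ Subgroup.normalizer ((P : Subgroup (P2 F)) : Set (P2 F)) =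
        Subgroup.zpowers (x : P2 F) ⊓ (P : Subgroup (P2 F)) := h3.inf_normalizer_sylow P
    have h5 : (x : P2 F) ∈ (P : Subgroup (P2 F)) := by
      have h6 : (x : P2 F) ∈ Subgroup.zpowers (x : P2 F) ⊓ Subgroup.normalizer ((P : Subgroup (P2 F)) : Set (P2 F)) :=
        ⟨Subgroup.mem_zpowers _, hKP x.2⟩
      rw [h4] at h6
      exact h6.2
    have h6 : x ∈ (P : Subgroup (P2 F)).subgroupOf K := h5
    rw [h1, Subgroup.mem_bot] at h6
    rw [h6, orderOf_one] at hx
    omega
  · exfalso
    obtain ⟨e⟩ := h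
    have hc : Nat.card J = 12 := by
      rw [Nat.card_congr e.toEquiv, nat_card_alternatingGroup]
      simp; decide
    rw [hc, hn] at hd
    rw [hc] at hdJ
    exact arith_alt hn3 (Or.inl rfl) hdJ hd
  · exfalso
    obtain ⟨e⟩ := h
    have hc : Nat.card J = 24 := by
      rw [Nat.card_congr e.toEquiv, Nat.card_perm]
      simp; decide
    rw [hc, hn] at hd
    rw [hc] at hdJ
    exact arith_alt hn3 (Or.inr (Or.inl rfl)) hdJ hd
  · exfalso
    obtain ⟨e⟩ := h
    have hc : Nat.card J = 60 := by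
      rw [Nat.card_congr e.toEquiv, nat_card_alternatingGroup]
      simp; decide
    rw [hc, hn] at hd
    rw [hc] at hdJ
    exact arith_alt hn3 (Or.inr (Or.inr rfl)) hdJ hd
  · exfalso
    obtain ⟨K, iK, iK2, m, hm, h⟩ := h
    have hm0 : m ≠ 0 := by
      rintro rfl
      rw [pow_zero] at hm
      omega
    have hKe : Even (Fintype.card K) := by
      rw [even_iff_two_dvd]
      have h2 : 2 ∣ Fintype.card F := hF.two_dvd
      rw [← hm] at h2
      exact Nat.prime_two.dvd_of_dvd_pow h2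
    have hc : Nat.card J = Fintype.card K * (Fintype.card K ^ 2 - 1) := by
      have := charTwo hKe
      rcases h with ⟨⟨e⟩⟩ | ⟨⟨e⟩⟩
      · rw [Nat.card_congr e.toEquiv]
        exact Classification.PSLTwoEvenSylow.card_psl
      · rw [Nat.card_congr e.toEquiv]
        exact PSL2Basic.card_PGL2 K
    rcases (show m = 1 ∨ 2 ≤ m by omega) with rfl | hm2
    · rw [pow_one] at hm
      apply hJ
      apply Subgroup.eq_top_of_card_eq
      rw [hc, hm]
      exact Classification.PSLTwoEvenSylow.card_psl.symm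
    · have hK2 : 2 ≤ Fintype.card K := Fintype.one_lt_card
      have h6 : Fintype.card K ^ 2 ≤ Fintype.card F := by
        rw [← hm]
        exact Nat.pow_le_pow_right (by omega) hm2
      have hodd : ¬ 2 ∣ Fintype.card K ^ 2 - 1 := by
        have h2 : 2 ∣ Fintype.card K ^ 2 := (hKe.two_dvd).trans (dvd_pow_self _ (by norm_num))
        have h3 : 0 < Fintype.card K ^ 2 := by positivity
        omega
      rw [hc] at hdJ
      have h7 : 2 ^ (n - 1) ∣ Fintype.card K :=
        (Nat.Coprime.pow_left _ ((Nat.prime_two.coprime_iff_not_dvd).2 hodd)).dvd_of_dvd_mul_right hdJ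
      have h8 := Nat.le_of_dvd (by omega) h7
      have h9 : 2 ^ n = 2 * 2 ^ (n - 1) := by rw [← pow_succ']; congr 1; omega
      rw [hn, h9] at h6
      have h10 : Fintype.card K ≤ 2 := by nlinarith only [h6, h8]
      have h11 : 2 ^ 2 ≤ 2 ^ (n - 1) := Nat.pow_le_pow_right (by norm_num) (by omega)
      omega

end

end Cfsg.Agent.H191.Cross
end

-- part: H191/CrossClif
section
/-!
# Two Clifford steps: a degree divisible by `|X : I| · |I : S|`

`V` normal in `X`, `l` a linear character of `V` with inertia group `I`, `P` normal in `I`, `V ≤ P`, `φ` a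
linear character of `P` extending `l`, `S` the inertia group of `φ` in `I`.
-/

set_option autoImplicit false
set_option linter.style.haveILetI false
set_option linter.unusedSectionVars false
open Cfsg

namespace Cfsg.Agent.H191.Cross

open Cfsg.Agent.Characters.Core Cfsg.Agent.Characters.Clifford
open Cfsg.Agent.H672
open Cfsg.Agent.OddOrderCharacters.PF9.CliffGen (resTo irr_ind)
open scoped ComplexConjugate

universe u

theorem exists_degree {X : Type u} [Group X] [Finite X] (V I : Subgroup X) [hV : V.Normal]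
    (l : V →* ℂˣ) (hI : inertia V (lf l) = I) (P : Subgroup I) [P.Normal]
    (hVI : V ≤ I) (hVP : ∀ v : V, (⟨v, hVI v.2⟩ : I) ∈ P) (φ : P →* ℂˣ)
    (hφ : ∀ v : V, φ ⟨⟨v, hVI v.2⟩, hVP v⟩ = l v) :
    ∃ d ∈ charDegrees X, I.index * (H672.inertia P (lf φ)).index ∣ d := by
  classical
  letI := Fintype.ofFinite X
  letI := Fintype.ofFinite V
  letI := Fintype.ofFinite I
  letI := Fintype.ofFinite P
  obtain ⟨ψ, hψ, hψo⟩ := exists_over P (lf φ) (isIrr_lf φ)
  have hdvd := index_mul_charDegree_dvd P hψ (isIrr_lf φ) hψo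
  rw [charDegree_lf, mul_one] at hdvd
  -- over `l`
  let f : V →* P := (Subgroup.inclusion hVI).codRestrict P hVP
  have hov : Over (P.subtype.comp f) ψ (lf l) := by
    rw [over_comp_iff P.subtype f (isIrr_isCharacter hψ) (isIrr_lf l)]
    refine ⟨lf φ, isIrr_lf φ, hψo, ?_⟩
    have e : (lf φ) ∘ f = lf l := by
      funext v
      show (φ (f v) : ℂ) = (l v : ℂ)
      rw [← hφ v]
      rfl
    rw [over_iff, e]
    rw [classInner_irr_self (isIrr_lf l)]
    exact one_ne_zero
  rw [over_iff] at hov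
  have h0 : classInner (resTo hVI ψ) (lf l) ≠ 0 := hov
  have hT : ∀ g, g ∈ I ↔ Cfsg.Agent.OddOrderCharacters.NormalInduced.conjFn V (lf l) g = lf l := by
    intro g
    rw [← hI]
    exact Iff.rfl
  have hirr := irr_ind (isIrr_lf l) hT hVI hψ h0
  refine ⟨charDegree (indFun I ψ), ⟨⟨_, hirr⟩, rfl⟩, ?_⟩
  have hdeg : charDegree (indFun I ψ) = I.index * charDegree ψ := by
    apply charDegree_of_eq
    rw [OddOrderCharacters.InertiaAbelian.indFun_one, ← coe_charDegree hψ]
    push_cast
    rfl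
  rw [hdeg]
  exact Nat.mul_dvd_mul_left _ hdvd

/-- One Clifford step. -/
theorem exists_degree_one {X : Type u} [Group X] [Finite X] (V : Subgroup X) [hV : V.Normal]
    (l : V →* ℂˣ) : ∃ d ∈ charDegrees X, (inertia V (lf l)).index ∣ d := by
  obtain ⟨χ, hχ, hov⟩ := exists_over V (lf l) (isIrr_lf l)
  have := index_mul_charDegree_dvd V hχ (isIrr_lf l) hov
  rw [charDegree_lf, mul_one] at this
  exact ⟨charDegree χ, ⟨⟨χ, hχ⟩, rfl⟩, this⟩

end Cfsg.Agent.H191.Cross
end

-- part: H191/CrossMain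
section
/-!
# CROSS: a minimal normal abelian noncentral subgroup with quotient `PSL(2, q)`, `q ≥ 8` even

Some character degree is divisible by a prime divisor of `q - 1` times a prime divisor of `q + 1`.
-/

set_option autoImplicit false
set_option linter.unusedSectionVars false
open Cfsg

namespace Cfsg.Agent.H191.Cross

open Cfsg.Agent.Characters.Core
open Cfsg.Agent.H672

universe u

section act
variable {X : Type u} [Group X] [Finite X] (V : Subgroup X) [hVn : V.Normal]

/-- The action on the linear characters of a normal subgroup. -/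
@[reducible] def act : MulDistribMulAction X (V →* ℂˣ) where
  smul x l := l.comp (MulAut.conjNormal x⁻¹ : MulAut V).toMonoidHom
  one_smul l := by
    ext v
    show ((l ((MulAut.conjNormal (1 : X)⁻¹ : MulAut V) v) : ℂˣ) : ℂ) = l v
    rw [inv_one, map_one]
    rfl
  mul_smul x y l := by
    ext v
    show ((l ((MulAut.conjNormal (x * y)⁻¹ : MulAut V) v) : ℂˣ) : ℂ) =
      l ((MulAut.conjNormal y⁻¹ : MulAut V) ((MulAut.conjNormal x⁻¹ : MulAut V) v))
    rw [mul_inv_rev, map_mul]
    rfl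
  smul_mul x l m := rfl
  smul_one x := rfl

theorem act_eq_iff (x : X) (l : V →* ℂˣ) :
    letI := act V
    x • l = l ↔ x ∈ inertia V (lf l) := by
  let _ := act V
  rw [← inv_mem_iff, mem_inertia_lf]
  constructor
  · intro h v
    exact DFunLike.congr_fun h v
  · intro h
    ext v
    exact congrArg _ (h v)

end act

section main
variable {X : Type u} [Group X] [Finite X] (V : Subgroup X) [hVn : V.Normal]
  {F : Type} [Field F] [Fintype F] (π : X →* P2 F)

theorem le_inertia' (hVc : ∀ x ∈ V, ∀ y ∈ V, x * y = y * x) (l : V →* ℂˣ) : V ≤ inertia V (lf l) := by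
  intro x hx
  rw [mem_inertia_lf]
  intro n
  congr 1
  apply Subtype.ext
  show x * n * x⁻¹ = n
  rw [hVc x hx n n.2, mul_inv_cancel_right]

theorem index_map (hVc : ∀ x ∈ V, ∀ y ∈ V, x * y = y * x) (hπ : Function.Surjective π) (hker : π.ker = V)
    (l : V →* ℂˣ) : ((inertia V (lf l)).map π).index = (inertia V (lf l)).index :=
  Subgroup.index_map_eq _ hπ (hker ▸ le_inertia' V hVc l)

theorem mem_map_iff (hVc : ∀ x ∈ V, ∀ y ∈ V, x * y = y * x) (hker : π.ker = V)
    (l : V →* ℂˣ) (x : X) : π x ∈ (inertia V (lf l)).map π ↔ x ∈ inertia V (lf l) := by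
  constructor
  · rintro ⟨y, hy, hxy⟩
    have h1 : y⁻¹ * x ∈ V := by
      rw [← hker, MonoidHom.mem_ker, map_mul, map_inv, hxy, inv_mul_cancel]
    have h2 := mul_mem hy (le_inertia' V hVc l h1)
    simpa using h2
  · intro h
    exact ⟨x, h, rfl⟩

theorem coprime_pm (hF : Even (Fintype.card F)) : Nat.Coprime (Fintype.card F - 1) (Fintype.card F + 1) := by
  have h2 : 2 ∣ Fintype.card F := hF.two_dvd
  have h1 : 1 < Fintype.card F := Fintype.one_lt_card
  have h3 : Fintype.card F + 1 = (Fintype.card F - 1) + 2 := by omega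
  rw [h3, Nat.coprime_self_add_right, Nat.coprime_comm, Nat.prime_two.coprime_iff_not_dvd]
  omega

/-- no degree is divisible by a prime of `q - 1` times a prime of `q + 1` -/
def No (X : Type u) [Group X] (q : ℕ) : Prop :=
  ∀ r s : ℕ, r.Prime → s.Prime → r ∣ q - 1 → s ∣ q + 1 → ∀ d ∈ charDegrees X, ¬ r * s ∣ d

theorem dichotomy (hF : Even (Fintype.card F)) (hno : No X (Fintype.card F))
    (hVc : ∀ x ∈ V, ∀ y ∈ V, x * y = y * x) (hπ : Function.Surjective π) (hker : π.ker = V)
    (l : V →* ℂˣ) :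
    (Nat.Coprime (Fintype.card F - 1) ((inertia V (lf l)).map π).index ∧
      Fintype.card F - 1 ∣ Nat.card ((inertia V (lf l)).map π)) ∨
    (Nat.Coprime (Fintype.card F + 1) ((inertia V (lf l)).map π).index ∧
      Fintype.card F + 1 ∣ Nat.card ((inertia V (lf l)).map π)) := by
  have := charTwo hF
  have h1 : 1 < Fintype.card F := Fintype.one_lt_card
  have hcard : Nat.card (P2 F) = Fintype.card F * (Fintype.card F ^ 2 - 1) :=
    Classification.PSLTwoEvenSylow.card_psl
  have hfac : Fintype.card F ^ 2 - 1 = (Fintype.card F - 1) * (Fintype.card F + 1) := by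
    obtain ⟨m, hm⟩ : ∃ m, Fintype.card F = m + 1 := ⟨Fintype.card F - 1, by omega⟩
    rw [hm]
    simp only [Nat.add_sub_cancel]
    have : (m + 1) ^ 2 = m * (m + 1 + 1) + 1 := by ring
    omega
  have hmul := Subgroup.card_mul_index ((inertia V (lf l)).map π)
  by_cases ha : Nat.Coprime (Fintype.card F - 1) ((inertia V (lf l)).map π).index
  · left
    refine ⟨ha, ha.dvd_of_dvd_mul_right ?_⟩
    rw [hmul, hcard, hfac]
    exact (Dvd.intro _ rfl).mul_left _
  by_cases hb : Nat.Coprime (Fintype.card F + 1) ((inertia V (lf l)).map π).index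
  · right
    refine ⟨hb, hb.dvd_of_dvd_mul_right ?_⟩
    rw [hmul, hcard, hfac]
    exact (Dvd.intro_left _ rfl).mul_left _
  exfalso
  obtain ⟨r, hr, hr1, hr2⟩ := Nat.Prime.not_coprime_iff_dvd.1 ha
  obtain ⟨s, hs, hs1, hs2⟩ := Nat.Prime.not_coprime_iff_dvd.1 hb
  obtain ⟨d, hd, hdd⟩ := exists_degree_one V l
  refine hno r s hr hs hr1 hs1 d hd ?_
  rw [← index_map V π hVc hπ hker l] at hdd
  have hrs : Nat.Coprime r s := Nat.Coprime.coprime_dvd_left hr1
    (Nat.Coprime.coprime_dvd_right hs1 (coprime_pm hF))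
  exact (hrs.mul_dvd_of_dvd_of_dvd hr2 hs2).trans hdd

theorem key (hF : Even (Fintype.card F)) (h4 : 4 < Fintype.card F) (hno : No X (Fintype.card F))
    (hVc : ∀ x ∈ V, ∀ y ∈ V, x * y = y * x) (hπ : Function.Surjective π) (hker : π.ker = V)
    (Q : Sylow 2 (P2 F)) (l : V →* ℂˣ) (hJ : (inertia V (lf l)).map π ≠ ⊤)
    (hQ : Fintype.card F ≤ 2 * Nat.card ((inertia V (lf l)).map π ⊓ (Q : Subgroup (P2 F)) : Subgroup (P2 F))) :
    (inertia V (lf l)).map π ≤ Subgroup.normalizer ((Q : Subgroup (P2 F)) : Set (P2 F)) ∧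
    Fintype.card F + 1 ∣ ((inertia V (lf l)).map π).index ∧
    Fintype.card F - 1 ∣ Nat.card ((inertia V (lf l)).map π) ∧
    (Q : Subgroup (P2 F)) ≤ (inertia V (lf l)).map π := by
  have := charTwo hF
  have hdi := dichotomy V π hF hno hVc hπ hker l
  have hle := le_normalizer_of_large hF h4 Q _ hJ hQ (hdi.imp (fun h => h.2) (fun h => h.2))
  have hidx : Fintype.card F + 1 ∣ ((inertia V (lf l)).map π).index := by
    rw [← H436.TT.index_normalizer 2 Q]
    exact Subgroup.index_dvd_of_le hle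
  have hq1 : Fintype.card F - 1 ∣ Nat.card ((inertia V (lf l)).map π) := by
    rcases hdi with h | h
    · exact h.2
    · exfalso
      have h1 := Nat.eq_one_of_dvd_coprimes h.1 dvd_rfl hidx
      omega
  refine ⟨hle, hidx, hq1, ?_⟩
  -- a nontrivial element of the intersection
  have hne : ((inertia V (lf l)).map π ⊓ (Q : Subgroup (P2 F)) : Subgroup (P2 F)) ≠ ⊥ := by
    intro h0
    rw [h0] at hQ
    simp only [_root_.Subgroup.mem_bot, _root_.Nat.card_eq_fintype_card, _root_.Fintype.card_unique, _root_.mul_one] at hQ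
    omega
  obtain ⟨x, hx, hx1⟩ := (Subgroup.bot_or_exists_ne_one _).resolve_left hne
  intro y hy
  by_cases hy1 : y = 1
  · rw [hy1]; exact one_mem _
  obtain ⟨g, hg, hgy⟩ := trans_of_dvd hF h4 Q _ hle hq1 hx.2 hx1 hy hy1
  rw [← hgy]
  exact mul_mem (mul_mem hg hx.1) (inv_mem hg)

/-- elements of `Q.comap π` have square in `V` -/
theorem sq_mem (hF : Even (Fintype.card F)) (hker : π.ker = V) (Q : Sylow 2 (P2 F)) {x : X}
    (hx : π x ∈ Q) : x * x ∈ V := by
  rw [← hker, MonoidHom.mem_ker, map_mul]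
  exact sq_one hF Q hx

theorem comm_mem (hF : Even (Fintype.card F)) (hker : π.ker = V) (Q : Sylow 2 (P2 F)) {x y : X}
    (hx : π x ∈ Q) (hy : π y ∈ Q) : (y * x)⁻¹ * (x * y) ∈ V := by
  rw [← hker, MonoidHom.mem_ker, map_mul, map_inv, map_mul, map_mul, comm_of hF Q hx hy, inv_mul_cancel]

/-- the odd case -/
theorem odd_case (hF : Even (Fintype.card F)) (h4 : 4 < Fintype.card F) (hno : No X (Fintype.card F))
    (hVc : ∀ x ∈ V, ∀ y ∈ V, x * y = y * x) (hπ : Function.Surjective π) (hker : π.ker = V)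
    (Q : Sylow 2 (P2 F)) (hfin : Finite (V →* ℂˣ)) (hodd : Odd (Nat.card (V →* ℂˣ)))
    (hne : ∃ x : X, π x ∈ Q ∧ ∃ l : V →* ℂˣ, x ∉ inertia V (lf l)) : False := by
  classical
  let _ := act V
  let D : Subgroup X := (Q : Subgroup (P2 F)).comap π
  have hVfix : ∀ v ∈ V, ∀ l : V →* ℂˣ, v • l = l := fun v hv l =>
    (act_eq_iff V v l).2 (le_inertia' V hVc l hv)
  obtain ⟨l, ⟨d, hd⟩, hl⟩ := exists_sign (D := D) (M := V →* ℂˣ) hodd
    (by
      intro d m
      rw [← mul_smul]
      exact hVfix _ (sq_mem V π hF hker Q d.2) m)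
    (by
      intro d e m
      rw [← mul_smul, ← mul_smul]
      have h1 : ((d * e : D) : X) = (e * d : X) * ((e * d : X)⁻¹ * (d * e : X)) := by
        rw [mul_inv_cancel_left]; rfl
      show ((d * e : D) : X) • m = ((e * d : D) : X) • m
      rw [h1, mul_smul, hVfix _ (comm_mem V π hF hker Q d.2 e.2) m]
      rfl)
    (by
      obtain ⟨x, hx, l, hl⟩ := hne
      refine ⟨⟨x, hx⟩, l, ?_⟩
      intro h
      exact hl ((act_eq_iff V x l).1 h))
  have hdn : π d ∉ (inertia V (lf l)).map π := by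
    rw [mem_map_iff V π hVc hker l, ← act_eq_iff]
    exact hd
  have hJ : (inertia V (lf l)).map π ≠ ⊤ := by
    intro h
    rw [h] at hdn
    exact hdn (Subgroup.mem_top _)
  have hl1 : l⁻¹ ≠ l := by
    intro h
    apply hd
    rcases hl d with h1 | h1
    · exact h1
    · rw [h1, h]
  have hidx : (((inertia V (lf l)).map π).subgroupOf (Q : Subgroup (P2 F))).index = 2 := by
    rw [Subgroup.index_eq_two_iff]
    refine ⟨⟨π d, d.2⟩, ?_⟩
    rintro ⟨b, hb⟩
    obtain ⟨x, rfl⟩ := hπ b
    rw [Subgroup.mem_subgroupOf, Subgroup.mem_subgroupOf]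
    show Xor (π x * π (d : X) ∈ _) (π x ∈ _)
    rw [← map_mul, mem_map_iff V π hVc hker l, mem_map_iff V π hVc hker l, ← act_eq_iff, ← act_eq_iff, mul_smul]
    have hd1 : (d : X) • l = l⁻¹ := (hl d).resolve_left hd
    have e1 : x • l⁻¹ = (x • l)⁻¹ := rfl
    rw [hd1, e1]
    rcases hl ⟨x, hb⟩ with h1 | h1
    · have h2 : x • l = l := h1
      right
      rw [h2]
      exact ⟨rfl, hl1⟩
    · have h2 : x • l = l⁻¹ := h1
      left
      rw [h2]
      exact ⟨inv_inv l, hl1⟩
  have hcard : Fintype.card F ≤ 2 * Nat.card ((inertia V (lf l)).map π ⊓ (Q : Subgroup (P2 F)) : Subgroup (P2 F)) := by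
    have h1 := Subgroup.card_mul_index (((inertia V (lf l)).map π).subgroupOf (Q : Subgroup (P2 F)))
    rw [hidx] at h1
    have h2 : Nat.card (((inertia V (lf l)).map π).subgroupOf (Q : Subgroup (P2 F))) =
        Nat.card ((inertia V (lf l)).map π ⊓ (Q : Subgroup (P2 F)) : Subgroup (P2 F)) := by
      rw [← Subgroup.subgroupOf_map_subtype]
      exact (Nat.card_congr (Subgroup.equivMapOfInjective _ _ (Subgroup.subtype_injective _)).toEquiv)
    have h3 := card_sylow hF h4 Q
    have h5 : Nat.card (Q : Subgroup (P2 F)) = Fintype.card F := h3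
    rw [← h2]
    omega
  obtain ⟨-, -, -, h5⟩ := key V π hF h4 hno hVc hπ hker Q l hJ hcard
  exact hdn (h5 d.2)

theorem exists_lin {A : Type*} [Group A] [Finite A] (hc : ∀ a b : A, a * b = b * a) {a : A} (ha : a ≠ 1) :
    ∃ l : A →* ℂˣ, l a ≠ 1 := by
  let _ : CommGroup A := { (inferInstance : Group A) with mul_comm := hc }
  exact CommGroup.exists_apply_ne_one_of_hasEnoughRootsOfUnity A ℂ ha

theorem card_lin {A : Type*} [Group A] [Finite A] (hc : ∀ a b : A, a * b = b * a) :
    Nat.card (A →* ℂˣ) = Nat.card A := by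
  let _ : CommGroup A := { (inferInstance : Group A) with mul_comm := hc }
  exact CommGroup.card_monoidHom_of_hasEnoughRootsOfUnity A ℂ

/-- **The even case.** -/
theorem even_case (hF : Even (Fintype.card F)) (h4 : 4 < Fintype.card F) (hno : No X (Fintype.card F))
    (hVc : ∀ x ∈ V, ∀ y ∈ V, x * y = y * x) (hπ : Function.Surjective π) (hker : π.ker = V)
    (Q : Sylow 2 (P2 F)) (hV2 : ∀ v ∈ V, v * v = 1) (l : V →* ℂˣ)
    (hfix : ∀ x : X, π x ∈ Q → x ∈ inertia V (lf l))
    (hJ : (inertia V (lf l)).map π ≠ ⊤) : False := by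
  classical
  have := charTwo hF
  have hVI : V ≤ inertia V (lf l) := le_inertia' V hVc l
  have hQJ : (Q : Subgroup (P2 F)) ≤ (inertia V (lf l)).map π := by
    intro b hb
    obtain ⟨x, rfl⟩ := hπ b
    exact ⟨x, hfix x hb, rfl⟩
  have hcQ : Nat.card (Q : Subgroup (P2 F)) = Fintype.card F := card_sylow hF h4 Q
  have hcard : Fintype.card F ≤ 2 * Nat.card ((inertia V (lf l)).map π ⊓ (Q : Subgroup (P2 F)) : Subgroup (P2 F)) := by
    rw [inf_eq_right.2 hQJ, hcQ]
    omega
  obtain ⟨hle, hidx, hq1, -⟩ := key V π hF h4 hno hVc hπ hker Q l hJ hcard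
  -- the extended function
  let L : X → ℂˣ := fun x => if h : x ∈ V then l ⟨x, h⟩ else 1
  have hLdef : ∀ x (h : x ∈ V), L x = l ⟨x, h⟩ := fun x h => dif_pos h
  have hLmul : ∀ a ∈ V, ∀ b ∈ V, L (a * b) = L a * L b := by
    intro a ha b hb
    rw [hLdef _ (mul_mem ha hb), hLdef a ha, hLdef b hb, ← map_mul]
    rfl
  have hL1 : L 1 = 1 := by
    rw [hLdef 1 (one_mem V)]
    exact map_one l
  have hLconj : ∀ g ∈ inertia V (lf l), ∀ a ∈ V, L (g * a * g⁻¹) = L a := by
    intro g hg a ha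
    rw [hLdef _ (hVn.conj_mem a ha g), hLdef a ha]
    exact (mem_inertia_lf V).1 hg ⟨a, ha⟩
  have hLconj' : ∀ g ∈ inertia V (lf l), ∀ a ∈ V, L (g⁻¹ * a * g) = L a := by
    intro g hg a ha
    have := hLconj g⁻¹ (inv_mem hg) a ha
    rwa [inv_inv] at this
  have hsqV : ∀ x, π x ∈ Q → x * x ∈ V := fun x hx => sq_mem V π hF hker Q hx
  have hA : ∀ y, π y ∈ Q → ∀ v ∈ V, L ((y * v) * (y * v)) = L (y * y) := by
    intro y hy v hv
    have h1 : (y * v) * (y * v) = (y * y) * ((y⁻¹ * v * y) * v) := by group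
    have h2 : y⁻¹ * v * y ∈ V := by
      have := hVn.conj_mem v hv y⁻¹
      rwa [inv_inv] at this
    rw [h1, hLmul _ (hsqV y hy) _ (mul_mem h2 hv), hLmul _ h2 _ hv, hLconj' y (hfix y hy) v hv,
      ← hLmul v hv v hv, hV2 v hv, hL1, mul_one]
  have hB : ∀ x y, π x ∈ Q → π x ≠ 1 → π y ∈ Q → π y ≠ 1 → L (x * x) = L (y * y) := by
    intro x y hx hx1 hy hy1
    obtain ⟨g0, ⟨g, hg, rfl⟩, hgxy⟩ := trans_of_dvd hF h4 Q _ hle hq1 hx hx1 hy hy1
    have hv : (g * x * g⁻¹)⁻¹ * y ∈ V := by
      rw [← hker, MonoidHom.mem_ker, map_mul, map_inv, map_mul, map_mul, map_inv, hgxy, inv_mul_cancel]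
    have h1 : y = (g * x * g⁻¹) * ((g * x * g⁻¹)⁻¹ * y) := by group
    have h2 : π (g * x * g⁻¹) ∈ Q := by
      rw [map_mul, map_mul, map_inv, hgxy]
      exact hy
    rw [h1, hA _ h2 _ hv]
    have h3 : (g * x * g⁻¹) * (g * x * g⁻¹) = g * (x * x) * g⁻¹ := by group
    rw [h3, hLconj g hg _ (hsqV x hx)]
  -- the commutator form
  have hcm : ∀ a b, π a ∈ Q → π b ∈ Q → a⁻¹ * b * a * b⁻¹ ∈ V := by
    intro a b ha hb
    rw [← hker, MonoidHom.mem_ker]
    have h1 := comm_of hF Q ha hb
    simp only [map_mul, map_inv]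
    rw [mul_assoc, mul_assoc, ← mul_assoc (π b), ← h1, mul_assoc, mul_inv_cancel, mul_one, inv_mul_cancel]
  have hC : ∀ a b, π a ∈ Q → π b ∈ Q → L ((a * b) * (a * b)) = L (a * a) * L (b * b) * L (a⁻¹ * b * a * b⁻¹) := by
    intro a b ha hb
    have h1 : (a * b) * (a * b) = (a * a) * ((a⁻¹ * b * a * b⁻¹) * (b * b)) := by group
    rw [h1, hLmul _ (hsqV a ha) _ (mul_mem (hcm a b ha hb) (hsqV b hb)), hLmul _ (hcm a b ha hb) _ (hsqV b hb),
      mul_comm (L (a⁻¹ * b * a * b⁻¹)) (L (b * b)), ← mul_assoc]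
  have hD : ∀ a b c, π a ∈ Q → π b ∈ Q → π c ∈ Q →
      L (a⁻¹ * (b * c) * a * (b * c)⁻¹) = L (a⁻¹ * b * a * b⁻¹) * L (a⁻¹ * c * a * c⁻¹) := by
    intro a b c ha hb hc
    have h1 : a⁻¹ * (b * c) * a * (b * c)⁻¹ = (a⁻¹ * b * a * b⁻¹) * (b * (a⁻¹ * c * a * c⁻¹) * b⁻¹) := by group
    rw [h1, hLmul _ (hcm a b ha hb) _ (hVn.conj_mem _ (hcm a c ha hc) b), hLconj b (hfix b hb) _ (hcm a c ha hc)]
  -- three independent elements
  have hpick : ∀ S : Finset (P2 F), S.card ≤ 4 → ∃ x : X, π x ∈ Q ∧ π x ∉ S := by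
    intro S hS
    by_contra hcon
    push Not at hcon
    have h1 : ((Q : Subgroup (P2 F)) : Set (P2 F)) ⊆ S := by
      intro b hb
      obtain ⟨x, rfl⟩ := hπ b
      exact hcon x hb
    have h2 := Set.ncard_le_ncard h1 S.finite_toSet
    rw [Set.ncard_coe_finset] at h2
    have h3 : ((Q : Subgroup (P2 F)) : Set (P2 F)).ncard = Fintype.card F := hcQ
    omega
  obtain ⟨a, haQ, ha⟩ := hpick {1} (by simp)
  obtain ⟨b, hbQ, hb⟩ := hpick {1, π a} (Finset.card_le_two.trans (by norm_num))
  obtain ⟨c, hcQ', hc⟩ := hpick {1, π a, π b, π a * π b} Finset.card_le_four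
  simp only [Finset.mem_singleton, Finset.mem_insert, not_or] at ha hb hc
  have hinv : ∀ x, π x ∈ Q → (π x)⁻¹ = π x := fun x hx => inv_eq_of_mul_eq_one_left (sq_one hF Q hx)
  have hab : π (a * b) ≠ 1 := by
    rw [map_mul]
    intro h
    apply hb.2
    rw [← hinv a haQ]
    exact (inv_eq_of_mul_eq_one_right h).symm
  have hac : π (a * c) ≠ 1 := by
    rw [map_mul]
    intro h
    apply hc.2.1
    rw [← hinv a haQ]
    exact (inv_eq_of_mul_eq_one_right h).symm
  have hbc : π (b * c) ≠ 1 := by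
    rw [map_mul]
    intro h
    apply hc.2.2.1
    rw [← hinv b hbQ]
    exact (inv_eq_of_mul_eq_one_right h).symm
  have habQ : π (a * b) ∈ Q := by rw [map_mul]; exact mul_mem haQ hbQ
  have hacQ : π (a * c) ∈ Q := by rw [map_mul]; exact mul_mem haQ hcQ'
  have hbcQ : π (b * c) ∈ Q := by rw [map_mul]; exact mul_mem hbQ hcQ'
  have habc : π (a * (b * c)) ≠ 1 := by
    rw [← mul_assoc, map_mul]
    intro h
    apply hc.2.2.2
    rw [← map_mul, ← hinv _ habQ]
    exact (inv_eq_of_mul_eq_one_right h).symm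
  have habcQ : π (a * (b * c)) ∈ Q := by rw [map_mul]; exact mul_mem haQ hbcQ
  have hc0 : L (a * a) = 1 := by
    have e1 := hC a b haQ hbQ
    rw [← hB a _ haQ ha habQ hab, ← hB a b haQ ha hbQ hb.1] at e1
    have e2 := hC a c haQ hcQ'
    rw [← hB a _ haQ ha hacQ hac, ← hB a c haQ ha hcQ' hc.1] at e2
    have e3 := hC a (b * c) haQ hbcQ
    rw [← hB a _ haQ ha habcQ habc, ← hB a _ haQ ha hbcQ hbc, hD a b c haQ hbQ hcQ'] at e3
    set s := L (a * a)
    set w1 := L (a⁻¹ * b * a * b⁻¹)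
    set w2 := L (a⁻¹ * c * a * c⁻¹)
    have f1 : s * w1 = 1 := by
      have : s * 1 = s * (s * w1) := by rw [mul_one, ← mul_assoc]; exact e1
      exact (mul_left_cancel this).symm
    have f2 : s * w2 = 1 := by
      have : s * 1 = s * (s * w2) := by rw [mul_one, ← mul_assoc]; exact e2
      exact (mul_left_cancel this).symm
    have f3 : s * (w1 * w2) = 1 := by
      have : s * 1 = s * (s * (w1 * w2)) := by rw [mul_one, ← mul_assoc]; exact e3
      exact (mul_left_cancel this).symm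
    rw [← mul_assoc, f1, one_mul] at f3
    rw [f3, mul_one] at f2
    exact f2
  have hE : ∀ x, π x ∈ Q → L (x * x) = 1 := by
    intro x hx
    by_cases hx1 : π x = 1
    · have hxV : x ∈ V := by rw [← hker]; exact hx1
      rw [hV2 x hxV, hL1]
    · rw [← hB a x haQ ha hx hx1, hc0]
  -- the normal subgroup of the inertia group
  let P : Subgroup (inertia V (lf l)) := ((Q : Subgroup (P2 F)).comap π).subgroupOf (inertia V (lf l))
  have hPn : P.Normal := by
    constructor
    rintro ⟨x, hxI⟩ hx ⟨g, hg⟩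
    have h1 : π x ∈ (Q : Subgroup (P2 F)) := hx
    show π (g * x * g⁻¹) ∈ (Q : Subgroup (P2 F))
    rw [map_mul, map_mul, map_inv]
    exact (Subgroup.mem_normalizer_iff.1 (hle ⟨g, hg, rfl⟩) _).1 h1
  have hVP : ∀ v : V, (⟨v, hVI v.2⟩ : inertia V (lf l)) ∈ P := by
    intro v
    show π (v : X) ∈ (Q : Subgroup (P2 F))
    have : (v : X) ∈ π.ker := by rw [hker]; exact v.2
    rw [(MonoidHom.mem_ker).1 this]
    exact one_mem _
  let f : V →* P := (Subgroup.inclusion hVI).codRestrict P hVP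
  have hf : Function.Injective f := by
    intro v w h
    have h1 : ((f v : inertia V (lf l)) : X) = ((f w : inertia V (lf l)) : X) := by rw [h]
    exact Subtype.ext h1
  obtain ⟨φ, hφ⟩ := exists_ext f hf l
    (by
      intro x v
      refine ⟨⟨(x : X) * v * (x : X)⁻¹, hVn.conj_mem _ v.2 _⟩, rfl, ?_⟩
      have h1 := hLconj (x : X) (x : inertia V (lf l)).2 v v.2
      rw [hLdef _ (hVn.conj_mem _ v.2 _), hLdef _ v.2] at h1
      exact h1)
    (by
      intro x
      have hx : π (x : X) ∈ Q := x.2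
      refine ⟨⟨(x : X) * x, hsqV _ hx⟩, rfl, ?_⟩
      have h1 := hE (x : X) hx
      rw [hLdef _ (hsqV _ hx)] at h1
      exact h1)
  -- the projection of `P` to `Q`
  let ρ : P →* (Q : Subgroup (P2 F)) :=
    (π.comp ((inertia V (lf l)).subtype.comp P.subtype)).codRestrict _ (fun x => x.2)
  have hρ : ∀ x : P, (ρ x : P2 F) = π (x : X) := fun _ => rfl
  -- every extension is invariant
  have hinvt : ∀ ν : (Q : Subgroup (P2 F)) →* ℂˣ, H672.inertia P (lf (φ * ν.comp ρ)) = ⊤ := by
    intro ν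
    by_contra hne
    have hext : ∀ v : V, (φ * ν.comp ρ) ⟨⟨v, hVI v.2⟩, hVP v⟩ = l v := by
      intro v
      have h1 : ρ ⟨⟨v, hVI v.2⟩, hVP v⟩ = 1 := by
        apply Subtype.ext
        rw [hρ]
        have : (v : X) ∈ π.ker := by rw [hker]; exact v.2
        exact this
      show φ (f v) * ν (ρ ⟨⟨v, hVI v.2⟩, hVP v⟩) = l v
      rw [h1, map_one, mul_one, hφ]
    obtain ⟨d, hd, hdd⟩ := exists_degree V (inertia V (lf l)) l rfl P hVI hVP (φ * ν.comp ρ) hext
    have hm1 : (H672.inertia P (lf (φ * ν.comp ρ))).index ≠ 1 := by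
      rw [Ne, Subgroup.index_eq_one]
      exact hne
    obtain ⟨r, hr, hrm⟩ := Nat.exists_prime_and_dvd hm1
    obtain ⟨s, hs, hsq⟩ := Nat.exists_prime_and_dvd (show Fintype.card F + 1 ≠ 1 by omega)
    have hPle : P ≤ H672.inertia P (lf (φ * ν.comp ρ)) :=
      le_inertia (isCharacter_isClassFunction (isCharacter_lf _))
    have h1 : (H672.inertia P (lf (φ * ν.comp ρ))).index ∣ P.index := Subgroup.index_dvd_of_le hPle
    have h2 : P.index = (Q : Subgroup (P2 F)).relIndex ((inertia V (lf l)).map π) :=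
      Subgroup.relIndex_comap _ _ _
    have h3 : P.index * Fintype.card F ∣ (Fintype.card F - 1) * Fintype.card F := by
      have h5 := Subgroup.card_mul_index ((Q : Subgroup (P2 F)).subgroupOf ((inertia V (lf l)).map π))
      have h6 : Nat.card ((Q : Subgroup (P2 F)).subgroupOf ((inertia V (lf l)).map π)) = Fintype.card F := by
        rw [Nat.card_congr (Subgroup.subgroupOfEquivOfLe hQJ).toEquiv, hcQ]
      have h7 := Subgroup.card_dvd_of_le hle
      have h8 := Subgroup.card_mul_index (Subgroup.normalizer ((Q : Subgroup (P2 F)) : Set (P2 F)))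
      rw [H436.TT.index_normalizer 2 Q, Classification.PSLTwoEvenSylow.card_psl] at h8
      have h9 : 1 < Fintype.card F := Fintype.one_lt_card
      have hfac : Fintype.card F ^ 2 - 1 = (Fintype.card F - 1) * (Fintype.card F + 1) := by
        obtain ⟨m, hm⟩ : ∃ m, Fintype.card F = m + 1 := ⟨Fintype.card F - 1, by omega⟩
        rw [hm]
        simp only [Nat.add_sub_cancel]
        have : (m + 1) ^ 2 = m * (m + 1 + 1) + 1 := by ring
        omega
      rw [hfac, ← mul_assoc] at h8
      have h10 := Nat.eq_of_mul_eq_mul_right (by omega) h8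
      rw [h2, Subgroup.relIndex, mul_comm, mul_comm (Fintype.card F - 1), ← h10]
      refine dvd_trans ?_ h7
      rw [← h5, h6]
    have h4' : P.index ∣ Fintype.card F - 1 := Nat.dvd_of_mul_dvd_mul_right (by omega) h3
    refine hno r s hr hs (hrm.trans (h1.trans h4')) hsq d hd ?_
    rw [← index_map V π hVc hπ hker l, mul_comm] at hdd
    exact (Nat.mul_dvd_mul hrm (hsq.trans hidx)).trans hdd
  -- hence every linear character of `Q` is constant
  have hcomQ : ∀ x y : (Q : Subgroup (P2 F)), x * y = y * x := fun x y => Subtype.ext (comm_of hF Q x.2 y.2)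
  obtain ⟨ν, hν⟩ := exists_lin hcomQ (a := ⟨π a, haQ⟩) (fun h => ha (congrArg Subtype.val h))
  have hcst : ∀ x y : (Q : Subgroup (P2 F)), x ≠ 1 → y ≠ 1 → ν x = ν y := by
    rintro ⟨x0, hx⟩ ⟨y0, hy⟩ hx1 hy1
    obtain ⟨x, rfl⟩ := hπ x0
    obtain ⟨g0, ⟨g, hg, rfl⟩, hgxy⟩ := trans_of_dvd hF h4 Q _ hle hq1 hx (fun h => hx1 (Subtype.ext h)) hy
      (fun h => hy1 (Subtype.ext h))
    let xP : P := ⟨⟨x, hfix x hx⟩, hx⟩
    let gI : inertia V (lf l) := ⟨g, hg⟩
    have h1 : gI ∈ H672.inertia P (lf (φ * ν.comp ρ)) := by rw [hinvt ν]; trivial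
    have h2 : gI ∈ H672.inertia P (lf (φ * (1 : (Q : Subgroup (P2 F)) →* ℂˣ).comp ρ)) := by
      rw [hinvt 1]; trivial
    rw [mem_inertia_lf] at h1 h2
    have h3 := h1 xP
    have h5 := h2 xP
    simp only [MonoidHom.mul_apply, MonoidHom.comp_apply, MonoidHom.one_apply, mul_one] at h3 h5
    rw [h5] at h3
    have h6 := mul_left_cancel h3
    have h7 : ρ (MulAut.conjNormal gI xP) = ⟨y0, hy⟩ := by
      apply Subtype.ext
      rw [hρ]
      show π (g * x * g⁻¹) = y0
      rw [map_mul, map_mul, map_inv, hgxy]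
    rw [h7] at h6
    exact h6.symm
  apply hν
  have h1 := hcst ⟨π a, haQ⟩ ⟨π b, hbQ⟩ (fun h => ha (congrArg Subtype.val h)) (fun h => hb.1 (congrArg Subtype.val h))
  have h2 := hcst ⟨π a, haQ⟩ (⟨π a, haQ⟩ * ⟨π b, hbQ⟩) (fun h => ha (congrArg Subtype.val h))
    (fun h => hab (by rw [map_mul]; exact congrArg Subtype.val h))
  rw [map_mul, ← h1] at h2
  have h3 : ν ⟨π a, haQ⟩ * 1 = ν ⟨π a, haQ⟩ * ν ⟨π a, haQ⟩ := by rw [mul_one]; exact h2
  exact (mul_left_cancel h3).symm

/-- an abelian minimal normal subgroup has prime exponent -/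
theorem exists_exponent (hmin : ∀ N : Subgroup X, N.Normal → N ≤ V → N = ⊥ ∨ N = V)
    (hVc : ∀ x ∈ V, ∀ y ∈ V, x * y = y * x) (hV : V ≠ ⊥) : ∃ p : ℕ, p.Prime ∧ ∀ v ∈ V, v ^ p = 1 := by
  have h1 : Nat.card V ≠ 1 := by
    rw [Ne, Subgroup.card_eq_one]
    exact hV
  obtain ⟨p, hp, hpd⟩ := Nat.exists_prime_and_dvd h1
  have := Fact.mk hp
  refine ⟨p, hp, ?_⟩
  let N : Subgroup X :=
    { carrier := {v | v ∈ V ∧ v ^ p = 1}
      one_mem' := ⟨one_mem V, one_pow p⟩
      mul_mem' := by
        rintro a b ⟨ha, ha'⟩ ⟨hb, hb'⟩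
        refine ⟨mul_mem ha hb, ?_⟩
        have h : Commute a b := hVc a ha b hb
        rw [h.mul_pow, ha', hb', one_mul]
      inv_mem' := by
        rintro a ⟨ha, ha'⟩
        refine ⟨inv_mem ha, ?_⟩
        rw [inv_pow, ha', inv_one] }
  have hN : N.Normal := by
    constructor
    rintro n ⟨hn, hn'⟩ g
    refine ⟨hVn.conj_mem n hn g, ?_⟩
    rw [conj_pow, hn', mul_one, mul_inv_cancel]
  have hNV : N ≤ V := fun x hx => hx.1
  rcases hmin N hN hNV with h | h
  · exfalso
    obtain ⟨x, hx⟩ := exists_prime_orderOf_dvd_card' p hpd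
    have h2 : (x : X) ∈ N := by
      refine ⟨x.2, ?_⟩
      have h3 := pow_orderOf_eq_one x
      rw [hx] at h3
      exact congrArg Subtype.val h3
    rw [h, Subgroup.mem_bot] at h2
    have h3 : x = 1 := Subtype.ext h2
    rw [h3, orderOf_one] at hx
    exact hp.one_lt.ne hx
  · intro v hv
    rw [← h] at hv
    exact hv.2

end main

/-- **CROSS.** -/
theorem cross {X : Type u} [Group X] [Finite X] (V : Subgroup X) [V.Normal]
    (hVc : ∀ x ∈ V, ∀ y ∈ V, x * y = y * x)
    (hmin : ∀ N : Subgroup X, N.Normal → N ≤ V → N = ⊥ ∨ N = V)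
    (hVz : ¬ V ≤ Subgroup.center X) (F : Type) [Field F] [Fintype F]
    (hF : Even (Fintype.card F)) (h4 : 4 < Fintype.card F)
    (e : X ⧸ V ≃* Matrix.ProjectiveSpecialLinearGroup (Fin 2) F) :
    ∃ r s : ℕ, r.Prime ∧ s.Prime ∧ r ∣ Fintype.card F - 1 ∧ s ∣ Fintype.card F + 1 ∧
      ∃ d ∈ Cfsg.charDegrees X, r * s ∣ d := by
  classical
  by_contra hcon
  have hno : No X (Fintype.card F) := by
    intro r s hr hs hr1 hs1 d hd hdd
    exact hcon ⟨r, s, hr, hs, hr1, hs1, d, hd, hdd⟩
  let π : X →* P2 F := e.toMonoidHom.comp (QuotientGroup.mk' V)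
  have hπ : Function.Surjective π := e.surjective.comp (QuotientGroup.mk'_surjective V)
  have hker : π.ker = V := by
    ext x
    rw [MonoidHom.mem_ker]
    show e (QuotientGroup.mk x) = 1 ↔ x ∈ V
    rw [map_eq_one_iff e e.injective, QuotientGroup.eq_one_iff]
  have hVcom : ∀ v w : V, v * w = w * v := fun v w => Subtype.ext (hVc v v.2 w w.2)
  have hVbot : V ≠ ⊥ := by
    rintro rfl
    exact hVz bot_le
  obtain ⟨p, hp, hpV⟩ := exists_exponent V hmin hVc hVbot
  have hcard := card_lin hVcom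
  have hfin : Finite (V →* ℂˣ) := by
    apply Nat.finite_of_card_ne_zero
    rw [hcard]
    exact Nat.card_pos.ne'
  have Q : Sylow 2 (P2 F) := default
  -- a nontrivial linear character is not invariant
  have hninv : ∀ l : V →* ℂˣ, l ≠ 1 → (inertia V (lf l)).map π ≠ ⊤ := by
    intro l hl h
    have hall : ∀ x : X, x ∈ inertia V (lf l) := by
      intro x
      rw [← mem_map_iff V π hVc hker l, h]
      trivial
    let K : Subgroup X := l.ker.map V.subtype
    have hK : K.Normal := by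
      constructor
      rintro _ ⟨v, hv, rfl⟩ g
      refine ⟨MulAut.conjNormal g v, ?_, rfl⟩
      show l _ = 1
      rw [(mem_inertia_lf V).1 (hall g) v]
      exact hv
    rcases hmin K hK (Subgroup.map_subtype_le _) with h1 | h1
    · apply hVz
      intro v hv
      rw [Subgroup.mem_center_iff]
      intro g
      have h2 : (⟨v, hv⟩ : V)⁻¹ * MulAut.conjNormal g ⟨v, hv⟩ ∈ l.ker := by
        rw [MonoidHom.mem_ker, map_mul, map_inv, (mem_inertia_lf V).1 (hall g), inv_mul_cancel]
      have h3 : V.subtype ((⟨v, hv⟩ : V)⁻¹ * MulAut.conjNormal g ⟨v, hv⟩) ∈ K := ⟨_, h2, rfl⟩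
      rw [h1, Subgroup.mem_bot] at h3
      have h4 : v⁻¹ * (g * v * g⁻¹) = 1 := h3
      rw [inv_mul_eq_one] at h4
      exact (mul_inv_eq_iff_eq_mul.1 h4.symm)
    · apply hl
      ext v
      have h2 : (v : X) ∈ K := by rw [h1]; exact v.2
      obtain ⟨w, hw, hwv⟩ := h2
      have h3 : w = v := Subtype.ext hwv
      rw [← h3]
      exact congrArg _ hw
  by_cases hp2 : p = 2
  · subst hp2
    let _ := act V
    have hV2 : ∀ v ∈ V, v * v = 1 := fun v hv => by rw [← pow_two]; exact hpV v hv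
    let D : Subgroup X := (Q : Subgroup (P2 F)).comap π
    have hD : IsPGroup 2 D := by
      intro x
      refine ⟨2, ?_⟩
      apply Subtype.ext
      have h1 := hV2 _ (sq_mem V π hF hker Q x.2)
      show (x : X) ^ (2 ^ 2) = 1
      rw [show (x : X) ^ (2 ^ 2) = (x : X) * x * ((x : X) * x) by simp [pow_succ, mul_assoc]]
      exact h1
    have hVp : IsPGroup 2 V := by
      intro v
      refine ⟨1, ?_⟩
      apply Subtype.ext
      show (v : X) ^ (2 ^ 1) = 1
      rw [pow_one]
      exact hpV v v.2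
    have hdvd : 2 ∣ Nat.card (V →* ℂˣ) := by
      rw [hcard]
      obtain ⟨n, hn⟩ := IsPGroup.iff_card.1 hVp
      rw [hn]
      apply dvd_pow_self
      rintro rfl
      rw [pow_zero, Subgroup.card_eq_one] at hn
      exact hVbot hn
    obtain ⟨l, hl, hl1⟩ := hD.exists_fixed_point_of_prime_dvd_card_of_fixed_point (V →* ℂˣ) hdvd
      (a := 1) (fun d => by
        show (d : X) • (1 : V →* ℂˣ) = 1
        exact (act V).smul_one (d : X))
    refine even_case V π hF h4 hno hVc hπ hker Q hV2 l ?_ (hninv l (Ne.symm hl1))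
    intro x hx
    exact (act_eq_iff V x l).1 (hl ⟨x, hx⟩)
  · have hodd : Odd (Nat.card (V →* ℂˣ)) := by
      rw [hcard]
      have hVp : IsPGroup p V := by
        intro v
        refine ⟨1, ?_⟩
        apply Subtype.ext
        show (v : X) ^ (p ^ 1) = 1
        rw [pow_one]
        exact hpV v v.2
      have := Fact.mk hp
      obtain ⟨n, hn⟩ := IsPGroup.iff_card.1 hVp
      rw [hn]
      exact (hp.odd_of_ne_two hp2).pow
    refine odd_case V π hF h4 hno hVc hπ hker Q hfin hodd ?_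
    -- faithfulness
    have hsimp : IsSimpleGroup (P2 F) := TwoFusion.SLTwoFacts.isSimpleGroup_psl (by omega)
    let C : Subgroup X := Subgroup.centralizer (V : Set X)
    have hCn : C.Normal := inferInstance
    have hVC : V ≤ C := by
      intro v hv
      rw [Subgroup.mem_centralizer_iff]
      intro w hw
      exact hVc w hw v hv
    have hCV : C ≤ V := by
      rcases (hCn.map π hπ).eq_bot_or_eq_top with h | h
      · intro c hc
        rw [← hker, MonoidHom.mem_ker]
        have : π c ∈ C.map π := ⟨c, hc, rfl⟩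
        rw [h] at this
        exact this
      · exfalso
        apply hVz
        intro v hv
        rw [Subgroup.mem_center_iff]
        intro g
        have h1 : π g ∈ C.map π := by rw [h]; trivial
        obtain ⟨c, hc, hcg⟩ := h1
        have h2 : c⁻¹ * g ∈ V := by
          rw [← hker, MonoidHom.mem_ker, map_mul, map_inv, hcg, inv_mul_cancel]
        have h3 : g ∈ C := by
          have := mul_mem hc (hVC h2)
          simpa using this
        exact ((Subgroup.mem_centralizer_iff.1 h3) v hv).symm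
    have hQ1 : (Q : Subgroup (P2 F)) ≠ ⊥ := by
      intro h
      have h1 : Nat.card (Q : Subgroup (P2 F)) = Fintype.card F := card_sylow hF h4 Q
      rw [h] at h1
      simp at h1
      omega
    obtain ⟨a, haQ, ha1⟩ := (Subgroup.bot_or_exists_ne_one _).resolve_left hQ1
    obtain ⟨x, rfl⟩ := hπ a
    have hxV : x ∉ C := by
      intro h
      apply ha1
      have := hCV h
      rw [← hker] at this
      exact this
    rw [Subgroup.mem_centralizer_iff] at hxV
    push Not at hxV
    obtain ⟨v, hv, hvx⟩ := hxV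
    have hne : (⟨v, hv⟩ : V)⁻¹ * MulAut.conjNormal x ⟨v, hv⟩ ≠ 1 := by
      intro h
      apply hvx
      rw [inv_mul_eq_one] at h
      have h1 : v = x * v * x⁻¹ := congrArg Subtype.val h
      exact (mul_inv_eq_iff_eq_mul.1 h1.symm).symm
    obtain ⟨l, hl⟩ := exists_lin hVcom hne
    refine ⟨x, haQ, l, ?_⟩
    intro hx
    apply hl
    rw [map_mul, map_inv, (mem_inertia_lf V).1 hx, inv_mul_cancel]

end Cfsg.Agent.H191.Cross
end
end

-- part: H988/DG/NonSolvC
section
prune_inst 0x30006145138000000018001000001c5293000100000b0001000401020d81cc4100020e20ba300702010080e4403a0048110000490200000000000000411801a0000b42421250ac08310000000004000000000000000000000000000000000000000000000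
set_option linter.all false
open scoped Cfsg.Agent.FastGrp

-- part: H988/DG/NonSolv
section
/-!
# 1-regular degree graphs: the non-solvable case (helper988, TEAM DEG)
-/

set_option autoImplicit false

namespace Cfsg.Agent.H988.DG

open Cfsg Subgroup Cfsg.Agent.H33

universe u v

/-- interface: task 1729 -/
def Cross : Prop :=
  ∀ (X : Type u) [Group X] [Finite X] (V : Subgroup X) [V.Normal], (∀ x ∈ V, ∀ y ∈ V, x * y = y * x) →
    (∀ N : Subgroup X, N.Normal → N ≤ V → N = ⊥ ∨ N = V) → ¬ V ≤ Subgroup.center X →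
    ∀ (F : Type) [Field F] [Fintype F], Even (Fintype.card F) → 4 < Fintype.card F →
    (X ⧸ V ≃* Matrix.ProjectiveSpecialLinearGroup (Fin 2) F) →
    ∃ r s : ℕ, r.Prime ∧ s.Prime ∧ r ∣ Fintype.card F - 1 ∧ s ∣ Fintype.card F + 1 ∧
      ∃ d ∈ Cfsg.charDegrees X, r * s ∣ d

/-- 1-regularity of the degree graph -/
structure Reg (G : Type u) [Group G] : Prop where
  ex : ∀ p ∈ degreePrimes G, ∃ q, (degreeGraph G).Adj p q
  uniq : ∀ p q q', (degreeGraph G).Adj p q → (degreeGraph G).Adj p q' → q = q'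

theorem mem_of_adj {G : Type u} [Group G] {p q : ℕ} (h : (degreeGraph G).Adj p q) : p ∈ degreePrimes G := by
  obtain ⟨-, hp, -, h1⟩ := adj_iff.1 h
  exact mem_dp_iff.2 ⟨hp, im_mono h1 (Dvd.intro _ rfl)⟩

theorem reg_of {G : Type u} [Group G]
    (h1 : ∀ p ∈ degreePrimes G, Set.ncard {q : ℕ | (degreeGraph G).Adj p q} = 1) : Reg G := by
  refine ⟨fun p hp => ?_, fun p q q' h h' => ?_⟩
  · obtain ⟨a, ha⟩ := Set.ncard_eq_one.1 (h1 p hp)
    exact ⟨a, by
      have : a ∈ {q : ℕ | (degreeGraph G).Adj p q} := by rw [ha]; rfl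
      exact this⟩
  · obtain ⟨a, ha⟩ := Set.ncard_eq_one.1 (h1 p (mem_of_adj h))
    have e1 : q ∈ {q : ℕ | (degreeGraph G).Adj p q} := h
    have e2 : q' ∈ {q : ℕ | (degreeGraph G).Adj p q} := h'
    rw [ha, Set.mem_singleton_iff] at e1 e2
    rw [e1, e2]

namespace Reg

variable {G : Type u} [Group G]

theorem cliqueFree (r : Reg G) : (degreeGraph G).CliqueFree 3 := by
  intro s hs
  obtain ⟨a, b, c, hab, hac, hbc, -⟩ := SimpleGraph.is3Clique_iff.1 hs
  exact hbc.ne (r.uniq a b c hab hac)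

theorem not_three (r : Reg G) {x y w : ℕ} (hx : x ∈ degreePrimes G) (hw : w ∈ degreePrimes G)
    (hy : y ∈ degreePrimes G) (hxy : x ≠ y) (hxw : x ≠ w) (hyw : y ≠ w)
    (h : ∀ p ∈ degreePrimes G, p = x ∨ p = y ∨ p = w) : False := by
  obtain ⟨x', h1⟩ := r.ex x hx
  obtain ⟨y', h2⟩ := r.ex y hy
  obtain ⟨w', h3⟩ := r.ex w hw
  rcases h x' (mem_of_adj h1.symm) with rfl | rfl | rfl
  · exact h1.ne rfl
  · rcases h w' (mem_of_adj h3.symm) with rfl | rfl | rfl
    · exact hyw (r.uniq _ _ _ h1 h3.symm)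
    · exact hxw (r.uniq _ _ _ h1.symm h3.symm)
    · exact h3.ne rfl
  · rcases h y' (mem_of_adj h2.symm) with rfl | rfl | rfl
    · exact hyw (r.uniq _ _ _ h1 h2.symm).symm
    · exact h2.ne rfl
    · exact hxy (r.uniq _ _ _ h1.symm h2.symm)

end Reg

/-- the multiplier of `PSL(2,F)` is trivial for `|F| ≥ 8` even -/
theorem no_central {E : Type u} [Group E] [Finite E] (hperf : commutator E = ⊤) (V : Subgroup E) [V.Normal]
    (hV : V ≤ Subgroup.center E) {F : Type} [Field F] [Fintype F] (hF : Even (Fintype.card F))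
    (h4 : 4 < Fintype.card F) (e : E ⧸ V ≃* Matrix.ProjectiveSpecialLinearGroup (Fin 2) F) : V = ⊥ := by
  have hmul := S2086.result (F := F) (q := Fintype.card F) rfl 2 (le_refl 2) (fun _ => h4.le) (by
    simp only [Set.mem_insert_iff, Prod.mk.injEq, Set.mem_singleton_iff]
    rintro (⟨-, h⟩ | ⟨-, h⟩ | ⟨h, -⟩ | ⟨h, -⟩ | ⟨h, -⟩)
    · omega
    · rw [h] at hF
      exact absurd hF (by decide)
    · omega
    · omega
    · omega)
  have hg : Nat.gcd 2 (Fintype.card F - 1) = 1 := by
    rw [← Nat.coprime_iff_gcd_eq_one, Nat.coprime_two_left]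
    obtain ⟨k, hk⟩ := hF
    exact ⟨k - 1, by omega⟩
  rw [hg] at hmul
  -- move to `Type 0`
  let E0 := Shrink.{0} E
  let e0 : E0 ≃* E := Shrink.mulEquiv
  let σ : E0 →* Matrix.ProjectiveSpecialLinearGroup (Fin 2) F :=
    (e.toMonoidHom.comp (QuotientGroup.mk' V)).comp e0.toMonoidHom
  have hσ : ∀ x : E0, x ∈ σ.ker ↔ e0 x ∈ V := by
    intro x
    rw [MonoidHom.mem_ker]
    change e (QuotientGroup.mk' V (e0 x)) = 1 ↔ _
    rw [EmbeddingLike.map_eq_one_iff, QuotientGroup.mk'_apply, QuotientGroup.eq_one_iff]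
  have hst : IsStemExtension σ := by
    refine ⟨?_, ?_, ?_⟩
    · exact (e.surjective.comp (QuotientGroup.mk'_surjective V)).comp e0.surjective
    · intro x hx
      have h1 := hV ((hσ x).1 hx)
      rw [Subgroup.mem_center_iff] at h1 ⊢
      intro g
      apply e0.injective
      rw [map_mul, map_mul, h1]
    · intro x _
      have h1 : commutator E0 = ⊤ := by
        have h2 : (commutator E0).map e0.toMonoidHom = commutator E := by
          rw [commutator_def, commutator_def, Subgroup.map_commutator,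
            Subgroup.map_top_of_surjective _ e0.surjective]
        rw [hperf] at h2
        rw [eq_top_iff]
        intro y _
        have h3 : e0 y ∈ (commutator E0).map e0.toMonoidHom := by rw [h2]; trivial
        obtain ⟨z, hz, hzy⟩ := h3
        have h4 : z = y := e0.injective hzy
        rwa [← h4]
      rw [h1]
      trivial
  obtain ⟨π, hπ⟩ := hmul.2 E0 σ hst
  have hsub : Subsingleton σ.ker := by
    have : Subsingleton (Multiplicative (ZMod 1)) := inferInstanceAs (Subsingleton (ZMod 1))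
    exact hπ.subsingleton
  rw [eq_bot_iff]
  intro v hv
  have h1 : e0.symm v ∈ σ.ker := by
    rw [hσ, e0.apply_symm_apply]
    exact hv
  have h2 : (⟨e0.symm v, h1⟩ : σ.ker) = 1 := Subsingleton.elim _ _
  have h3 : e0.symm v = 1 := congrArg Subtype.val h2
  rw [Subgroup.mem_bot, ← e0.symm.map_eq_one_iff, h3]

end Cfsg.Agent.H988.DG
end

-- part: H988/DG/NonSolvB
section
/-!
# 1-regular degree graphs: the non-solvable case, arithmetic part (helper988, TEAM DEG)
-/

set_option autoImplicit false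

namespace Cfsg.Agent.H988.DG

open Cfsg Subgroup Cfsg.Agent.H33

universe u v

namespace Fr

variable {G : Type u} [Group G] [Finite G] (T : Fr G)

/-- the primes dividing `|L|` are the vertices -/
theorem dvd_L (r : Reg G) {t : ℕ} (ht : t ∈ degreePrimes G) : t ∣ Nat.card T.L := by
  by_contra hn
  have htp := ht.1
  rcases T.mem outFact r.cliqueFree ht with h | ⟨-, h⟩
  · exact hn h
  rcases T.out_R h with ⟨p, q, hp, hq, hpq, hpd, hqd, h4⟩ | ⟨-, h5⟩
  · exact absurd r.cliqueFree (not_cliqueFree_of_dvd htp hp hq (fun h => hn (h ▸ hpd)) hpq (fun h => hn (h ▸ hqd))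
      (by rwa [mul_assoc]))
  · obtain ⟨h2, p, q, hp, hq, hp2, hq2, hpq, h6, h7⟩ := primes_psl T.hF (MulEquiv.refl (Matrix.ProjectiveSpecialLinearGroup (Fin 2) T.F))
    have e2 := h5 2 h2
    have ep := h5 p h6
    have t2 : t ≠ 2 := fun h => hn (h ▸ two_dvd_card_psl T.hF)
    have tp : t ≠ p := fun h => hn (h ▸ h6.dvd_card)
    exact hp2 (r.uniq t p 2 (adj_iff.2 ⟨tp, htp, hp, ep⟩) (adj_iff.2 ⟨t2, htp, Nat.prime_two, e2⟩))

theorem vertex {t : ℕ} (ht : t.Prime) (h : t ∣ Nat.card T.L) : t ∈ degreePrimes G :=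
  mem_dp_iff.2 ⟨ht, T.im_of_L (H664.R1.PSLTwo.im_psl T.hF ht h)⟩

theorem mem_factors {t : ℕ} (ht : t.Prime) (h : t ∣ Nat.card T.L) :
    t ∣ Fintype.card T.F ∨ t ∣ Fintype.card T.F - 1 ∨ t ∣ Fintype.card T.F + 1 := by
  have h1 := primeFactors_psl_subset (F := T.F) (Nat.mem_primeFactors.2 ⟨ht, h, Nat.card_pos.ne'⟩)
  simp only [Finset.mem_union, Nat.mem_primeFactors] at h1
  rcases h1 with h | h | h
  · exact Or.inl h.2.1
  · exact Or.inr (Or.inl h.2.1)
  · exact Or.inr (Or.inr h.2.1)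

theorem not_small (r : Reg G) {x y w : ℕ} (hx : x.Prime) (hy : y.Prime) (hw : w.Prime) (hxy : x ≠ y) (hxw : x ≠ w)
    (hyw : y ≠ w) (h : (Nat.card T.L).primeFactors = {x, y, w}) : False := by
  have hm : ∀ z, z ∈ (Nat.card T.L).primeFactors → z ∈ degreePrimes G := by
    intro z hz
    rw [Nat.mem_primeFactors] at hz
    exact T.vertex hz.1 hz.2.1
  refine r.not_three (x := x) (y := y) (w := w) (hm x ?_) (hm w ?_) (hm y ?_) hxy hxw hyw ?_
  · rw [h]; simp
  · rw [h]; simp
  · rw [h]; simp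
  · intro p hp
    have h1 : p ∈ (Nat.card T.L).primeFactors := Nat.mem_primeFactors.2 ⟨hp.1, T.dvd_L r hp, Nat.card_pos.ne'⟩
    rw [h] at h1
    simpa using h1

/-- the field has even order at least 8 -/
theorem even_card (r : Reg G) : Even (Fintype.card T.F) ∧ 4 < Fintype.card T.F := by
  have h60 : Nat.card T.L = 60 → False := by
    intro h
    refine T.not_small r Nat.prime_two Nat.prime_three Nat.prime_five (by norm_num) (by norm_num) (by norm_num) ?_
    rw [h]
    decide +kernel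
  rcases Nat.even_or_odd (Fintype.card T.F) with h | h
  · refine ⟨h, lt_of_le_of_ne T.hF fun h4 => h60 ?_⟩
    have h5 := SmallSimple.PSLTwoPart.card_psl_two_even (F := T.F) h
    rw [← h4] at h5
    exact h5
  · exfalso
    by_cases h5 : Fintype.card T.F = 5
    · have h6 := SmallSimple.PSLTwoPart.card_psl_two_odd (F := T.F) h
      rw [h5] at h6
      have h7 : Nat.card (Matrix.ProjectiveSpecialLinearGroup (Fin 2) T.F) = 60 := by omega
      exact h60 h7
    have h6 : 5 < Fintype.card T.F := by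
      have := T.hF
      rcases h with ⟨k, hk⟩
      omega
    have hodd : ringChar T.F ≠ 2 := by
      intro h7
      have := FiniteField.even_card_iff_char_two.1 h7
      rw [Nat.odd_iff] at h
      omega
    have hpr : (ringChar T.F).Prime := CharP.char_is_prime T.F _
    have : Fact (ringChar T.F).Prime := ⟨hpr⟩
    have : CharP T.F (ringChar T.F) := ringChar.charP T.F
    obtain ⟨-, hadj⟩ := S4774.result T.F (ringChar T.F) hodd (Fintype.card T.F) rfl h6 (Or.inl ⟨MulEquiv.refl _⟩)
    have hsq : Fintype.card T.F ^ 2 - 1 = (Fintype.card T.F + 1) * (Fintype.card T.F - 1) := by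
      have := Nat.sq_sub_sq (Fintype.card T.F) 1
      rwa [one_pow] at this
    have hup : ∀ a b, (degreeGraph (Matrix.ProjectiveSpecialLinearGroup (Fin 2) T.F)).Adj a b → (degreeGraph G).Adj a b := by
      intro p q h
      obtain ⟨h1, h2, h4, h5⟩ := adj_iff.1 h
      exact adj_iff.2 ⟨h1, h2, h4, T.im_of_L h5⟩
    -- all odd primes dividing `q ^ 2 - 1` are joined to 2
    have h2 : 2 ∣ Fintype.card T.F ^ 2 - 1 := by
      rw [hsq]
      obtain ⟨k, hk⟩ := h
      exact Dvd.dvd.mul_right ⟨k + 1, by omega⟩ _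
    have hj : ∀ x : ℕ, x.Prime → x ≠ 2 → x ∣ Fintype.card T.F ^ 2 - 1 → (degreeGraph G).Adj 2 x := by
      intro x hx hx2 hd
      exact hup _ _ ((hadj 2 x).2 ⟨hx2.symm, Nat.prime_two, hx, h2, hd, Or.inl rfl⟩)
    have hfac : ∀ x : ℕ, x.Prime → x ∣ Nat.card T.L → x = ringChar T.F ∨ x ∣ Fintype.card T.F ^ 2 - 1 := by
      intro x hx hd
      rcases T.mem_factors hx hd with h7 | h7 | h7
      · left
        obtain ⟨n, hp, hq⟩ := FiniteField.card T.F (ringChar T.F)
        rw [hq] at h7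
        exact (Nat.prime_dvd_prime_iff_eq hx hp).1 (hx.dvd_of_dvd_pow h7)
      · right; rw [hsq]; exact h7.mul_left _
      · right; rw [hsq]; exact h7.mul_right _
    have hch : ringChar T.F ∣ Nat.card T.L := by
      have h7 := SmallSimple.PSLTwoPart.card_psl_two_odd (F := T.F) h
      obtain ⟨n, hp, hq⟩ := FiniteField.card T.F (ringChar T.F)
      have h8 : ringChar T.F ∣ 2 * Nat.card T.L := by
        have e : 2 * Nat.card T.L = Fintype.card T.F * (Fintype.card T.F ^ 2 - 1) := by
          first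
            | exact h7
            | exact h7.symm
            | (rw [mul_comm]; exact h7)
            | (rw [mul_comm]; exact h7.symm)
        rw [e, hq]
        exact Dvd.dvd.mul_right (dvd_pow_self _ n.2.ne') _
      exact (hpr.dvd_mul.1 h8).resolve_left fun h9 => hodd ((Nat.prime_dvd_prime_iff_eq hpr Nat.prime_two).1 h9)
    have hcop : ∀ x : ℕ, x.Prime → x ∣ Fintype.card T.F ^ 2 - 1 → x ≠ ringChar T.F := by
      rintro x hx hd rfl
      obtain ⟨n, hp, hq⟩ := FiniteField.card T.F (ringChar T.F)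
      have h8 : ringChar T.F ∣ Fintype.card T.F := by rw [hq]; exact dvd_pow_self _ n.2.ne'
      have h9 : ringChar T.F ∣ Fintype.card T.F ^ 2 := h8.trans (dvd_pow_self _ (by norm_num))
      have h10 : 1 ≤ Fintype.card T.F ^ 2 := Nat.one_le_pow _ _ (by omega)
      have h11 := (Nat.dvd_sub_iff_right h10 h9).1 hd
      exact hx.one_lt.ne' (Nat.dvd_one.1 h11)
    -- an odd prime dividing `q ^ 2 - 1`
    obtain ⟨u, hu, hu2, hud⟩ : ∃ u : ℕ, u.Prime ∧ u ≠ 2 ∧ u ∣ Fintype.card T.F ^ 2 - 1 := by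
      obtain ⟨-, p, q, hp, hq, hp2, hq2, hpq, h6, h7⟩ := primes_psl T.hF (MulEquiv.refl (Matrix.ProjectiveSpecialLinearGroup (Fin 2) T.F))
      rcases hfac p hp h6.dvd_card with h8 | h8
      · rcases hfac q hq h7.dvd_card with h9 | h9
        · exact absurd (h8.trans h9.symm) hpq
        · exact ⟨q, hq, hq2, h9⟩
      · exact ⟨p, hp, hp2, h8⟩
    have h2u := hj u hu hu2 hud
    obtain ⟨p', hp'⟩ := r.ex _ (T.vertex hpr hch)
    have hp'd := T.dvd_L r (mem_of_adj hp'.symm)
    have hp'p := (mem_of_adj hp'.symm).1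
    by_cases h8 : p' = 2
    · subst h8
      have h9 := r.uniq _ _ _ h2u hp'.symm
      exact hcop u hu hud h9
    · rcases hfac p' hp'p hp'd with h9 | h9
      · exact hp'.ne h9.symm
      · have h10 := hj p' hp'p h8 h9
        exact hodd (r.uniq _ _ _ h10.symm hp'.symm).symm

/-- the arithmetic situation: `q` even, one of `q - 1`, `q + 1` is a power of the neighbour of 2 -/
theorem cross_false (r : Reg G) {x y : ℕ} (hx : x.Prime) (hy : y.Prime) (hxd : x ∣ Fintype.card T.F - 1)
    (hyd : y ∣ Fintype.card T.F + 1) : ¬ H33.IM (x * y) G := by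
  intro hxy
  obtain ⟨hev, h4⟩ := T.even_card r
  have hchar : CharP T.F 2 := by
    have h6 : ringChar T.F = 2 := FiniteField.even_card_iff_char_two.2 (Nat.even_iff.1 hev)
    rw [← h6]
    exact ringChar.charP T.F
  obtain ⟨-, hadj⟩ := S4812.result T.F (Fintype.card T.F) rfl T.hF (Or.inl ⟨MulEquiv.refl _⟩)
  have hup : ∀ a b, (degreeGraph (Matrix.ProjectiveSpecialLinearGroup (Fin 2) T.F)).Adj a b → (degreeGraph G).Adj a b := by
    intro p q h
    obtain ⟨h1, h2, h4, h5⟩ := adj_iff.1 h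
    exact adj_iff.2 ⟨h1, h2, h4, T.im_of_L h5⟩
  have hodd1 : ∀ z : ℕ, z ∣ Fintype.card T.F - 1 → z ≠ 2 := by
    rintro z hz rfl
    obtain ⟨k, hk⟩ := hev
    omega
  have hodd2 : ∀ z : ℕ, z ∣ Fintype.card T.F + 1 → z ≠ 2 := by
    rintro z hz rfl
    obtain ⟨k, hk⟩ := hev
    omega
  have hcop : ∀ z : ℕ, z.Prime → z ∣ Fintype.card T.F - 1 → ¬ z ∣ Fintype.card T.F + 1 := by
    intro z hz h1 h2
    have h3 : z ∣ 2 := by
      have := Nat.dvd_sub h2 h1
      rwa [show Fintype.card T.F + 1 - (Fintype.card T.F - 1) = 2 by omega] at this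
    exact hodd1 z h1 ((Nat.prime_dvd_prime_iff_eq hz Nat.prime_two).1 h3)
  have hne : x ≠ y := by
    rintro rfl
    exact hcop x hx hxd hyd
  have hxy' : (degreeGraph G).Adj x y := adj_iff.2 ⟨hne, hx, hy, hxy⟩
  -- the neighbour of 2
  obtain ⟨z, hz⟩ := r.ex 2 (T.vertex Nat.prime_two (two_dvd_card_psl T.hF))
  have hzp := (mem_of_adj hz.symm).1
  rcases T.mem_factors hzp (T.dvd_L r (mem_of_adj hz.symm)) with h | h | h
  · -- `z` divides `q`
    obtain ⟨n, hp, hq⟩ := FiniteField.card T.F 2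
    rw [hq] at h
    exact hz.ne ((Nat.prime_dvd_prime_iff_eq hzp Nat.prime_two).1 (hzp.dvd_of_dvd_pow h)).symm
  · -- `z ∣ q - 1`
    have hxz : x = z := by
      by_contra hxz
      have h1 := hup _ _ ((hadj x z).2 ⟨hxz, hx, hzp, Or.inr ⟨hxd, h⟩⟩)
      exact hodd1 x hxd (r.uniq _ _ _ h1.symm hz.symm)
    subst hxz
    exact hodd2 y hyd (r.uniq _ _ _ hxy' hz.symm)
  · have hyz : y = z := by
      by_contra hyz
      have h1 := hup _ _ ((hadj y z).2 ⟨hyz, hy, hzp, Or.inl ⟨hyd, h⟩⟩)
      exact hodd2 y hyd (r.uniq _ _ _ h1.symm hz.symm)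
    subst hyz
    exact hodd1 x hxd (r.uniq _ _ _ hxy'.symm hz.symm)

theorem exists_prime_sub (r : Reg G) : ∃ x : ℕ, x.Prime ∧ x ∣ Fintype.card T.F - 1 :=
  Nat.exists_prime_and_dvd (by have := (T.even_card r).2; omega)

theorem exists_prime_add (r : Reg G) : ∃ x : ℕ, x.Prime ∧ x ∣ Fintype.card T.F + 1 :=
  Nat.exists_prime_and_dvd (by have := (T.even_card r).2; omega)

/-- `G / R` is simple -/
theorem Kb_top (r : Reg G) : T.Kb = ⊤ := by
  by_contra hne
  obtain ⟨hev, h4⟩ := T.even_card r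
  have h1 : T.Kb.index ≠ 1 := fun h => hne (Subgroup.index_eq_one.1 h)
  obtain ⟨t, ht, htd⟩ := Nat.exists_prime_and_dvd h1
  obtain ⟨⟨d1, hd1, hd1'⟩, h2⟩ := (Cfsg.Agent.H714.Tri.out T.Kb T.e T.hF T.cen ht htd).2 hev
  obtain ⟨d2, hd2, hd2'⟩ := h2 h4
  have i1 : H33.IM (t * (Fintype.card T.F - 1)) G := by
    obtain ⟨χ, rfl⟩ := hd1
    exact (show H33.IM (t * (Fintype.card T.F - 1)) (G ⧸ T.R) from ⟨χ, hd1'⟩).of_quotient T.R
  have i2 : H33.IM (t * (Fintype.card T.F + 1)) G := by
    obtain ⟨χ, rfl⟩ := hd2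
    exact (show H33.IM (t * (Fintype.card T.F + 1)) (G ⧸ T.R) from ⟨χ, hd2'⟩).of_quotient T.R
  obtain ⟨x, hx, hxd⟩ := T.exists_prime_sub r
  obtain ⟨y, hy, hyd⟩ := T.exists_prime_add r
  have j1 : H33.IM (t * x) G := im_mono i1 (Nat.mul_dvd_mul_left t hxd)
  have j2 : H33.IM (t * y) G := im_mono i2 (Nat.mul_dvd_mul_left t hyd)
  by_cases h5 : t ∣ Fintype.card T.F - 1
  · exact T.cross_false r ht hy h5 hyd j2
  by_cases h6 : t ∣ Fintype.card T.F + 1
  · exact T.cross_false r hx ht hxd h6 (by rwa [mul_comm])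
  have hxt : t ≠ x := fun h => h5 (h ▸ hxd)
  have hyt : t ≠ y := fun h => h6 (h ▸ hyd)
  have h7 := r.uniq _ _ _ (adj_iff.2 ⟨hxt, ht, hx, j1⟩) (adj_iff.2 ⟨hyt, ht, hy, j2⟩)
  subst h7
  have h8 : x ∣ 2 := by
    have := Nat.dvd_sub hyd hxd
    rwa [show Fintype.card T.F + 1 - (Fintype.card T.F - 1) = 2 by omega] at this
  have h9 := (Nat.prime_dvd_prime_iff_eq hx Nat.prime_two).1 h8
  subst h9
  obtain ⟨k, hk⟩ := hev
  omega

end Fr

end Cfsg.Agent.H988.DG
end

-- part: H988/DG/NonSolvC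
section
/-!
# 1-regular degree graphs: the non-solvable case (helper988, TEAM DEG)
-/

set_option autoImplicit false

namespace Cfsg.Agent.H988.DG

open Cfsg Subgroup Cfsg.Agent.H33

universe u v

/-- a group with commuting normal subgroups `A ∩ B = 1`, `A B = G` -/
noncomputable def prodEquiv {G : Type u} [Group G] (A B : Subgroup G)
    (hAB : ∀ a ∈ A, ∀ b ∈ B, a * b = b * a) (hd : A ⊓ B = ⊥) (ht : ∀ g : G, ∃ a ∈ A, ∃ b ∈ B, a * b = g) :
    A × B ≃* G :=
  MulEquiv.ofBijective
    ({ toFun := fun x => (x.1 : G) * x.2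
       map_one' := by simp
       map_mul' := fun x y => by
        change (x.1 : G) * y.1 * (x.2 * y.2) = x.1 * x.2 * (y.1 * y.2)
        have := hAB y.1 y.1.2 x.2 x.2.2
        calc (x.1 : G) * y.1 * (x.2 * y.2) = x.1 * (y.1 * x.2) * y.2 := by group
          _ = x.1 * (x.2 * y.1) * y.2 := by rw [this]
          _ = x.1 * x.2 * (y.1 * y.2) := by group } : A × B →* G)
    ⟨by
      rw [injective_iff_map_eq_one]
      rintro ⟨x, y⟩ hxy
      have h1 : (x : G) * y = 1 := hxy
      have h3 : (x : G) ∈ B := by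
        rw [eq_inv_of_mul_eq_one_left h1]
        exact inv_mem y.2
      have h2 : (x : G) ∈ A ⊓ B := ⟨x.2, h3⟩
      rw [hd, mem_bot] at h2
      rw [h2, one_mul] at h1
      exact Prod.ext (Subtype.ext h2) (Subtype.ext h1), by
      intro g
      obtain ⟨a, ha, b, hb, rfl⟩ := ht g
      exact ⟨(⟨a, ha⟩, ⟨b, hb⟩), rfl⟩⟩

theorem degree_one_of_no_prime {X : Type u} [Group X] [Finite X] (h : ∀ t : ℕ, t.Prime → ¬ H33.IM t X) {ψ : X → ℂ}
    (hψ : IsIrrCharacter X ψ) {n : ℕ} (hn : ψ 1 = n) : n = 1 := by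
  by_contra hne
  obtain ⟨t, ht, hd⟩ := Nat.exists_prime_and_dvd hne
  exact h t ht (IM.of_apply_one hψ hn hd)

/-- degrees of `A × B` if `B` has only linear characters -/
theorem im_of_prod {A : Type u} {B : Type v} [Group A] [Finite A] [Group B] [Finite B]
    (hB : ∀ t : ℕ, t.Prime → ¬ H33.IM t B) {m : ℕ} (h : H33.IM m (A × B)) : H33.IM m A := by
  obtain ⟨χ, hχ⟩ := h
  obtain ⟨φ, ψ, hφ, hψ, he⟩ := (S0188.result (χ : A × B → ℂ)).1 χ.2
  obtain ⟨n, -, hn⟩ := Cfsg.Agent.Characters.Core.isIrr_apply_one hφ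
  obtain ⟨k, -, hk⟩ := Cfsg.Agent.Characters.Core.isIrr_apply_one hψ
  have hk1 := degree_one_of_no_prime hB hψ hk
  have h1 : (χ : A × B → ℂ) 1 = n := by
    rw [he]
    change φ 1 * ψ 1 = n
    rw [hn, hk, hk1, Nat.cast_one, mul_one]
  rw [H670.PSing.charDegree_eq_of h1] at hχ
  exact IM.of_apply_one hφ hn hχ

theorem eq_bot_of_perfect {E : Type u} [Group E] {V : Subgroup E} (hs : Group.IsSolvable V) (h : ⁅V, V⁆ = V) :
    V = ⊥ := by
  by_contra hne
  rw [← ne_eq, ← nontrivial_iff_ne_bot] at hne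
  have h1 : commutator V < ⊤ := Group.IsSolvable.commutator_lt_top_of_nontrivial V
  apply h1.ne
  apply Subgroup.map_injective V.subtype_injective
  rw [commutator_def, Subgroup.map_commutator, ← MonoidHom.range_eq_map, V.range_subtype, h]

theorem perfect_of {E : Type u} [Group E] {V : Subgroup E} (h : ⁅V, V⁆ = V) : commutator V = ⊤ := by
  apply Subgroup.map_injective V.subtype_injective
  rw [commutator_def, Subgroup.map_commutator, ← MonoidHom.range_eq_map, V.range_subtype, h]

section chief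

variable {D : Type u} [Group D] [Finite D]

/-- a chief factor at the top of a solvable normal subgroup -/
theorem exists_chief (V0 : Subgroup D) [hV0 : V0.Normal] (hs : Group.IsSolvable V0) (hne : V0 ≠ ⊥) :
    ∃ (N0 : Subgroup D) (_ : N0.Normal), N0 ≤ V0 ∧ V0.map (QuotientGroup.mk' N0) ≠ ⊥ ∧
      (∀ x ∈ V0.map (QuotientGroup.mk' N0), ∀ y ∈ V0.map (QuotientGroup.mk' N0), x * y = y * x) ∧
      ∀ N : Subgroup (D ⧸ N0), N.Normal → N ≤ V0.map (QuotientGroup.mk' N0) → N = ⊥ ∨ N = V0.map (QuotientGroup.mk' N0) := by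
  classical
  have hfin : Finite (Subgroup D) := inferInstance
  obtain ⟨N0, hN0⟩ := Set.Finite.exists_maximal (Set.toFinite {N : Subgroup D | N.Normal ∧ N < V0})
    ⟨⊥, inferInstance, bot_lt_iff_ne_bot.2 hne⟩
  have hn : N0.Normal := hN0.1.1
  have hlt : N0 < V0 := hN0.1.2
  have hVn : (V0.map (QuotientGroup.mk' N0)).Normal := hV0.map _ (QuotientGroup.mk'_surjective N0)
  have hcm : (V0.map (QuotientGroup.mk' N0)).comap (QuotientGroup.mk' N0) = V0 := by
    rw [Subgroup.comap_map_eq, QuotientGroup.ker_mk', sup_eq_left.2 hlt.le]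
  have hVb : V0.map (QuotientGroup.mk' N0) ≠ ⊥ := by
    intro h
    rw [Subgroup.map_eq_bot_iff, QuotientGroup.ker_mk'] at h
    exact absurd h (not_le_of_gt hlt)
  have hmin : ∀ N : Subgroup (D ⧸ N0), N.Normal → N ≤ V0.map (QuotientGroup.mk' N0) →
      N = ⊥ ∨ N = V0.map (QuotientGroup.mk' N0) := by
    intro N hN hNV
    have h1 : N0 ≤ N.comap (QuotientGroup.mk' N0) := by
      intro x hx
      rw [Subgroup.mem_comap]
      have : QuotientGroup.mk' N0 x = 1 := (QuotientGroup.eq_one_iff x).2 hx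
      rw [this]
      exact N.one_mem
    have h2 : N.comap (QuotientGroup.mk' N0) ≤ V0 := by
      rw [← hcm]
      exact Subgroup.comap_mono hNV
    have h3 : (N.comap (QuotientGroup.mk' N0)).map (QuotientGroup.mk' N0) = N :=
      Subgroup.map_comap_eq_self_of_surjective (QuotientGroup.mk'_surjective N0) N
    by_cases h4 : N.comap (QuotientGroup.mk' N0) = V0
    · right
      rw [← h3, h4]
    · left
      have h5 : N.comap (QuotientGroup.mk' N0) < V0 := lt_of_le_of_ne h2 h4
      have h6 : N.comap (QuotientGroup.mk' N0) ≤ N0 := hN0.2 ⟨hN.comap _, h5⟩ h1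
      rw [← h3, Subgroup.map_eq_bot_iff, QuotientGroup.ker_mk']
      exact h6
  refine ⟨N0, hn, hlt.le, hVb, ?_, hmin⟩
  -- abelian
  have hsV : Group.IsSolvable (V0.map (QuotientGroup.mk' N0)) :=
    Group.isSolvable_of_surjective (f := (QuotientGroup.mk' N0).subgroupMap V0) (MonoidHom.subgroupMap_surjective _ _)
  have hc : (⁅V0.map (QuotientGroup.mk' N0), V0.map (QuotientGroup.mk' N0)⁆ : Subgroup (D ⧸ N0)).Normal :=
    Subgroup.commutator_normal _ _
  rcases hmin _ hc (Subgroup.commutator_le_left _ _) with h | h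
  · intro x hx y hy
    have h1 := Subgroup.commutator_mem_commutator hx hy
    rw [h, Subgroup.mem_bot] at h1
    exact commutatorElement_eq_one_iff_mul_comm.1 h1
  · exfalso
    apply hVb
    exact eq_bot_of_perfect hsV h

end chief

/-- **A non-solvable group does not have a 1-regular degree graph.** -/
theorem nonsolv_false (hT : Cfsg.Agent.H671.H5.FactTri.{0}) (hX : Cross.{u}) {G : Type u} [Group G] [Finite G]
    (hG : ¬ Group.IsSolvable G) (r : Reg G) : False := by
  classical
  obtain ⟨T⟩ := Fr.exists hT hG r.cliqueFree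
  obtain ⟨hev, h4⟩ := T.even_card r
  have hKb := T.Kb_top r
  have hsol := T.sol
  have hsimp : IsSimpleGroup (Matrix.ProjectiveSpecialLinearGroup (Fin 2) T.F) :=
    Matrix.ProjectiveSpecialLinearGroup.rank_two_simple (by rw [Nat.card_eq_fintype_card]; omega)
  let eL : (G ⧸ T.R) ≃* Matrix.ProjectiveSpecialLinearGroup (Fin 2) T.F :=
    (Subgroup.topEquiv.symm.trans (MulEquiv.subgroupCongr hKb.symm)).trans T.e
  obtain ⟨D, hDn, hperf, hDs⟩ := H671.Frame.exists_residual G
  -- `D R = G`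
  have hDR : D.map (QuotientGroup.mk' T.R) = ⊤ := by
    have hs : IsSimpleGroup (G ⧸ T.R) := MulEquiv.isSimpleGroup eL
    rcases hs.eq_bot_or_eq_top_of_normal (D.map (QuotientGroup.mk' T.R))
      (hDn.map _ (QuotientGroup.mk'_surjective T.R)) with h | h
    · exfalso
      apply hG
      rw [Subgroup.map_eq_bot_iff, QuotientGroup.ker_mk'] at h
      have h1 : Group.IsSolvable D := Group.isSolvable_of_isSolvable_injective (Subgroup.inclusion_injective h)
      exact Group.isSolvable_of_ker_le_range D.subtype (QuotientGroup.mk' D) (by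
        rw [QuotientGroup.ker_mk', Subgroup.range_subtype])
    · exact h
  let f : D →* Matrix.ProjectiveSpecialLinearGroup (Fin 2) T.F :=
    (eL.toMonoidHom.comp (QuotientGroup.mk' T.R)).comp D.subtype
  have hfk : ∀ x : D, x ∈ f.ker ↔ (x : G) ∈ T.R := by
    intro x
    rw [MonoidHom.mem_ker]
    change eL (QuotientGroup.mk' T.R (x : G)) = 1 ↔ _
    rw [EmbeddingLike.map_eq_one_iff, QuotientGroup.mk'_apply, QuotientGroup.eq_one_iff]
  have hfs : Function.Surjective f := by
    intro y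
    have h1 : eL.symm y ∈ D.map (QuotientGroup.mk' T.R) := by rw [hDR]; trivial
    obtain ⟨d, hd, hdy⟩ := h1
    refine ⟨⟨d, hd⟩, ?_⟩
    change eL (QuotientGroup.mk' T.R d) = y
    rw [hdy, eL.apply_symm_apply]
  have hks : Group.IsSolvable f.ker := by
    let j : f.ker →* T.R :=
      { toFun := fun x => ⟨(x : D), (hfk x).1 x.2⟩
        map_one' := rfl
        map_mul' := fun _ _ => rfl }
    exact Group.isSolvable_of_isSolvable_injective (f := j) (by
      intro x y hxy
      have h1 : ((j x : T.R) : G) = (j y : T.R) := congrArg Subtype.val hxy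
      exact Subtype.ext (Subtype.ext h1))
  by_cases hV0 : f.ker = ⊥
  · -- `G = D × R`
    have hinf : D ⊓ T.R = ⊥ := by
      rw [eq_bot_iff]
      rintro x ⟨hx, hxR⟩
      have h1 : (⟨x, hx⟩ : D) ∈ f.ker := (hfk _).2 hxR
      rw [hV0, Subgroup.mem_bot] at h1
      exact congrArg Subtype.val h1
    have hcomm : ∀ a ∈ D, ∀ b ∈ T.R, a * b = b * a := by
      intro a ha b hb
      have h1 : a * b * a⁻¹ * b⁻¹ ∈ D ⊓ T.R := by
        refine Subgroup.mem_inf.2 ⟨?_, T.R.mul_mem (T.hR.conj_mem b hb a) (T.R.inv_mem hb)⟩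
        have : a * b * a⁻¹ * b⁻¹ = a * (b * a⁻¹ * b⁻¹) := by group
        rw [this]
        exact D.mul_mem ha (hDn.conj_mem _ (D.inv_mem ha) b)
      rw [hinf, Subgroup.mem_bot] at h1
      have h2 : a * b = (a * b * a⁻¹ * b⁻¹) * (b * a) := by group
      rw [h2, h1, one_mul]
    have hall : ∀ g : G, ∃ a ∈ D, ∃ b ∈ T.R, a * b = g := by
      intro g
      have h1 : QuotientGroup.mk' T.R g ∈ D.map (QuotientGroup.mk' T.R) := by rw [hDR]; trivial
      obtain ⟨d, hd, hdg⟩ := h1
      exact ⟨d, hd, d⁻¹ * g, QuotientGroup.eq.1 hdg, by group⟩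
    have eD : D ≃* Matrix.ProjectiveSpecialLinearGroup (Fin 2) T.F :=
      MulEquiv.ofBijective f ⟨(MonoidHom.ker_eq_bot_iff f).1 hV0, hfs⟩
    obtain ⟨x, hx, hxd⟩ := T.exists_prime_sub r
    obtain ⟨y, hy, hyd⟩ := T.exists_prime_add r
    have hodd1 : x ≠ 2 := by
      rintro rfl
      obtain ⟨k, hk⟩ := hev
      omega
    have hodd2 : y ≠ 2 := by
      rintro rfl
      obtain ⟨k, hk⟩ := hev
      omega
    have hxy : x ≠ y := by
      rintro rfl
      have h3 : x ∣ 2 := by
        have := Nat.dvd_sub hyd hxd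
        rwa [show Fintype.card T.F + 1 - (Fintype.card T.F - 1) = 2 by omega] at this
      exact hodd1 ((Nat.prime_dvd_prime_iff_eq hx Nat.prime_two).1 h3)
    have hcard := SmallSimple.PSLTwoPart.card_psl_two_even (F := T.F) hev
    have hsq : Fintype.card T.F ^ 2 - 1 = (Fintype.card T.F + 1) * (Fintype.card T.F - 1) := by
      have := Nat.sq_sub_sq (Fintype.card T.F) 1
      rwa [one_pow] at this
    rw [hsq] at hcard
    have imD : ∀ z : ℕ, z.Prime → z ∣ Nat.card (Matrix.ProjectiveSpecialLinearGroup (Fin 2) T.F) → H33.IM z D :=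
      fun z hz hd => (IM.congr eD).2 (H664.R1.PSLTwo.im_psl T.hF hz hd)
    have im2 := imD 2 Nat.prime_two (two_dvd_card_psl T.hF)
    have imx := imD x hx (by rw [hcard]; exact (hxd.mul_left _).mul_left _)
    have imy := imD y hy (by rw [hcard]; exact (hyd.mul_right _).mul_left _)
    -- no prime divides a degree of `R`
    have hno : ∀ t : ℕ, t.Prime → ¬ H33.IM t T.R := by
      intro t ht h
      have key : ∀ z : ℕ, z.Prime → H33.IM z D → z ≠ t → (degreeGraph G).Adj t z := by
        intro z hz hzD hzt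
        exact adj_iff.2 ⟨hzt.symm, ht, hz, by
          rw [mul_comm]
          exact im_of_two D T.R hcomm hinf hzD h⟩
      by_cases h1 : x = t
      · exact hodd2 (r.uniq _ _ _ (key y hy imy (fun h2 => hxy (h1.trans h2.symm)))
          (key 2 Nat.prime_two im2 (fun h2 => hodd1 (h1.trans h2.symm))))
      · by_cases h2 : y = t
        · exact hodd1 (r.uniq _ _ _ (key x hx imx h1)
            (key 2 Nat.prime_two im2 (fun h3 => hodd2 (h2.trans h3.symm))))
        · exact hxy (r.uniq _ _ _ (key x hx imx h1) (key y hy imy h2))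
    -- the neighbour of 2
    obtain ⟨z, hz⟩ := r.ex 2 (T.vertex Nat.prime_two (two_dvd_card_psl T.hF))
    obtain ⟨hz2, -, hzp, hzG⟩ := adj_iff.1 hz
    have h5 : H33.IM (2 * z) D := im_of_prod hno ((IM.congr (prodEquiv D T.R hcomm hinf hall)).2 hzG)
    have h6 : H33.IM (2 * z) (Matrix.ProjectiveSpecialLinearGroup (Fin 2) T.F) := (IM.congr eD).1 h5
    have hchar : CharP T.F 2 := by
      have h6 : ringChar T.F = 2 := FiniteField.even_card_iff_char_two.2 (Nat.even_iff.1 hev)
      rw [← h6]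
      exact ringChar.charP T.F
    obtain ⟨-, hadj⟩ := S4812.result T.F (Fintype.card T.F) rfl T.hF (Or.inl ⟨MulEquiv.refl _⟩)
    obtain ⟨-, -, -, h7⟩ := (hadj 2 z).1 (adj_iff.2 ⟨hz2, Nat.prime_two, hzp, h6⟩)
    obtain ⟨k, hk⟩ := hev
    rcases h7 with h7 | h7
    · have := h7.1
      omega
    · have := h7.1
      omega
  · -- a chief factor of `D` below `R`
    obtain ⟨N0, hN0, hle, hVb, hVc, hmin⟩ := exists_chief f.ker hks hV0
    have hVn : (f.ker.map (QuotientGroup.mk' N0)).Normal :=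
      Subgroup.Normal.map inferInstance _ (QuotientGroup.mk'_surjective N0)
    have e2 : ((D ⧸ N0) ⧸ (f.ker.map (QuotientGroup.mk' N0))) ≃* Matrix.ProjectiveSpecialLinearGroup (Fin 2) T.F :=
      (QuotientGroup.quotientQuotientEquivQuotient N0 f.ker hle).trans
        (QuotientGroup.quotientKerEquivOfSurjective f hfs)
    by_cases hcen : f.ker.map (QuotientGroup.mk' N0) ≤ Subgroup.center (D ⧸ N0)
    · apply hVb
      refine no_central ?_ _ hcen hev h4 e2
      have h1 : (commutator D).map (QuotientGroup.mk' N0) = commutator (D ⧸ N0) := by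
        rw [commutator_def, commutator_def, Subgroup.map_commutator,
          Subgroup.map_top_of_surjective _ (QuotientGroup.mk'_surjective N0)]
      rw [← h1, perfect_of hperf, Subgroup.map_top_of_surjective _ (QuotientGroup.mk'_surjective N0)]
    · obtain ⟨x, y, hx, hy, hxd, hyd, d, ⟨χ, rfl⟩, hd⟩ := hX (D ⧸ N0) (f.ker.map (QuotientGroup.mk' N0)) hVc hmin hcen
        T.F hev h4 e2
      have h1 : H33.IM (x * y) (D ⧸ N0) := ⟨χ, hd⟩
      exact T.cross_false r hx hy hxd hyd ((h1.of_quotient N0).of_normal D)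

end Cfsg.Agent.H988.DG
end
end

-- part: H849/FactNum
section
set_option linter.all false
open scoped Cfsg.Agent.FastGrp

/-!
# Zsigmondy primes for the degree graph of solvable groups (task 1036)
-/

set_option autoImplicit false

namespace Cfsg.Agent.H849.FactNum

open Finset

/-- `r` is a prime such that `p` has order `d` modulo `r`. -/
def Prim (p d r : ℕ) : Prop := r.Prime ∧ ∀ j, r ∣ p ^ j - 1 ↔ d ∣ j

theorem Prim.uniq {p d e r : ℕ} (h1 : Prim p d r) (h2 : Prim p e r) : d = e :=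
  Nat.dvd_antisymm ((h1.2 e).1 ((h2.2 e).2 dvd_rfl)) ((h2.2 d).1 ((h1.2 d).2 dvd_rfl))

/-- the factor -/
def fac (p n m : ℕ) : ℕ := (p ^ n - 1) / (p ^ m - 1)

theorem fac_mul {p n m : ℕ} (h : m ∣ n) : fac p n m * (p ^ m - 1) = p ^ n - 1 := by
  obtain ⟨c, rfl⟩ := h
  unfold fac
  apply Nat.div_mul_cancel
  rw [pow_mul]
  exact Nat.sub_one_dvd_pow_sub_one _ _

theorem fac_sum {p n m c : ℕ} (hp : 2 ≤ p) (hm : m ≠ 0) (h : n = m * c) :
    fac p n m = ∑ i ∈ range c, (p ^ m) ^ i := by
  subst h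
  unfold fac
  rw [Nat.geomSum_eq, ← pow_mul]
  exact le_trans hp (Nat.le_self_pow hm p)

theorem not_one {p n m z k : ℕ} (hp : 2 ≤ p) (hm : m ≠ 0) (hz : z.Prime) (hk : 0 < k) (h : n = m * z ^ k)
    (h1 : fac p n m ≡ 1 [MOD z]) : ¬ p ^ m ≡ 1 [MOD z] := by
  intro h2
  rw [fac_sum hp hm h] at h1
  have h3 : ∑ i ∈ range (z ^ k), (p ^ m) ^ i ≡ ∑ i ∈ range (z ^ k), 1 [MOD z] := by
    apply Nat.ModEq.sum
    intro i _
    have := h2.pow i
    rwa [one_pow] at this
  rw [sum_const, card_range, smul_eq_mul, mul_one] at h3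
  have h4 : z ^ k ≡ 0 [MOD z] := (Nat.modEq_zero_iff_dvd).2 (dvd_pow_self z hk.ne')
  have h5 := (h1.symm.trans h3).trans h4
  have h6 := (Nat.modEq_zero_iff_dvd).1 h5
  exact hz.one_lt.ne' (Nat.dvd_one.1 h6)

theorem factNum : Cfsg.Agent.H670.Palfy.FactNum := by
  intro p n B W m k hp hn hBW hB hW hZ
  have hp2 : 2 ≤ p := hp.two_le
  have hm0 : ∀ z ∈ B, m z ≠ 0 := by
    intro z hz h0
    have := (hZ z hz).2.1
    rw [h0, zero_mul] at this
    omega
  have hmn : ∀ z ∈ B, m z ∣ n := fun z hz => ⟨_, (hZ z hz).2.1⟩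
  have hBp : ∀ z ∈ B, z.Prime ∧ z ∣ n := fun z hz => hW z (hBW hz)
  have hno : ∀ z ∈ B, ¬ p ^ m z ≡ 1 [MOD z] := fun z hz =>
    not_one hp2 (hm0 z hz) (hBp z hz).1 (hZ z hz).1 (hZ z hz).2.1 (hZ z hz).2.2
  -- 2 ∈ B implies p = 2
  have hb2 : 2 ∈ B → p = 2 := by
    intro h
    by_contra hne
    have hodd : Odd p := hp.odd_of_ne_two hne
    apply hno 2 h
    have h1 : Odd (p ^ m 2) := hodd.pow
    rw [Nat.ModEq, Nat.odd_iff.1 h1]
  -- 3 ∈ B and p = 2 imply n odd
  have hb3 : 3 ∈ B → p = 2 → Odd n := by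
    intro h hp2
    have h1 : Odd (m 3) := by
      by_contra hne
      rw [Nat.not_odd_iff_even] at hne
      obtain ⟨c, hc⟩ := hne
      apply hno 3 h
      rw [hp2, hc, ← two_mul, pow_mul]
      have : (2 ^ 2 : ℕ) ≡ 1 [MOD 3] := by decide
      have := this.pow c
      rwa [one_pow] at this
    rw [(hZ 3 h).2.1]
    exact h1.mul (Odd.pow (by decide))
  -- a set of primes
  have hsub2 : ∀ a b : ℕ, B ⊆ {a, b} → a ∈ B ∧ b ∈ B := by
    intro a b h
    have hc : B = {a, b} := Finset.eq_of_subset_of_card_le h (le_trans (Finset.card_le_two) hB)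
    rw [hc]
    simp
  have hdm : ∀ w ∈ insert 1 W, w ∣ n ∧ (w = 1 ∨ w.Prime) := by
    intro w hw
    rw [Finset.mem_insert] at hw
    rcases hw with rfl | hw
    · exact ⟨one_dvd _, Or.inl rfl⟩
    · exact ⟨(hW w hw).2, Or.inr (hW w hw).1⟩
  have hprim : ∀ w ∈ insert 1 W, ∀ z, z.Prime → z ∣ w → z = w := by
    intro w hw z hz hzw
    rcases (hdm w hw).2 with rfl | h
    · exact absurd (Nat.dvd_one.1 hzw) hz.one_lt.ne'
    · exact (Nat.prime_dvd_prime_iff_eq hz h).1 hzw
  -- n ≠ w
  have hnw : ∀ w ∈ insert 1 W, n ≠ w := by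
    intro w hw h
    have : B ⊆ {w, w} := by
      intro z hz
      have h1 := (hBp z hz)
      rw [h] at h1
      have := hprim w hw z h1.1 h1.2
      simp [this]
    rw [Finset.pair_eq_singleton] at this
    have := Finset.card_le_card this
    rw [Finset.card_singleton] at this
    omega
  -- n = 2 w
  have hn2w : ∀ w ∈ insert 1 W, n = 2 * w → 2 ∈ B ∧ w ∈ B := by
    intro w hw h
    apply hsub2
    intro z hz
    have h1 := hBp z hz
    rw [h] at h1
    rcases (Nat.Prime.dvd_mul h1.1).1 h1.2 with h2 | h2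
    · rw [Nat.prime_dvd_prime_iff_eq h1.1 Nat.prime_two] at h2
      simp [h2]
    · have := hprim w hw z h1.1 h2
      simp [this]
  -- n = 6 w
  have hn6w : ∀ w ∈ insert 1 W, p = 2 → n = 6 * w → 2 ∈ B ∧ w ∈ B ∧ w ≠ 3 := by
    intro w hw hp2 h
    have h3 : 3 ∉ B := by
      intro h3
      have := hb3 h3 hp2
      rw [h] at this
      rw [← Nat.not_even_iff_odd] at this
      exact this ⟨3 * w, by ring⟩
    have := hsub2 2 w ?_
    · exact ⟨this.1, this.2, fun h => h3 (h ▸ this.2)⟩
    intro z hz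
    have h1 := hBp z hz
    rw [h] at h1
    rcases (Nat.Prime.dvd_mul h1.1).1 h1.2 with h2 | h2
    · have h4 : z ∣ 2 * 3 := h2
      rcases (Nat.Prime.dvd_mul h1.1).1 h4 with h2 | h2
      · rw [Nat.prime_dvd_prime_iff_eq h1.1 Nat.prime_two] at h2
        simp [h2]
      · rw [Nat.prime_dvd_prime_iff_eq h1.1 Nat.prime_three] at h2
        exact absurd (h2 ▸ hz) h3
    · have := hprim w hw z h1.1 h2
      simp [this]
  -- the primes
  have key : ∀ w ∈ insert 1 W, ∃ d r, Prim p d r ∧ r ∣ ∏ z ∈ B, fac p n (m z) ∧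
      ((d * w = n) ∨ (p = 2 ∧ n = 6 * w ∧ d = 2 ∧ w ∈ B)) := by
    intro w hw
    obtain ⟨⟨d, hd⟩, hw1⟩ := hdm w hw
    have hw0 : 0 < w := by
      rcases hw1 with rfl | h
      · exact one_pos
      · exact h.pos
    have hd0 : d ≠ 0 := by
      rintro rfl
      rw [mul_zero] at hd
      omega
    have hd1 : d ≠ 1 := by
      rintro rfl
      rw [mul_one] at hd
      exact hnw w hw hd
    by_cases he : p = 2 ∧ d = 6
    · obtain ⟨rfl, rfl⟩ := he
      have h6 : n = 6 * w := by rw [hd, mul_comm]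
      obtain ⟨h2B, hwB, hw3⟩ := hn6w w hw rfl h6
      have hp3 : Prim 2 2 3 := by
        refine ⟨Nat.prime_three, fun j => ?_⟩
        have h4 : ∀ c, 4 ^ c % 3 = 1 := fun c => by rw [Nat.pow_mod]; simp
        constructor
        · intro h
          by_contra hne
          rw [← even_iff_two_dvd, Nat.not_even_iff_odd] at hne
          obtain ⟨c, rfl⟩ := hne
          rw [pow_succ, pow_mul] at h
          have := h4 c
          have h5 : (2 ^ 2 : ℕ) = 4 := rfl
          rw [h5] at h
          have : 0 < 4 ^ c := by positivity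
          omega
        · rintro ⟨c, rfl⟩
          rw [pow_mul]
          have := h4 c
          have h5 : (2 ^ 2 : ℕ) = 4 := rfl
          rw [h5]
          have : 0 < 4 ^ c := by positivity
          omega
      refine ⟨2, 3, hp3, ?_, Or.inr ⟨rfl, h6, rfl, hwB⟩⟩
      refine dvd_trans ?_ (Finset.dvd_prod_of_mem _ h2B)
      have hwp := (hBp w hwB).1
      have hw2 : w ≠ 2 := by
        rintro rfl
        -- n = 12, B ⊆ {2}
        have : B ⊆ {2, 2} := by
          intro z hz
          have h1 := hBp z hz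
          rw [h6] at h1
          have h4 : z ∣ 2 * (2 * 3) := h1.2
          rcases (Nat.Prime.dvd_mul h1.1).1 h4 with h2 | h2
          · rw [Nat.prime_dvd_prime_iff_eq h1.1 Nat.prime_two] at h2
            simp [h2]
          rcases (Nat.Prime.dvd_mul h1.1).1 h2 with h2 | h2
          · rw [Nat.prime_dvd_prime_iff_eq h1.1 Nat.prime_two] at h2
            simp [h2]
          · rw [Nat.prime_dvd_prime_iff_eq h1.1 Nat.prime_three] at h2
            have := hb3 (h2 ▸ hz) rfl
            rw [h6] at this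
            exact absurd this (by decide)
        rw [Finset.pair_eq_singleton] at this
        have := Finset.card_le_card this
        rw [Finset.card_singleton] at this
        omega
      have hwo : Odd w := hwp.odd_of_ne_two hw2
      have hm2 : Odd (m 2) := by
        have h1 := (hZ 2 h2B).2.1
        obtain ⟨c, hc⟩ := Nat.exists_eq_succ_of_ne_zero (hZ 2 h2B).1.ne'
        rw [hc, pow_succ, h6] at h1
        have h2 : 3 * w = m 2 * 2 ^ c := by
          have : 2 * (3 * w) = 2 * (m 2 * 2 ^ c) := by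
            linarith
          exact Nat.eq_of_mul_eq_mul_left (by norm_num) this
        have h3 : Odd (3 * w) := Odd.mul (by decide) hwo
        rw [h2] at h3
        exact (Nat.odd_mul.1 h3).1
      have h3 : 3 ∣ 2 ^ n - 1 := (hp3.2 n).2 (by rw [h6]; exact ⟨3 * w, by ring⟩)
      have h4 : ¬ 3 ∣ 2 ^ m 2 - 1 := by
        rw [hp3.2, ← even_iff_two_dvd, Nat.not_even_iff_odd]
        exact hm2
      rw [← fac_mul (hmn 2 h2B)] at h3
      exact ((Nat.Prime.dvd_mul Nat.prime_three).1 h3).resolve_right h4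
    · have hd2 : d = 2 → ¬ ∃ j, p + 1 = 2 ^ j := by
        rintro rfl ⟨j, hj⟩
        have := (hn2w w hw (by rw [hd, mul_comm])).1
        have := hb2 this
        subst this
        have hj2 : 2 + 1 = 2 ^ j := hj
        rcases j with _ | _ | j
        · omega
        · omega
        · have : 2 ^ (j + 1 + 1) = 4 * 2 ^ j := by ring
          omega
      obtain ⟨r, hr, hrd, -, -⟩ := Lib.Zsigmondy.exists_primitive hp2 (by omega : 2 ≤ d) hd2 he
      obtain ⟨z, hz, hzw⟩ : ∃ z ∈ B, z ≠ w := by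
        by_contra hcon
        push Not at hcon
        have : B ⊆ {w} := fun z hz => by
          rw [Finset.mem_singleton]
          exact hcon z hz
        have := Finset.card_le_card this
        rw [Finset.card_singleton] at this
        omega
      refine ⟨d, r, ⟨hr, hrd⟩, ?_, Or.inl (by rw [hd, mul_comm])⟩
      refine dvd_trans ?_ (Finset.dvd_prod_of_mem _ hz)
      have h3 : r ∣ p ^ n - 1 := (hrd n).2 ⟨w, by rw [hd, mul_comm]⟩
      have h4 : ¬ r ∣ p ^ m z - 1 := by
        rw [hrd]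
        rintro ⟨j, hj⟩
        have h5 := (hZ z hz).2.1
        rw [hj, hd, mul_assoc, mul_comm w d] at h5
        have h6 := Nat.eq_of_mul_eq_mul_left (Nat.pos_of_ne_zero hd0) h5
        have h7 : z ∣ w := by
          rw [h6]
          exact Dvd.dvd.mul_left (dvd_pow_self z (hZ z hz).1.ne') _
        exact hzw (hprim w hw z (hBp z hz).1 h7)
      rw [← fac_mul (hmn z hz)] at h3
      exact ((Nat.Prime.dvd_mul hr).1 h3).resolve_right h4
  choose! D R h1 h2 h3 using key
  have hW1 : (1 : ℕ) ∉ W := fun h => Nat.not_prime_one (hW 1 h).1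
  have hprod0 : ∏ z ∈ B, fac p n (m z) ≠ 0 := by
    rw [Finset.prod_ne_zero_iff]
    intro z hz h0
    have h4 := fac_mul (p := p) (hmn z hz)
    rw [h0, zero_mul] at h4
    have : 2 ^ 1 ≤ p ^ n := le_trans (Nat.pow_le_pow_left hp2 1) (Nat.pow_le_pow_right (by omega) hn)
    omega
  rw [← Finset.card_insert_of_notMem hW1]
  apply Finset.card_le_card_of_injOn R
  · intro w hw
    rw [Finset.mem_coe, Nat.mem_primeFactors]
    exact ⟨(h1 w hw).1, h2 w hw, hprod0⟩
  · intro a ha b hb hab
    have hab' : R a = R b := hab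
    have h4 := h1 a ha
    rw [hab'] at h4
    have h5 : D a = D b := h4.uniq (h1 b hb)
    have hexc : ∀ a ∈ insert 1 W, ∀ b ∈ insert 1 W, p = 2 → n = 6 * a → a ∈ B → 2 * b = n → a = b := by
      intro a ha b hb hp2 hn6 haB hb2
      exfalso
      have hb3 : b = 3 * a := by omega
      have ha' := hprim b hb 3 Nat.prime_three ⟨a, hb3⟩
      have : a = 1 := by omega
      exact Nat.not_prime_one (this ▸ (hBp a haB).1)
    rcases h3 a ha with h6 | ⟨h6, h7, h8, h9⟩ <;> rcases h3 b hb with h10 | ⟨h10, h11, h12, h13⟩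
    · rw [h5] at h6
      have hD0 : 0 < D b := by
        rcases Nat.eq_zero_or_pos (D b) with h | h
        · rw [h, zero_mul] at h10
          omega
        · exact h
      exact Nat.eq_of_mul_eq_mul_left hD0 (h6.trans h10.symm)
    · rw [h5, h12] at h6
      exact (hexc b hb a ha h10 h11 h13 h6).symm
    · rw [← h5, h8] at h10
      exact hexc a ha b hb h6 h7 h9 h10
    · omega

end Cfsg.Agent.H849.FactNum
end

-- part: H191/CrossE
section
prune_inst 0x4200080000000000000000000800000000000000001000000000000800000000000000000020000000000000028120000004000000000000000000000000002400002000008000000000004000000000000000000000000000000000000000000000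
set_option linter.all false
open scoped Cfsg.Agent.FastGrp

/-!
# CROSS, strong form
-/

set_option autoImplicit false
set_option linter.unusedSectionVars false
open Cfsg

namespace Cfsg.Agent.H191.Cross

open Cfsg.Agent.ClassicalGeometry
open Cfsg.Agent.Characters.Core
open Cfsg.Agent.H672
open scoped commutatorElement

universe u

section psl
variable {F : Type} [Field F] [Fintype F]

/-- **Subgroups of `PSL(2, q)`, `q ≥ 8` even, containing at least half of a Sylow 2-subgroup.** -/
theorem le_normalizer_of_large' (hF : Even (Fintype.card F)) (h4 : 4 < Fintype.card F)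
    (Q : Sylow 2 (P2 F)) (J : Subgroup (P2 F)) (hJ : J ≠ ⊤)
    (hQ : Fintype.card F ≤ 2 * Nat.card (J ⊓ (Q : Subgroup (P2 F)) : Subgroup (P2 F))) :
    J ≤ Subgroup.normalizer ((Q : Subgroup (P2 F)) : Set (P2 F)) := by
  classical
  have := charTwo hF
  obtain ⟨n, hn3, hn⟩ := card_two_pow hF h4
  have hpg : IsPGroup 2 (J ⊓ (Q : Subgroup (P2 F)) : Subgroup (P2 F)) := Q.isPGroup'.to_le inf_le_right
  obtain ⟨a, ha⟩ := (IsPGroup.iff_card).1 hpg
  have han : n ≤ a + 1 := by
    rw [ha, hn, ← pow_succ'] at hQ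
    exact (Nat.pow_le_pow_iff_right (by norm_num)).1 hQ
  have hdJ : 2 ^ (n - 1) ∣ Nat.card J := by
    have h1 : 2 ^ (n - 1) ∣ 2 ^ a := pow_dvd_pow 2 (by omega)
    rw [← ha] at h1
    exact h1.trans (Subgroup.card_dvd_of_le inf_le_left)
  have h4J : 4 ∣ Nat.card J := by
    have h1 : 2 ^ 2 ∣ 2 ^ (n - 1) := pow_dvd_pow 2 (by omega)
    exact (by norm_num : (4 : ℕ) = 2 ^ 2) ▸ h1.trans hdJ
  -- it suffices to find a nontrivial normal 2-subgroup
  have key : ∀ R : Subgroup J, R.Normal → IsPGroup 2 R → R ≠ ⊥ →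
      J ≤ Subgroup.normalizer ((Q : Subgroup (P2 F)) : Set (P2 F)) := by
    intro R hR hRp hR1
    obtain ⟨P, hRP, hJP⟩ := PSL2ElemOrder.le_normalizer_of_normal 2 J (R.map J.subtype)
      (hRp.map _) (by
        intro h
        apply hR1
        rw [Subgroup.map_eq_bot_iff_of_injective _ J.subtype_injective] at h
        exact h)
      (by
        intro g hg
        rw [Subgroup.mem_normalizer_iff]
        intro h
        constructor
        · rintro ⟨r, hr, rfl⟩
          exact ⟨⟨g, hg⟩ * r * ⟨g, hg⟩⁻¹, hR.conj_mem r hr _, rfl⟩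
        · rintro ⟨r, hr, hr2⟩
          refine ⟨⟨g, hg⟩⁻¹ * r * ⟨g, hg⟩, ?_, ?_⟩
          · have := hR.conj_mem r hr (⟨g, hg⟩ : J)⁻¹
            simpa only [_root_.SetLike.mem_coe, _root_.inv_inv] using this
          · have h3 : (r : P2 F) = g * h * g⁻¹ := hr2
            show g⁻¹ * (r : P2 F) * g = h
            rw [h3]
            group)
    have h5 : J ⊓ (Q : Subgroup (P2 F)) ≤ (P : Subgroup (P2 F)) := by
      have h6 : J ⊓ (Q : Subgroup (P2 F)) ⊓
          Subgroup.normalizer ((P : Subgroup (P2 F)) : Set (P2 F)) = J ⊓ (Q : Subgroup (P2 F)) ⊓ (P : Subgroup (P2 F)) :=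
        hpg.inf_normalizer_sylow P
      have h7 : J ⊓ (Q : Subgroup (P2 F)) ≤ J ⊓ (Q : Subgroup (P2 F)) ⊓
          Subgroup.normalizer ((P : Subgroup (P2 F)) : Set (P2 F)) :=
        le_inf le_rfl (inf_le_left.trans hJP)
      rw [h6] at h7
      exact h7.trans inf_le_right
    have hne : (J ⊓ (Q : Subgroup (P2 F)) : Subgroup (P2 F)) ≠ ⊥ := by
      intro h0
      rw [h0] at hQ
      simp only [_root_.Subgroup.mem_bot, _root_.Nat.card_eq_fintype_card, _root_.Fintype.card_unique, _root_.mul_one] at hQ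
      omega
    obtain ⟨x, hx, hx1⟩ := (Subgroup.bot_or_exists_ne_one _).resolve_left hne
    have h8 : P = Q := PSL2ElemOrder.sylow_eq_of_mem 2 P Q x hx1 (h5 hx) (hx.2)
    rw [← h8]
    exact hJP
  have hgcd : Nat.gcd 2 (Fintype.card F - 1) = 1 := by
    have h2 : 2 ∣ Fintype.card F := hF.two_dvd
    rw [← Nat.coprime_iff_gcd_eq_one, Nat.prime_two.coprime_iff_not_dvd]
    omega
  rcases S0799.result (F := F) rfl 2 J with h | h | h | h | h | h
  · exfalso
    obtain ⟨k, hk, hk2⟩ := h
    rw [hgcd, Nat.div_one, Nat.div_one] at hk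
    have hodd : ¬ 2 ∣ k := by
      intro h2
      have h3 : 2 ∣ Fintype.card F := hF.two_dvd
      rcases hk with hk | hk
      · have := h2.trans hk
        omega
      · have := h2.trans hk
        omega
    rcases hk2 with ⟨-, hk2⟩ | ⟨⟨e⟩⟩
    · rw [hk2] at h4J
      omega
    · rw [Nat.card_congr e.toEquiv, DihedralGroup.nat_card] at h4J
      omega
  · obtain ⟨P, K, hKP, ⟨e⟩⟩ := h
    -- `P ∩ K` pulled back
    let R : Subgroup J := ((P : Subgroup (P2 F)).subgroupOf K).comap e.toMonoidHom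
    have hRn : R.Normal := by
      have h1 : ((P : Subgroup (P2 F)).subgroupOf K).Normal := Subgroup.normal_subgroupOf_of_le_normalizer hKP
      exact Subgroup.Normal.comap h1 _
    have hRp : IsPGroup 2 R := by
      apply IsPGroup.comap_of_injective _ _ e.injective
      exact (P.isPGroup'.comap_subtype)
    refine key R hRn hRp ?_
    intro h0
    have h1 : (P : Subgroup (P2 F)).subgroupOf K = ⊥ := by
      have h2 : R.map e.toMonoidHom = (P : Subgroup (P2 F)).subgroupOf K :=
        Subgroup.map_comap_eq_self_of_surjective e.surjective _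
      rw [← h2, h0, Subgroup.map_bot]
    -- `K` has even order, so an involution
    have h2 : 2 ∣ Nat.card K := by
      rw [← Nat.card_congr e.toEquiv]
      exact (by norm_num : (2 : ℕ) ∣ 4).trans h4J
    obtain ⟨x, hx⟩ := exists_prime_orderOf_dvd_card' 2 h2
    have h3 : IsPGroup 2 (Subgroup.zpowers (x : P2 F)) := by
      apply IsPGroup.of_card (n := 1)
      rw [Nat.card_zpowers, pow_one]
      simpa using hx
    have h4 : Subgroup.zpowers (x : P2 F) ⊓ Subgroup.normalizer ((P : Subgroup (P2 F)) : Set (P2 F)) =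
        Subgroup.zpowers (x : P2 F) ⊓ (P : Subgroup (P2 F)) := h3.inf_normalizer_sylow P
    have h5 : (x : P2 F) ∈ (P : Subgroup (P2 F)) := by
      have h6 : (x : P2 F) ∈ Subgroup.zpowers (x : P2 F) ⊓ Subgroup.normalizer ((P : Subgroup (P2 F)) : Set (P2 F)) :=
        ⟨Subgroup.mem_zpowers _, hKP x.2⟩
      rw [h4] at h6
      exact h6.2
    have h6 : x ∈ (P : Subgroup (P2 F)).subgroupOf K := h5
    rw [h1, Subgroup.mem_bot] at h6
    rw [h6, orderOf_one] at hx
    omega
  · obtain ⟨e⟩ := h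
    have h44 : Nat.card (Fin 4) = 4 := by simp
    have hV4 := alternatingGroup.kleinFour_card_of_card_eq_four (α := Fin 4) h44
    have hVn := alternatingGroup.normal_kleinFour (α := Fin 4) h44
    let R : Subgroup J := (alternatingGroup.kleinFour (Fin 4)).comap e.toMonoidHom
    have hRn : R.Normal := Subgroup.Normal.comap hVn _
    have hcR : Nat.card R = 4 := by
      rw [← hV4]
      have h1 : (R.map e.toMonoidHom) = alternatingGroup.kleinFour (Fin 4) :=
        Subgroup.map_comap_eq_self_of_surjective e.surjective _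
      rw [← h1]
      exact Nat.card_congr (R.equivMapOfInjective e.toMonoidHom e.injective).toEquiv
    refine key R hRn ?_ ?_
    · apply IsPGroup.of_card (n := 2)
      rw [hcR]; norm_num
    · rintro h0
      rw [h0] at hcR
      simp at hcR
  · exfalso
    obtain ⟨e⟩ := h
    let σ : Equiv.Perm (Fin 4) := finRotate 4
    have h1 : σ * σ ≠ 1 := by decide
    have h2 : σ ^ 2 ^ 2 = 1 := by decide
    have h3 : (((e.symm σ : J) : P2 F)) ^ 2 ^ 2 = 1 := by
      have h5 : (e.symm σ) ^ 2 ^ 2 = 1 := by rw [← map_pow, h2, map_one]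
      exact congrArg Subtype.val h5
    have h4' := WeakTI.PslTwo.mul_self (MulEquiv.refl (P2 F)) h3
    apply h1
    have h5 : (e.symm σ) * (e.symm σ) = 1 := Subtype.ext h4'
    rw [← map_mul] at h5
    exact e.symm.injective (h5.trans (map_one _).symm)
  · exfalso
    obtain ⟨e⟩ := h
    have hc : Nat.card J = 60 := by
      rw [Nat.card_congr e.toEquiv, nat_card_alternatingGroup]
      simp; decide
    rw [hc] at hdJ
    have hle : n ≤ 6 := by
      by_contra hcon
      push Not at hcon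
      have h3 : 2 ^ 6 ≤ 2 ^ (n - 1) := Nat.pow_le_pow_right (by norm_num) (by omega)
      have h5 := Nat.le_of_dvd (by omega) hdJ
      omega
    have h6 : n = 3 := by
      interval_cases n <;> first | rfl | (exfalso; revert hdJ; decide)
    subst h6
    have h7 := Subgroup.card_subgroup_dvd_card J
    have h8 : Nat.card (P2 F) = Fintype.card F * (Fintype.card F ^ 2 - 1) := Classification.PSLTwoEvenSylow.card_psl
    rw [hc, h8, hn] at h7
    revert h7
    decide
  · exfalso
    obtain ⟨K, iK, iK2, m, hm, h⟩ := h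
    have hm0 : m ≠ 0 := by
      rintro rfl
      rw [pow_zero] at hm
      omega
    have hKe : Even (Fintype.card K) := by
      rw [even_iff_two_dvd]
      have h2 : 2 ∣ Fintype.card F := hF.two_dvd
      rw [← hm] at h2
      exact Nat.prime_two.dvd_of_dvd_pow h2
    have hc : Nat.card J = Fintype.card K * (Fintype.card K ^ 2 - 1) := by
      have := charTwo hKe
      rcases h with ⟨⟨e⟩⟩ | ⟨⟨e⟩⟩
      · rw [Nat.card_congr e.toEquiv]
        exact Classification.PSLTwoEvenSylow.card_psl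
      · rw [Nat.card_congr e.toEquiv]
        exact PSL2Basic.card_PGL2 K
    rcases (show m = 1 ∨ 2 ≤ m by omega) with rfl | hm2
    · rw [pow_one] at hm
      apply hJ
      apply Subgroup.eq_top_of_card_eq
      rw [hc, hm]
      exact Classification.PSLTwoEvenSylow.card_psl.symm
    · have hK2 : 2 ≤ Fintype.card K := Fintype.one_lt_card
      have h6 : Fintype.card K ^ 2 ≤ Fintype.card F := by
        rw [← hm]
        exact Nat.pow_le_pow_right (by omega) hm2
      have hodd : ¬ 2 ∣ Fintype.card K ^ 2 - 1 := by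
        have h2 : 2 ∣ Fintype.card K ^ 2 := (hKe.two_dvd).trans (dvd_pow_self _ (by norm_num))
        have h3 : 0 < Fintype.card K ^ 2 := by positivity
        omega
      rw [hc] at hdJ
      have h7 : 2 ^ (n - 1) ∣ Fintype.card K :=
        (Nat.Coprime.pow_left _ ((Nat.prime_two.coprime_iff_not_dvd).2 hodd)).dvd_of_dvd_mul_right hdJ
      have h8 := Nat.le_of_dvd (by omega) h7
      have h9 : 2 ^ n = 2 * 2 ^ (n - 1) := by rw [← pow_succ']; congr 1; omega
      rw [hn, h9] at h6
      have h10 : Fintype.card K ≤ 2 := by nlinarith only [h6, h8]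
      have h11 : 2 ^ 2 ≤ 2 ^ (n - 1) := Nat.pow_le_pow_right (by norm_num) (by omega)
      omega

/-- A 2-subgroup of the normaliser of `Q` is in `Q`. -/
theorem le_sylow_of_isPGroup (Q : Sylow 2 (P2 F)) (J : Subgroup (P2 F))
    (hJ : J ≤ Subgroup.normalizer ((Q : Subgroup (P2 F)) : Set (P2 F))) (hp : IsPGroup 2 J) :
    J ≤ (Q : Subgroup (P2 F)) := by
  have h6 : J ⊓ Subgroup.normalizer ((Q : Subgroup (P2 F)) : Set (P2 F)) = J ⊓ (Q : Subgroup (P2 F)) :=
    hp.inf_normalizer_sylow Q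
  rw [inf_eq_left.2 hJ] at h6
  rw [h6]
  exact inf_le_right

/-- If `J` normalises `Q` and meets it in a subgroup of index two, then `J ≤ Q`. -/
theorem le_of_half (hF : Even (Fintype.card F)) (h4 : 4 < Fintype.card F)
    (Q : Sylow 2 (P2 F)) (J : Subgroup (P2 F))
    (hJ : J ≤ Subgroup.normalizer ((Q : Subgroup (P2 F)) : Set (P2 F)))
    (hQ : Fintype.card F ≤ 2 * Nat.card (J ⊓ (Q : Subgroup (P2 F)) : Subgroup (P2 F)))
    (hne : ¬ (Q : Subgroup (P2 F)) ≤ J) : J ≤ (Q : Subgroup (P2 F)) ∧ 2 * Nat.card J = Fintype.card F := by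
  classical
  have := charTwo hF
  obtain ⟨n, hn3, hn⟩ := card_two_pow hF h4
  have hcQ : Nat.card (Q : Subgroup (P2 F)) = Fintype.card F := card_sylow hF h4 Q
  -- the order of the intersection
  have hhalf : 2 * Nat.card (J ⊓ (Q : Subgroup (P2 F)) : Subgroup (P2 F)) = Fintype.card F := by
    have h1 : Nat.card (J ⊓ (Q : Subgroup (P2 F)) : Subgroup (P2 F)) ∣ Fintype.card F := by
      rw [← hcQ]; exact Subgroup.card_dvd_of_le inf_le_right
    obtain ⟨c, hc⟩ := h1
    have h2 : Nat.card (J ⊓ (Q : Subgroup (P2 F)) : Subgroup (P2 F)) ≠ Fintype.card F := by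
      intro h
      apply hne
      have h3 : J ⊓ (Q : Subgroup (P2 F)) = (Q : Subgroup (P2 F)) :=
        Subgroup.eq_of_le_of_card_ge inf_le_right (by rw [h, hcQ])
      rw [← h3]
      exact inf_le_left
    have hpos : 0 < Nat.card (J ⊓ (Q : Subgroup (P2 F)) : Subgroup (P2 F)) := Nat.card_pos
    have h3 : c ≤ 2 := by
      by_contra hcon
      push Not at hcon
      nlinarith only [h4, hQ, hc, hcon]
    interval_cases c
    · omega
    · omega
    · omega
  have hJ2 : IsPGroup 2 J := by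
    rw [IsPGroup.iff_card]
    refine ⟨_, Nat.eq_prime_pow_of_unique_prime_dvd Nat.card_pos.ne' ?_⟩
    intro p hp hpd
    by_contra hp2
    have := Fact.mk hp
    obtain ⟨g, hg⟩ := exists_prime_orderOf_dvd_card' p hpd
    let α := {y : P2 F // y ∈ Q ∧ y ∉ J}
    let Z := Subgroup.zpowers g
    have hmem : ∀ (z : Z) (y : P2 F), y ∈ Q ∧ y ∉ J → ((z : J) : P2 F) * y * ((z : J) : P2 F)⁻¹ ∈ Q ∧
        ((z : J) : P2 F) * y * ((z : J) : P2 F)⁻¹ ∉ J := by
      rintro z y ⟨hy, hyJ⟩
      refine ⟨(Subgroup.mem_normalizer_iff.1 (hJ (z : J).2) y).1 hy, ?_⟩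
      intro h
      apply hyJ
      have h2 := mul_mem (mul_mem (inv_mem (z : J).2) h) (z : J).2
      simpa only [mul_assoc, _root_.inv_mul_cancel_left, _root_.inv_mul_cancel, _root_.mul_one] using h2
    let _ : MulAction Z α :=
      { smul := fun z y => ⟨((z : J) : P2 F) * y * ((z : J) : P2 F)⁻¹, hmem z y y.2⟩
        one_smul := by
          intro y
          apply Subtype.ext
          show ((1 : J) : P2 F) * (y : P2 F) * ((1 : J) : P2 F)⁻¹ = y
          simp only [_root_.OneMemClass.coe_one, _root_.one_mul, _root_.inv_one, _root_.mul_one]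
        mul_smul := by
          intro a b y
          apply Subtype.ext
          show (((a : J) * (b : J) : J) : P2 F) * (y : P2 F) * (((a : J) * (b : J) : J) : P2 F)⁻¹ =
            ((a : J) : P2 F) * (((b : J) : P2 F) * y * ((b : J) : P2 F)⁻¹) * ((a : J) : P2 F)⁻¹
          simp only [mul_assoc, _root_.Subgroup.coe_mul, _root_.mul_inv_rev] }
    have hcα : Nat.card α = 2 ^ (n - 1) := by
      have h1 : Nat.card α + Nat.card (J ⊓ (Q : Subgroup (P2 F)) : Subgroup (P2 F)) = Fintype.card F := by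
        have h2 : Nat.card α = (((Q : Subgroup (P2 F)) : Set (P2 F)) \ ((J ⊓ (Q : Subgroup (P2 F)) : Subgroup (P2 F)) : Set (P2 F))).ncard := by
          show Nat.card {y : P2 F // y ∈ Q ∧ y ∉ J} = _
          rw [← Nat.card_coe_set_eq]
          apply Nat.card_congr
          apply Equiv.subtypeEquivRight
          intro y
          constructor
          · rintro ⟨h, h'⟩
            exact ⟨h, fun h2 => h' h2.1⟩
          · rintro ⟨h, h'⟩
            exact ⟨h, fun h2 => h' ⟨h2, h⟩⟩
        have h3 : ((J ⊓ (Q : Subgroup (P2 F)) : Subgroup (P2 F)) : Set (P2 F)).ncard = Nat.card (J ⊓ (Q : Subgroup (P2 F)) : Subgroup (P2 F)) := rfl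
        rw [h2, ← h3, Set.ncard_sdiff_add_ncard_of_subset (fun x hx => hx.2), ← hcQ]
        rfl
      have h9 : 2 ^ n = 2 * 2 ^ (n - 1) := by rw [← pow_succ']; congr 1; omega
      omega
    have hZ : IsPGroup p Z := by
      apply IsPGroup.of_card (n := 1)
      rw [Nat.card_zpowers, pow_one, hg]
    have hndvd : ¬ p ∣ Nat.card α := by
      rw [hcα]
      intro h
      exact hp2 ((Nat.prime_dvd_prime_iff_eq hp Nat.prime_two).1 (hp.dvd_of_dvd_pow h))
    have hfα : Finite α := inferInstance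
    obtain ⟨y, hy⟩ := hZ.nonempty_fixed_point_of_prime_not_dvd_card α hndvd
    have hy2 := hy ⟨g, Subgroup.mem_zpowers g⟩
    have hy3 : (g : P2 F) * (y : P2 F) * (g : P2 F)⁻¹ = y := congrArg Subtype.val hy2
    have hy1 : (y : P2 F) ≠ 1 := by
      intro h
      exact y.2.2 (h ▸ one_mem J)
    have h7 := WeakTI.PslTwo.cent (MulEquiv.refl (P2 F)) (sq_one hF Q y.2.1) hy1
      (mul_inv_eq_iff_eq_mul.1 hy3).symm
    have h8 : g ^ 2 = 1 := by
      apply Subtype.ext
      rw [pow_two]
      exact h7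
    have h9 := orderOf_dvd_of_pow_eq_one h8
    rw [hg] at h9
    exact hp2 ((Nat.prime_dvd_prime_iff_eq hp Nat.prime_two).1 h9)
  have hle := le_sylow_of_isPGroup Q J hJ hJ2
  refine ⟨hle, ?_⟩
  rw [← hhalf, inf_eq_left.2 hle]

end psl

section main
variable {X : Type u} [Group X] [Finite X] (V : Subgroup X) [hVn : V.Normal]
  {F : Type} [Field F] [Fintype F] (π : X →* P2 F)

/-- the odd case: a linear character whose stabiliser meets `Q` in index two -/
theorem exists_half (hF : Even (Fintype.card F)) (h4 : 4 < Fintype.card F)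
    (hVc : ∀ x ∈ V, ∀ y ∈ V, x * y = y * x) (hπ : Function.Surjective π) (hker : π.ker = V)
    (Q : Sylow 2 (P2 F)) (hfin : Finite (V →* ℂˣ)) (hodd : Odd (Nat.card (V →* ℂˣ)))
    (hne : ∃ x : X, π x ∈ Q ∧ ∃ l : V →* ℂˣ, x ∉ inertia V (lf l)) :
    ∃ l : V →* ℂˣ, ¬ (Q : Subgroup (P2 F)) ≤ (inertia V (lf l)).map π ∧
      Fintype.card F ≤ 2 * Nat.card ((inertia V (lf l)).map π ⊓ (Q : Subgroup (P2 F)) : Subgroup (P2 F)) := by
  classical
  let _ := act V
  let D : Subgroup X := (Q : Subgroup (P2 F)).comap π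
  have hVfix : ∀ v ∈ V, ∀ l : V →* ℂˣ, v • l = l := fun v hv l =>
    (act_eq_iff V v l).2 (le_inertia' V hVc l hv)
  obtain ⟨l, ⟨d, hd⟩, hl⟩ := exists_sign (D := D) (M := V →* ℂˣ) hodd
    (by
      intro d m
      rw [← mul_smul]
      exact hVfix _ (sq_mem V π hF hker Q d.2) m)
    (by
      intro d e m
      rw [← mul_smul, ← mul_smul]
      have h1 : ((d * e : D) : X) = (e * d : X) * ((e * d : X)⁻¹ * (d * e : X)) := by
        rw [mul_inv_cancel_left]; rfl
      show ((d * e : D) : X) • m = ((e * d : D) : X) • m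
      rw [h1, mul_smul, hVfix _ (comm_mem V π hF hker Q d.2 e.2) m]
      rfl)
    (by
      obtain ⟨x, hx, l, hl⟩ := hne
      refine ⟨⟨x, hx⟩, l, ?_⟩
      intro h
      exact hl ((act_eq_iff V x l).1 h))
  have hdn : π d ∉ (inertia V (lf l)).map π := by
    rw [mem_map_iff V π hVc hker l, ← act_eq_iff]
    exact hd
  have hl1 : l⁻¹ ≠ l := by
    intro h
    apply hd
    rcases hl d with h1 | h1
    · exact h1
    · rw [h1, h]
  have hidx : (((inertia V (lf l)).map π).subgroupOf (Q : Subgroup (P2 F))).index = 2 := by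
    rw [Subgroup.index_eq_two_iff]
    refine ⟨⟨π d, d.2⟩, ?_⟩
    rintro ⟨b, hb⟩
    obtain ⟨x, rfl⟩ := hπ b
    rw [Subgroup.mem_subgroupOf, Subgroup.mem_subgroupOf]
    show Xor (π x * π (d : X) ∈ _) (π x ∈ _)
    rw [← map_mul, mem_map_iff V π hVc hker l, mem_map_iff V π hVc hker l, ← act_eq_iff, ← act_eq_iff, mul_smul]
    have hd1 : (d : X) • l = l⁻¹ := (hl d).resolve_left hd
    have e1 : x • l⁻¹ = (x • l)⁻¹ := rfl
    rw [hd1, e1]
    rcases hl ⟨x, hb⟩ with h1 | h1
    · have h2 : x • l = l := h1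
      right
      rw [h2]
      exact ⟨rfl, hl1⟩
    · have h2 : x • l = l⁻¹ := h1
      left
      rw [h2]
      exact ⟨inv_inv l, hl1⟩
  have hcard : Fintype.card F ≤ 2 * Nat.card ((inertia V (lf l)).map π ⊓ (Q : Subgroup (P2 F)) : Subgroup (P2 F)) := by
    have h1 := Subgroup.card_mul_index (((inertia V (lf l)).map π).subgroupOf (Q : Subgroup (P2 F)))
    rw [hidx] at h1
    have h2 : Nat.card (((inertia V (lf l)).map π).subgroupOf (Q : Subgroup (P2 F))) =
        Nat.card ((inertia V (lf l)).map π ⊓ (Q : Subgroup (P2 F)) : Subgroup (P2 F)) := by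
      rw [← Subgroup.subgroupOf_map_subtype]
      exact (Nat.card_congr (Subgroup.equivMapOfInjective _ _ (Subgroup.subtype_injective _)).toEquiv)
    have h3 := card_sylow hF h4 Q
    have h5 : Nat.card (Q : Subgroup (P2 F)) = Fintype.card F := h3
    rw [← h2]
    omega
  exact ⟨l, fun h5 => hdn (h5 d.2), hcard⟩

/-- The inverse image of `Q` in the inertia group. -/
def PP (Q : Sylow 2 (P2 F)) (l : V →* ℂˣ) : Subgroup (inertia V (lf l)) :=
  ((Q : Subgroup (P2 F)).comap π).subgroupOf (inertia V (lf l))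

theorem mem_PP (Q : Sylow 2 (P2 F)) (l : V →* ℂˣ) (x : inertia V (lf l)) :
    x ∈ PP V π Q l ↔ π (x : X) ∈ Q := Iff.rfl

/-- The embedding of `V`. -/
def embV (hVc : ∀ x ∈ V, ∀ y ∈ V, x * y = y * x) (hker : π.ker = V) (Q : Sylow 2 (P2 F)) (l : V →* ℂˣ) :
    V →* PP V π Q l :=
  (Subgroup.inclusion (le_inertia' V hVc l)).codRestrict (PP V π Q l) (by
    intro v
    rw [mem_PP]
    have : (v : X) ∈ π.ker := by rw [hker]; exact v.2
    show π (v : X) ∈ _
    rw [(MonoidHom.mem_ker).1 this]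
    exact one_mem _)

/-- **The even case**: if the stabiliser is transitive on the involutions of `Q`, the linear character extends. -/
theorem exists_extension (hF : Even (Fintype.card F)) (h4 : 4 < Fintype.card F)
    (hVc : ∀ x ∈ V, ∀ y ∈ V, x * y = y * x) (hπ : Function.Surjective π) (hker : π.ker = V)
    (Q : Sylow 2 (P2 F)) (hV2 : ∀ v ∈ V, v * v = 1) (l : V →* ℂˣ)
    (hfix : ∀ x : X, π x ∈ Q → x ∈ inertia V (lf l))
    (htr : ∀ a b : P2 F, a ∈ Q → a ≠ 1 → b ∈ Q → b ≠ 1 → ∃ g ∈ (inertia V (lf l)).map π, g * a * g⁻¹ = b) :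
    ∃ φ : PP V π Q l →* ℂˣ, ∀ v : V, φ (embV V π hVc hker Q l v) = l v := by
  classical
  have := charTwo hF
  have hVI : V ≤ inertia V (lf l) := le_inertia' V hVc l
  have hcQ : Nat.card (Q : Subgroup (P2 F)) = Fintype.card F := card_sylow hF h4 Q
  -- the extended function
  let L : X → ℂˣ := fun x => if h : x ∈ V then l ⟨x, h⟩ else 1
  have hLdef : ∀ x (h : x ∈ V), L x = l ⟨x, h⟩ := fun x h => dif_pos h
  have hLmul : ∀ a ∈ V, ∀ b ∈ V, L (a * b) = L a * L b := by
    intro a ha b hb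
    rw [hLdef _ (mul_mem ha hb), hLdef a ha, hLdef b hb, ← map_mul]
    rfl
  have hL1 : L 1 = 1 := by
    rw [hLdef 1 (one_mem V)]
    exact map_one l
  have hLconj : ∀ g ∈ inertia V (lf l), ∀ a ∈ V, L (g * a * g⁻¹) = L a := by
    intro g hg a ha
    rw [hLdef _ (hVn.conj_mem a ha g), hLdef a ha]
    exact (mem_inertia_lf V).1 hg ⟨a, ha⟩
  have hLconj' : ∀ g ∈ inertia V (lf l), ∀ a ∈ V, L (g⁻¹ * a * g) = L a := by
    intro g hg a ha
    have := hLconj g⁻¹ (inv_mem hg) a ha
    rwa [inv_inv] at this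
  have hsqV : ∀ x, π x ∈ Q → x * x ∈ V := fun x hx => sq_mem V π hF hker Q hx
  have hA : ∀ y, π y ∈ Q → ∀ v ∈ V, L ((y * v) * (y * v)) = L (y * y) := by
    intro y hy v hv
    have h1 : (y * v) * (y * v) = (y * y) * ((y⁻¹ * v * y) * v) := by group
    have h2 : y⁻¹ * v * y ∈ V := by
      have := hVn.conj_mem v hv y⁻¹
      rwa [inv_inv] at this
    rw [h1, hLmul _ (hsqV y hy) _ (mul_mem h2 hv), hLmul _ h2 _ hv, hLconj' y (hfix y hy) v hv,
      ← hLmul v hv v hv, hV2 v hv, hL1, mul_one]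
  have hB : ∀ x y, π x ∈ Q → π x ≠ 1 → π y ∈ Q → π y ≠ 1 → L (x * x) = L (y * y) := by
    intro x y hx hx1 hy hy1
    obtain ⟨g0, ⟨g, hg, rfl⟩, hgxy⟩ := htr _ _ hx hx1 hy hy1
    have hv : (g * x * g⁻¹)⁻¹ * y ∈ V := by
      rw [← hker, MonoidHom.mem_ker, map_mul, map_inv, map_mul, map_mul, map_inv, hgxy, inv_mul_cancel]
    have h1 : y = (g * x * g⁻¹) * ((g * x * g⁻¹)⁻¹ * y) := by group
    have h2 : π (g * x * g⁻¹) ∈ Q := by
      rw [map_mul, map_mul, map_inv, hgxy]
      exact hy
    rw [h1, hA _ h2 _ hv]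
    have h3 : (g * x * g⁻¹) * (g * x * g⁻¹) = g * (x * x) * g⁻¹ := by group
    rw [h3, hLconj g hg _ (hsqV x hx)]
  -- the commutator form
  have hcm : ∀ a b, π a ∈ Q → π b ∈ Q → a⁻¹ * b * a * b⁻¹ ∈ V := by
    intro a b ha hb
    rw [← hker, MonoidHom.mem_ker]
    have h1 := comm_of hF Q ha hb
    simp only [map_mul, map_inv]
    rw [mul_assoc, mul_assoc, ← mul_assoc (π b), ← h1, mul_assoc, mul_inv_cancel, mul_one, inv_mul_cancel]
  have hC : ∀ a b, π a ∈ Q → π b ∈ Q → L ((a * b) * (a * b)) = L (a * a) * L (b * b) * L (a⁻¹ * b * a * b⁻¹) := by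
    intro a b ha hb
    have h1 : (a * b) * (a * b) = (a * a) * ((a⁻¹ * b * a * b⁻¹) * (b * b)) := by group
    rw [h1, hLmul _ (hsqV a ha) _ (mul_mem (hcm a b ha hb) (hsqV b hb)), hLmul _ (hcm a b ha hb) _ (hsqV b hb),
      mul_comm (L (a⁻¹ * b * a * b⁻¹)) (L (b * b)), ← mul_assoc]
  have hD : ∀ a b c, π a ∈ Q → π b ∈ Q → π c ∈ Q →
      L (a⁻¹ * (b * c) * a * (b * c)⁻¹) = L (a⁻¹ * b * a * b⁻¹) * L (a⁻¹ * c * a * c⁻¹) := by
    intro a b c ha hb hc
    have h1 : a⁻¹ * (b * c) * a * (b * c)⁻¹ = (a⁻¹ * b * a * b⁻¹) * (b * (a⁻¹ * c * a * c⁻¹) * b⁻¹) := by group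
    rw [h1, hLmul _ (hcm a b ha hb) _ (hVn.conj_mem _ (hcm a c ha hc) b), hLconj b (hfix b hb) _ (hcm a c ha hc)]
  -- three independent elements
  have hpick : ∀ S : Finset (P2 F), S.card ≤ 4 → ∃ x : X, π x ∈ Q ∧ π x ∉ S := by
    intro S hS
    by_contra hcon
    push Not at hcon
    have h1 : ((Q : Subgroup (P2 F)) : Set (P2 F)) ⊆ S := by
      intro b hb
      obtain ⟨x, rfl⟩ := hπ b
      exact hcon x hb
    have h2 := Set.ncard_le_ncard h1 S.finite_toSet
    rw [Set.ncard_coe_finset] at h2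
    have h3 : ((Q : Subgroup (P2 F)) : Set (P2 F)).ncard = Fintype.card F := hcQ
    omega
  obtain ⟨a, haQ, ha⟩ := hpick {1} (by simp)
  obtain ⟨b, hbQ, hb⟩ := hpick {1, π a} (Finset.card_le_two.trans (by norm_num))
  obtain ⟨c, hcQ', hc⟩ := hpick {1, π a, π b, π a * π b} Finset.card_le_four
  simp only [Finset.mem_singleton, Finset.mem_insert, not_or] at ha hb hc
  have hinv : ∀ x, π x ∈ Q → (π x)⁻¹ = π x := fun x hx => inv_eq_of_mul_eq_one_left (sq_one hF Q hx)
  have hab : π (a * b) ≠ 1 := by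
    rw [map_mul]
    intro h
    apply hb.2
    rw [← hinv a haQ]
    exact (inv_eq_of_mul_eq_one_right h).symm
  have hac : π (a * c) ≠ 1 := by
    rw [map_mul]
    intro h
    apply hc.2.1
    rw [← hinv a haQ]
    exact (inv_eq_of_mul_eq_one_right h).symm
  have hbc : π (b * c) ≠ 1 := by
    rw [map_mul]
    intro h
    apply hc.2.2.1
    rw [← hinv b hbQ]
    exact (inv_eq_of_mul_eq_one_right h).symm
  have habQ : π (a * b) ∈ Q := by rw [map_mul]; exact mul_mem haQ hbQ
  have hacQ : π (a * c) ∈ Q := by rw [map_mul]; exact mul_mem haQ hcQ'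
  have hbcQ : π (b * c) ∈ Q := by rw [map_mul]; exact mul_mem hbQ hcQ'
  have habc : π (a * (b * c)) ≠ 1 := by
    rw [← mul_assoc, map_mul]
    intro h
    apply hc.2.2.2
    rw [← map_mul, ← hinv _ habQ]
    exact (inv_eq_of_mul_eq_one_right h).symm
  have habcQ : π (a * (b * c)) ∈ Q := by rw [map_mul]; exact mul_mem haQ hbcQ
  have hc0 : L (a * a) = 1 := by
    have e1 := hC a b haQ hbQ
    rw [← hB a _ haQ ha habQ hab, ← hB a b haQ ha hbQ hb.1] at e1
    have e2 := hC a c haQ hcQ'
    rw [← hB a _ haQ ha hacQ hac, ← hB a c haQ ha hcQ' hc.1] at e2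
    have e3 := hC a (b * c) haQ hbcQ
    rw [← hB a _ haQ ha habcQ habc, ← hB a _ haQ ha hbcQ hbc, hD a b c haQ hbQ hcQ'] at e3
    set s := L (a * a)
    set w1 := L (a⁻¹ * b * a * b⁻¹)
    set w2 := L (a⁻¹ * c * a * c⁻¹)
    have f1 : s * w1 = 1 := by
      have : s * 1 = s * (s * w1) := by rw [mul_one, ← mul_assoc]; exact e1
      exact (mul_left_cancel this).symm
    have f2 : s * w2 = 1 := by
      have : s * 1 = s * (s * w2) := by rw [mul_one, ← mul_assoc]; exact e2
      exact (mul_left_cancel this).symm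
    have f3 : s * (w1 * w2) = 1 := by
      have : s * 1 = s * (s * (w1 * w2)) := by rw [mul_one, ← mul_assoc]; exact e3
      exact (mul_left_cancel this).symm
    rw [← mul_assoc, f1, one_mul] at f3
    rw [f3, mul_one] at f2
    exact f2
  have hE : ∀ x, π x ∈ Q → L (x * x) = 1 := by
    intro x hx
    by_cases hx1 : π x = 1
    · have hxV : x ∈ V := by rw [← hker]; exact hx1
      rw [hV2 x hxV, hL1]
    · rw [← hB a x haQ ha hx hx1, hc0]
  have hf : Function.Injective (embV V π hVc hker Q l) := by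
    intro v w h
    have h1 : (((embV V π hVc hker Q l v) : inertia V (lf l)) : X) = ((embV V π hVc hker Q l w : inertia V (lf l)) : X) := by
      rw [h]
    exact Subtype.ext h1
  exact exists_ext (embV V π hVc hker Q l) hf l
    (by
      intro x v
      refine ⟨⟨(x : X) * v * (x : X)⁻¹, hVn.conj_mem _ v.2 _⟩, rfl, ?_⟩
      have h1 := hLconj (x : X) (x : inertia V (lf l)).2 v v.2
      rw [hLdef _ (hVn.conj_mem _ v.2 _), hLdef _ v.2] at h1
      exact h1)
    (by
      intro x
      have hx : π (x : X) ∈ Q := x.2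
      refine ⟨⟨(x : X) * x, hsqV _ hx⟩, rfl, ?_⟩
      have h1 := hE (x : X) hx
      rw [hLdef _ (hsqV _ hx)] at h1
      exact h1)


theorem fac (q : ℕ) (h1 : 1 < q) : q ^ 2 - 1 = (q - 1) * (q + 1) := by
  obtain ⟨m, hm⟩ : ∃ m, q = m + 1 := ⟨q - 1, by omega⟩
  rw [hm]
  simp only [Nat.add_sub_cancel]
  have : (m + 1) ^ 2 = m * (m + 1 + 1) + 1 := by ring
  omega

/-- Clifford correspondence for degrees. -/
theorem degree_of_over (l : V →* ℂˣ) (hVI : V ≤ inertia V (lf l)) {ψ : inertia V (lf l) → ℂ}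
    (hψ : IsIrrCharacter (inertia V (lf l)) ψ)
    (hov : Over (Subgroup.inclusion hVI) ψ (lf l)) :
    (inertia V (lf l)).index * charDegree ψ ∈ charDegrees X := by
  classical
  let _ := Fintype.ofFinite X
  let _ := Fintype.ofFinite V
  let _ := Fintype.ofFinite (inertia V (lf l))
  rw [over_iff] at hov
  have h0 : classInner (Cfsg.Agent.OddOrderCharacters.PF9.CliffGen.resTo hVI ψ) (lf l) ≠ 0 := hov
  have hT : ∀ g, g ∈ inertia V (lf l) ↔ Cfsg.Agent.OddOrderCharacters.NormalInduced.conjFn V (lf l) g = lf l :=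
    fun g => Iff.rfl
  have hirr := Cfsg.Agent.OddOrderCharacters.PF9.CliffGen.irr_ind (isIrr_lf l) hT hVI hψ h0
  refine ⟨⟨_, hirr⟩, ?_⟩
  show charDegree (indFun (inertia V (lf l)) ψ) = _
  apply charDegree_of_eq
  rw [OddOrderCharacters.InertiaAbelian.indFun_one, ← coe_charDegree hψ]
  push_cast
  rfl

/-- the conclusion of the strong form -/
def Concl (X : Type u) [Group X] (q x : ℕ) : Prop :=
  (∃ d ∈ charDegrees X, (q + 1) * x ∣ d) ∨
    (∃ r : ℕ, r.Prime ∧ r ∣ q - 1 ∧ ∃ d ∈ charDegrees X, 2 * (q + 1) * r ∣ d)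

theorem comm_mem_PP (hF : Even (Fintype.card F)) (Q : Sylow 2 (P2 F)) (l : V →* ℂˣ)
    (hle : (inertia V (lf l)).map π ≤ Subgroup.normalizer ((Q : Subgroup (P2 F)) : Set (P2 F)))
    (a b : inertia V (lf l)) : ⁅a, b⁆ ∈ PP V π Q l := by
  have := charTwo hF
  rw [mem_PP]
  have ha : π (a : X) ∈ (inertia V (lf l)).map π := ⟨a, a.2, rfl⟩
  have hb : π (b : X) ∈ (inertia V (lf l)).map π := ⟨b, b.2, rfl⟩
  have h1 := H948.PSLMax.comm_pow_char 2 Q _ _ (hle ha) (hle hb)
  have h2 : π ((⁅a, b⁆ : inertia V (lf l)) : X) = ⁅π (a : X), π (b : X)⁆ := by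
    rw [← map_commutatorElement]; rfl
  rw [h2]
  have h3 : Subgroup.zpowers ⁅π (a : X), π (b : X)⁆ ≤ Subgroup.normalizer ((Q : Subgroup (P2 F)) : Set (P2 F)) := by
    rw [Subgroup.zpowers_le]
    rw [commutatorElement_def]
    exact mul_mem (mul_mem (mul_mem (hle ha) (hle hb)) (inv_mem (hle ha))) (inv_mem (hle hb))
  have h4 : IsPGroup 2 (Subgroup.zpowers ⁅π (a : X), π (b : X)⁆) := by
    rintro ⟨y, k, rfl⟩
    refine ⟨1, ?_⟩
    apply Subtype.ext
    show (⁅π (a : X), π (b : X)⁆ ^ k) ^ (2 ^ 1) = 1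
    rw [pow_one, ← zpow_natCast, ← zpow_mul, mul_comm, zpow_mul, zpow_natCast, h1, one_zpow]
  exact le_sylow_of_isPGroup Q _ h3 h4 (Subgroup.mem_zpowers _)

theorem main_even (hF : Even (Fintype.card F)) (h4 : 4 < Fintype.card F)
    (hVc : ∀ x ∈ V, ∀ y ∈ V, x * y = y * x) (hπ : Function.Surjective π) (hker : π.ker = V)
    (Q : Sylow 2 (P2 F)) (hV2 : ∀ v ∈ V, v * v = 1) (l : V →* ℂˣ)
    (hfix : ∀ x : X, π x ∈ Q → x ∈ inertia V (lf l))
    (hJ : (inertia V (lf l)).map π ≠ ⊤) (x : ℕ) (hx : x.Prime) (hxq : x ∣ Fintype.card F - 1) :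
    Concl X (Fintype.card F) x := by
  classical
  have := charTwo hF
  have h1 : 1 < Fintype.card F := Fintype.one_lt_card
  have hVI : V ≤ inertia V (lf l) := le_inertia' V hVc l
  have hQJ : (Q : Subgroup (P2 F)) ≤ (inertia V (lf l)).map π := by
    intro b hb
    obtain ⟨x, rfl⟩ := hπ b
    exact ⟨x, hfix x hb, rfl⟩
  have hcQ : Nat.card (Q : Subgroup (P2 F)) = Fintype.card F := card_sylow hF h4 Q
  have hcard : Fintype.card F ≤ 2 * Nat.card ((inertia V (lf l)).map π ⊓ (Q : Subgroup (P2 F)) : Subgroup (P2 F)) := by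
    rw [inf_eq_right.2 hQJ, hcQ]
    omega
  have hle := le_normalizer_of_large' hF h4 Q _ hJ hcard
  have hidx : Fintype.card F + 1 ∣ ((inertia V (lf l)).map π).index := by
    rw [← H436.TT.index_normalizer 2 Q]
    exact Subgroup.index_dvd_of_le hle
  obtain ⟨k, hk⟩ := hidx
  obtain ⟨m, hm⟩ : Fintype.card F ∣ Nat.card ((inertia V (lf l)).map π) := by
    rw [← hcQ]; exact Subgroup.card_dvd_of_le hQJ
  have hmul := Subgroup.card_mul_index ((inertia V (lf l)).map π)
  rw [hk, hm, Classification.PSLTwoEvenSylow.card_psl, fac _ h1] at hmul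
  have hmk : m * k = Fintype.card F - 1 := by
    have h2 : Fintype.card F * (Fintype.card F + 1) * (m * k) =
        Fintype.card F * (Fintype.card F + 1) * (Fintype.card F - 1) := by
      calc Fintype.card F * (Fintype.card F + 1) * (m * k) = Fintype.card F * m * ((Fintype.card F + 1) * k) := by ring
        _ = Fintype.card F * ((Fintype.card F - 1) * (Fintype.card F + 1)) := hmul
        _ = _ := by ring
    exact Nat.eq_of_mul_eq_mul_left (by positivity) h2
  by_cases hxk : x ∣ k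
  · left
    obtain ⟨d, hd, hdd⟩ := exists_degree_one V l
    rw [← index_map V π hVc hπ hker l, hk] at hdd
    exact ⟨d, hd, (Nat.mul_dvd_mul_left _ hxk).trans hdd⟩
  have hxm : x ∣ m := by
    rw [← hmk] at hxq
    exact (hx.dvd_mul.1 hxq).resolve_right hxk
  have hxJ : x ∣ Nat.card ((inertia V (lf l)).map π) := by
    rw [hm]; exact hxm.mul_left _
  have hxodd : ¬ 2 ∣ x := by
    intro h2
    have h3 : 2 ∣ Fintype.card F := hF.two_dvd
    have h5 := h2.trans hxq
    omega
  -- an element of order `x`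
  have := Fact.mk hx
  obtain ⟨⟨c0, ⟨c, hc, rfl⟩⟩, hco⟩ := exists_prime_orderOf_dvd_card' x hxJ
  have hco' : orderOf (π c) = x := by
    rw [← hco]
    exact Subgroup.orderOf_coe (⟨π c, _⟩ : ((inertia V (lf l)).map π : Subgroup (P2 F))) |>.symm ▸ rfl
  have hcx : π c ^ x = 1 := by rw [← hco']; exact pow_orderOf_eq_one _
  let cI : inertia V (lf l) := ⟨c, hc⟩
  have hPn : (PP V π Q l).Normal := by
    constructor
    rintro ⟨y, hyI⟩ hy ⟨g, hg⟩
    have h5 : π y ∈ (Q : Subgroup (P2 F)) := hy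
    show π (g * y * g⁻¹) ∈ (Q : Subgroup (P2 F))
    rw [map_mul, map_mul, map_inv]
    exact (Subgroup.mem_normalizer_iff.1 (hle ⟨g, hg, rfl⟩) _).1 h5
  by_cases hext : ∃ φ : PP V π Q l →* ℂˣ, ∀ v : V, φ (embV V π hVc hker Q l v) = l v
  · left
    obtain ⟨φ, hφ⟩ := hext
    let ρ : PP V π Q l →* (Q : Subgroup (P2 F)) :=
      (π.comp ((inertia V (lf l)).subtype.comp (PP V π Q l).subtype)).codRestrict _ (fun x => x.2)
    have hρ : ∀ x : PP V π Q l, (ρ x : P2 F) = π (x : X) := fun _ => rfl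
    have hdeg : ∀ ν : (Q : Subgroup (P2 F)) →* ℂˣ, ∃ d ∈ charDegrees X,
        (inertia V (lf l)).index * (H672.inertia (PP V π Q l) (lf (φ * ν.comp ρ))).index ∣ d := by
      intro ν
      refine exists_degree V (inertia V (lf l)) l rfl (PP V π Q l) hVI
        (fun v => (embV V π hVc hker Q l v).2) (φ * ν.comp ρ) ?_
      intro v
      have h5 : ρ (embV V π hVc hker Q l v) = 1 := by
        apply Subtype.ext
        rw [hρ]
        have : (v : X) ∈ π.ker := by rw [hker]; exact v.2
        exact this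
      show φ (embV V π hVc hker Q l v) * ν (ρ (embV V π hVc hker Q l v)) = l v
      rw [h5, map_one, mul_one, hφ]
    by_contra hcon
    -- `c` fixes every extension
    have hcfix : ∀ ν : (Q : Subgroup (P2 F)) →* ℂˣ, cI ∈ H672.inertia (PP V π Q l) (lf (φ * ν.comp ρ)) := by
      intro ν
      have hxS : ¬ x ∣ (H672.inertia (PP V π Q l) (lf (φ * ν.comp ρ))).index := by
        intro h5
        obtain ⟨d, hd, hdd⟩ := hdeg ν
        rw [← index_map V π hVc hπ hker l, hk] at hdd
        exact hcon ⟨d, hd, (Nat.mul_dvd_mul (Dvd.intro k rfl) h5).trans hdd⟩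
      have hPle : PP V π Q l ≤ H672.inertia (PP V π Q l) (lf (φ * ν.comp ρ)) :=
        le_inertia (isCharacter_isClassFunction (isCharacter_lf _))
      have hSn : (H672.inertia (PP V π Q l) (lf (φ * ν.comp ρ))).Normal := by
        constructor
        intro s hs a
        have h5 := hPle (comm_mem_PP V π hF Q l hle a s)
        have h6 := mul_mem h5 hs
        have h7 : ⁅a, s⁆ * s = a * s * a⁻¹ := by
          rw [commutatorElement_def]; group
        rwa [h7] at h6
      have h5 : ((QuotientGroup.mk cI : inertia V (lf l) ⧸ H672.inertia (PP V π Q l) (lf (φ * ν.comp ρ)))) ^ x = 1 := by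
        rw [← QuotientGroup.mk_pow, QuotientGroup.eq_one_iff]
        apply hPle
        rw [mem_PP]
        show π (c ^ x) ∈ Q
        rw [map_pow, hcx]
        exact one_mem _
      have h6 := orderOf_dvd_of_pow_eq_one h5
      have h7 := orderOf_dvd_natCard (QuotientGroup.mk cI : inertia V (lf l) ⧸ H672.inertia (PP V π Q l) (lf (φ * ν.comp ρ)))
      have h8 : Nat.Coprime x (Nat.card (inertia V (lf l) ⧸ H672.inertia (PP V π Q l) (lf (φ * ν.comp ρ)))) := by
        rw [hx.coprime_iff_not_dvd]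
        exact hxS
      have h9 := Nat.eq_one_of_dvd_coprimes h8 h6 h7
      rw [orderOf_eq_one_iff, QuotientGroup.eq_one_iff] at h9
      exact h9
    have hcomQ : ∀ x y : (Q : Subgroup (P2 F)), x * y = y * x := fun x y => Subtype.ext (comm_of hF Q x.2 y.2)
    -- hence `c` centralises `Q`
    have hcen : ∀ y : X, π y ∈ Q → π c * π y * (π c)⁻¹ = π y := by
      intro y hy
      let yP : PP V π Q l := ⟨⟨y, hfix y hy⟩, hy⟩
      have h5 : ρ (MulAut.conjNormal cI yP) = ρ yP := by
        by_contra hne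
        have hne2 : (ρ (MulAut.conjNormal cI yP)) * (ρ yP)⁻¹ ≠ 1 := by
          intro h; exact hne (mul_inv_eq_one.1 h)
        obtain ⟨ν, hν⟩ := exists_lin hcomQ hne2
        apply hν
        have e1 := hcfix ν
        have e2 := hcfix 1
        rw [mem_inertia_lf] at e1 e2
        have e3 := e1 yP
        have e4 := e2 yP
        simp only [MonoidHom.mul_apply, MonoidHom.comp_apply, MonoidHom.one_apply, mul_one] at e3 e4
        rw [e4] at e3
        have e5 := mul_left_cancel e3
        rw [map_mul, map_inv, e5, mul_inv_cancel]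
      have h6 := congrArg Subtype.val h5
      rw [hρ, hρ] at h6
      have h7 : π (c * y * c⁻¹) = π y := h6
      rw [map_mul, map_mul, map_inv] at h7
      exact h7
    -- contradiction
    have hQ1 : (Q : Subgroup (P2 F)) ≠ ⊥ := by
      intro h
      rw [h] at hcQ
      simp at hcQ
      omega
    obtain ⟨a, haQ, ha1⟩ := (Subgroup.bot_or_exists_ne_one _).resolve_left hQ1
    obtain ⟨y, rfl⟩ := hπ a
    have h5 := hcen y haQ
    have h6 := WeakTI.PslTwo.cent (MulEquiv.refl (P2 F)) (sq_one hF Q haQ) ha1 (mul_inv_eq_iff_eq_mul.1 h5).symm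
    have h7 : π c ^ 2 = 1 := by rw [pow_two]; exact h6
    have h8 := orderOf_dvd_of_pow_eq_one h7
    rw [hco'] at h8
    have h9 : x = 2 := (Nat.prime_dvd_prime_iff_eq hx Nat.prime_two).1 h8
    exact hxodd (h9 ▸ dvd_rfl)
  · right
    have hk1 : k ≠ 1 := by
      intro hk1
      apply hext
      rw [hk1, mul_one] at hmk
      refine exists_extension V π hF h4 hVc hπ hker Q hV2 l hfix ?_
      intro a b ha ha1 hb hb1
      exact trans_of_dvd hF h4 Q _ hle (by rw [hm, hmk]; exact Dvd.intro_left _ rfl) ha ha1 hb hb1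
    obtain ⟨r, hr, hrk⟩ := Nat.exists_prime_and_dvd hk1
    refine ⟨r, hr, ?_, ?_⟩
    · rw [← hmk]; exact hrk.mul_left _
    -- a character of even degree
    let f := embV V π hVc hker Q l
    obtain ⟨χ, hχ, hχo⟩ := exists_over V (lf l) (isIrr_lf l)
    let g : PP V π Q l →* X := (inertia V (lf l)).subtype.comp (PP V π Q l).subtype
    have hgf : V.subtype = g.comp f := rfl
    rw [hgf, over_comp_iff g f (isIrr_isCharacter hχ) (isIrr_lf l)] at hχo
    obtain ⟨ξ, hξ, hξo, hξl⟩ := hχo
    rw [over_comp_iff (inertia V (lf l)).subtype (PP V π Q l).subtype (isIrr_isCharacter hχ) hξ] at hξo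
    obtain ⟨ψ, hψ, -, hψξ⟩ := hξo
    have hdvd := (charDegree_dvd_of_over (PP V π Q l) hψ hξ hψξ).1
    have hψl : Over (Subgroup.inclusion hVI) ψ (lf l) := by
      have h5 : Subgroup.inclusion hVI = (PP V π Q l).subtype.comp f := rfl
      rw [h5, over_comp_iff _ _ (isIrr_isCharacter hψ) (isIrr_lf l)]
      exact ⟨ξ, hξ, hψξ, hξl⟩
    have hmem := degree_of_over V l hVI hψ hψl
    refine ⟨_, hmem, ?_⟩
    have heven : 2 ∣ charDegree ξ := by
      -- the degree is a power of two
      have hP2 : IsPGroup 2 (PP V π Q l) := by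
        intro z
        refine ⟨2, ?_⟩
        have h5 := hV2 _ (sq_mem V π hF hker Q z.2)
        apply Subtype.ext
        apply Subtype.ext
        show (((z : inertia V (lf l)) : X)) ^ (2 ^ 2) = 1
        rw [show (((z : inertia V (lf l)) : X)) ^ (2 ^ 2) = ((z : inertia V (lf l)) : X) * ((z : inertia V (lf l)) : X) *
          (((z : inertia V (lf l)) : X) * ((z : inertia V (lf l)) : X)) by simp [pow_succ, mul_assoc]]
        exact h5
      obtain ⟨n, hn⟩ := IsPGroup.iff_card.1 hP2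
      have hdc : charDegree ξ ∣ Nat.card (PP V π Q l) := by
        obtain ⟨n', ρ', hρ', h'⟩ := hξ
        have e1 : charDegree ξ = Module.finrank ℂ (Fin n' → ℂ) := by
          apply charDegree_of_eq
          rw [← h', Representation.char_one]
        rw [e1]
        have := hρ'
        exact Characters.DegreeBounds.finrank_dvd_card ρ'
      rw [hn, Nat.dvd_prime_pow Nat.prime_two] at hdc
      obtain ⟨b, -, hb⟩ := hdc
      rcases Nat.eq_zero_or_pos b with h0 | h0
      · exfalso
        rw [h0, pow_zero] at hb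
        obtain ⟨φ, hφ⟩ := exists_hom_of_degree_one hξ hb
        apply hext
        refine ⟨φ, fun v => ?_⟩
        have h6 := eq_of_over_of_charDegree_eq hξ (isIrr_lf l) hξl (by rw [hb, charDegree_lf])
        have h7 := congrFun h6 v
        rw [hφ] at h7
        exact Units.ext h7
      · rw [hb]; exact dvd_pow_self 2 h0.ne'
    rw [← index_map V π hVc hπ hker l, hk]
    have h5 : 2 * (Fintype.card F + 1) * r = (Fintype.card F + 1) * r * 2 := by ring
    rw [h5]
    exact Nat.mul_dvd_mul (Nat.mul_dvd_mul_left _ hrk) (heven.trans hdvd)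

end main

/-- **CROSS, strong form.** -/
theorem crossE {X : Type u} [Group X] [Finite X] (V : Subgroup X) [V.Normal]
    (hVc : ∀ x ∈ V, ∀ y ∈ V, x * y = y * x)
    (hmin : ∀ N : Subgroup X, N.Normal → N ≤ V → N = ⊥ ∨ N = V)
    (hVz : ¬ V ≤ Subgroup.center X) (F : Type) [Field F] [Fintype F]
    (hF : Even (Fintype.card F)) (h4 : 4 < Fintype.card F)
    (e : X ⧸ V ≃* Matrix.ProjectiveSpecialLinearGroup (Fin 2) F) :
    ∀ x : ℕ, x.Prime → x ∣ Fintype.card F - 1 →
      (∃ d ∈ Cfsg.charDegrees X, (Fintype.card F + 1) * x ∣ d) ∨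
      (∃ r : ℕ, r.Prime ∧ r ∣ Fintype.card F - 1 ∧ ∃ d ∈ Cfsg.charDegrees X, 2 * (Fintype.card F + 1) * r ∣ d) := by
  classical
  intro x₀ hx₀ hxq
  let π : X →* P2 F := e.toMonoidHom.comp (QuotientGroup.mk' V)
  have hπ : Function.Surjective π := e.surjective.comp (QuotientGroup.mk'_surjective V)
  have hker : π.ker = V := by
    ext x
    rw [MonoidHom.mem_ker]
    show e (QuotientGroup.mk x) = 1 ↔ x ∈ V
    rw [map_eq_one_iff e e.injective, QuotientGroup.eq_one_iff]
  have hVcom : ∀ v w : V, v * w = w * v := fun v w => Subtype.ext (hVc v v.2 w w.2)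
  have hVbot : V ≠ ⊥ := by
    rintro rfl
    exact hVz bot_le
  obtain ⟨p, hp, hpV⟩ := exists_exponent V hmin hVc hVbot
  have hcard := card_lin hVcom
  have hfin : Finite (V →* ℂˣ) := by
    apply Nat.finite_of_card_ne_zero
    rw [hcard]
    exact Nat.card_pos.ne'
  have Q : Sylow 2 (P2 F) := default
  -- a nontrivial linear character is not invariant
  have hninv : ∀ l : V →* ℂˣ, l ≠ 1 → (inertia V (lf l)).map π ≠ ⊤ := by
    intro l hl h
    have hall : ∀ x : X, x ∈ inertia V (lf l) := by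
      intro x
      rw [← mem_map_iff V π hVc hker l, h]
      trivial
    let K : Subgroup X := l.ker.map V.subtype
    have hK : K.Normal := by
      constructor
      rintro _ ⟨v, hv, rfl⟩ g
      refine ⟨MulAut.conjNormal g v, ?_, rfl⟩
      show l _ = 1
      rw [(mem_inertia_lf V).1 (hall g) v]
      exact hv
    rcases hmin K hK (Subgroup.map_subtype_le _) with h1 | h1
    · apply hVz
      intro v hv
      rw [Subgroup.mem_center_iff]
      intro g
      have h2 : (⟨v, hv⟩ : V)⁻¹ * MulAut.conjNormal g ⟨v, hv⟩ ∈ l.ker := by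
        rw [MonoidHom.mem_ker, map_mul, map_inv, (mem_inertia_lf V).1 (hall g), inv_mul_cancel]
      have h3 : V.subtype ((⟨v, hv⟩ : V)⁻¹ * MulAut.conjNormal g ⟨v, hv⟩) ∈ K := ⟨_, h2, rfl⟩
      rw [h1, Subgroup.mem_bot] at h3
      have h4 : v⁻¹ * (g * v * g⁻¹) = 1 := h3
      rw [inv_mul_eq_one] at h4
      exact (mul_inv_eq_iff_eq_mul.1 h4.symm)
    · apply hl
      ext v
      have h2 : (v : X) ∈ K := by rw [h1]; exact v.2
      obtain ⟨w, hw, hwv⟩ := h2
      have h3 : w = v := Subtype.ext hwv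
      rw [← h3]
      exact congrArg _ hw
  by_cases hp2 : p = 2
  · subst hp2
    let _ := act V
    have hV2 : ∀ v ∈ V, v * v = 1 := fun v hv => by rw [← pow_two]; exact hpV v hv
    let D : Subgroup X := (Q : Subgroup (P2 F)).comap π
    have hD : IsPGroup 2 D := by
      intro x
      refine ⟨2, ?_⟩
      apply Subtype.ext
      have h1 := hV2 _ (sq_mem V π hF hker Q x.2)
      show (x : X) ^ (2 ^ 2) = 1
      rw [show (x : X) ^ (2 ^ 2) = (x : X) * x * ((x : X) * x) by simp [pow_succ, mul_assoc]]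
      exact h1
    have hVp : IsPGroup 2 V := by
      intro v
      refine ⟨1, ?_⟩
      apply Subtype.ext
      show (v : X) ^ (2 ^ 1) = 1
      rw [pow_one]
      exact hpV v v.2
    have hdvd : 2 ∣ Nat.card (V →* ℂˣ) := by
      rw [hcard]
      obtain ⟨n, hn⟩ := IsPGroup.iff_card.1 hVp
      rw [hn]
      apply dvd_pow_self
      rintro rfl
      rw [pow_zero, Subgroup.card_eq_one] at hn
      exact hVbot hn
    obtain ⟨l, hl, hl1⟩ := hD.exists_fixed_point_of_prime_dvd_card_of_fixed_point (V →* ℂˣ) hdvd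
      (a := 1) (fun d => by
        show (d : X) • (1 : V →* ℂˣ) = 1
        exact (act V).smul_one (d : X))
    refine main_even V π hF h4 hVc hπ hker Q hV2 l ?_ (hninv l (Ne.symm hl1)) x₀ hx₀ hxq
    intro x hx
    exact (act_eq_iff V x l).1 (hl ⟨x, hx⟩)
  · have hodd : Odd (Nat.card (V →* ℂˣ)) := by
      rw [hcard]
      have hVp : IsPGroup p V := by
        intro v
        refine ⟨1, ?_⟩
        apply Subtype.ext
        show (v : X) ^ (p ^ 1) = 1
        rw [pow_one]
        exact hpV v v.2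
      have := Fact.mk hp
      obtain ⟨n, hn⟩ := IsPGroup.iff_card.1 hVp
      rw [hn]
      exact (hp.odd_of_ne_two hp2).pow
    have hex : ∃ x : X, π x ∈ Q ∧ ∃ l : V →* ℂˣ, x ∉ inertia V (lf l) := ?_
    · obtain ⟨l, hlQ, hlc⟩ := exists_half V π hF h4 hVc hπ hker Q hfin hodd hex
      have hJ : (inertia V (lf l)).map π ≠ ⊤ := by
        intro h
        rw [h] at hlQ
        exact hlQ le_top
      have hle := le_normalizer_of_large' hF h4 Q _ hJ hlc
      obtain ⟨-, h2⟩ := le_of_half hF h4 Q _ hle hlc hlQ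
      have hmul := Subgroup.card_mul_index ((inertia V (lf l)).map π)
      have := charTwo hF
      have h1 : 1 < Fintype.card F := Fintype.one_lt_card
      rw [Classification.PSLTwoEvenSylow.card_psl, fac _ h1] at hmul
      have hidx : ((inertia V (lf l)).map π).index = 2 * (Fintype.card F + 1) * (Fintype.card F - 1) := by
        have hpos : 0 < Nat.card ((inertia V (lf l)).map π) := Nat.card_pos
        apply Nat.eq_of_mul_eq_mul_left hpos
        rw [hmul]
        conv_lhs => rw [← h2]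
        have h3 : 0 < Fintype.card F - 1 := by omega
        rw [h2]
        nth_rewrite 1 [← h2]
        ring
      right
      refine ⟨x₀, hx₀, hxq, ?_⟩
      obtain ⟨d, hd, hdd⟩ := exists_degree_one V l
      rw [← index_map V π hVc hπ hker l, hidx] at hdd
      exact ⟨d, hd, (Nat.mul_dvd_mul_left _ hxq).trans hdd⟩
    -- faithfulness
    have hsimp : IsSimpleGroup (P2 F) := TwoFusion.SLTwoFacts.isSimpleGroup_psl (by omega)
    let C : Subgroup X := Subgroup.centralizer (V : Set X)
    have hCn : C.Normal := inferInstance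
    have hVC : V ≤ C := by
      intro v hv
      rw [Subgroup.mem_centralizer_iff]
      intro w hw
      exact hVc w hw v hv
    have hCV : C ≤ V := by
      rcases (hCn.map π hπ).eq_bot_or_eq_top with h | h
      · intro c hc
        rw [← hker, MonoidHom.mem_ker]
        have : π c ∈ C.map π := ⟨c, hc, rfl⟩
        rw [h] at this
        exact this
      · exfalso
        apply hVz
        intro v hv
        rw [Subgroup.mem_center_iff]
        intro g
        have h1 : π g ∈ C.map π := by rw [h]; trivial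
        obtain ⟨c, hc, hcg⟩ := h1
        have h2 : c⁻¹ * g ∈ V := by
          rw [← hker, MonoidHom.mem_ker, map_mul, map_inv, hcg, inv_mul_cancel]
        have h3 : g ∈ C := by
          have := mul_mem hc (hVC h2)
          simpa using this
        exact ((Subgroup.mem_centralizer_iff.1 h3) v hv).symm
    have hQ1 : (Q : Subgroup (P2 F)) ≠ ⊥ := by
      intro h
      have h1 : Nat.card (Q : Subgroup (P2 F)) = Fintype.card F := card_sylow hF h4 Q
      rw [h] at h1
      simp at h1
      omega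
    obtain ⟨a, haQ, ha1⟩ := (Subgroup.bot_or_exists_ne_one _).resolve_left hQ1
    obtain ⟨x, rfl⟩ := hπ a
    have hxV : x ∉ C := by
      intro h
      apply ha1
      have := hCV h
      rw [← hker] at this
      exact this
    rw [Subgroup.mem_centralizer_iff] at hxV
    push Not at hxV
    obtain ⟨v, hv, hvx⟩ := hxV
    have hne : (⟨v, hv⟩ : V)⁻¹ * MulAut.conjNormal x ⟨v, hv⟩ ≠ 1 := by
      intro h
      apply hvx
      rw [inv_mul_eq_one] at h
      have h1 : v = x * v * x⁻¹ := congrArg Subtype.val h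
      exact (mul_inv_eq_iff_eq_mul.1 h1.symm).symm
    obtain ⟨l, hl⟩ := exists_lin hVcom hne
    refine ⟨x, haQ, l, ?_⟩
    intro hx
    apply hl
    rw [map_mul, map_inv, (mem_inertia_lf V).1 hx, inv_mul_cancel]


end Cfsg.Agent.H191.Cross
end
end
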