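import Cfsg.Agent.H748.PalfyMain
import Cfsg.Agent.H273.PalfyKP
import Cfsg.Agent.Solvable.Carter
import Cfsg.Agent.FastGrp
import Cfsg.Agent.Prune
set_option linter.all false
prune_inst 0x7ffcfefbaffccddfffff7fbffefddffe30c6cfffffdfff4bfffdf5ffefdf23ab7fe7fb9f9df058ff9ff7e3beb0b87813f9ffca3fef6bdc7ffffd5ff45ffbee1fe5ffbfad71dfbcb41ffe6ffffbf37ffeffffffffffffffffffffffffffffffffffffffffffff
open scoped Cfsg.Agent.FastGrp

-- part: H988/DG/SolvA
section
/-!
# Two disjoint edges: the case of a minimal normal `t'`-subgroup (helper988)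
-/

set_option autoImplicit false
set_option linter.unusedSectionVars false

namespace Cfsg.Agent.H988.DG.Solv

open Cfsg Cfsg.Agent.Characters.Core Cfsg.Agent.OddOrderCharacters.IndRes
  Cfsg.Agent.OddOrderCharacters.NormalInduced Cfsg.Agent.OddOrderCharacters.PF9.CliffGen
  Cfsg.Agent.H681.DegBasic Cfsg.Agent.H748.Palfy
open Cfsg.Agent.H273.Palfy (UniqueSylow)

universe u v

/-- interface: the linear group lemma (task 1727) -/
def LemZ : Prop :=
  ∀ (H : Type u) [Group H] [Finite H] (V : Type v) [CommGroup V] [Finite V] [Nontrivial V]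
    [MulDistribMulAction H V] (a b ℓ r s : ℕ) [Fact a.Prime] [Fact b.Prime] [Fact ℓ.Prime],
    Group.IsSolvable H → a ≠ b → (∀ v : V, v ^ ℓ = 1) →
    (∀ W : Subgroup V, (∀ h : H, ∀ w ∈ W, h • w ∈ W) → W = ⊥ ∨ W = ⊤) →
    UniqueSylow a H V → UniqueSylow b H V →
    (∃ A : Sylow a H, ∃ h ∈ (A : Subgroup H), ∃ v : V, h • v ≠ v) →
    (∃ B : Sylow b H, ∃ h ∈ (B : Subgroup H), ∃ v : V, h • v ≠ v) →
    a ≠ r → a ≠ s → b ≠ r → b ≠ s →
    (∀ x : ℕ, x.Prime → x ∣ Nat.card (Sylow a H) → x = r ∨ x = s) →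
    (∀ x : ℕ, x.Prime → x ∣ Nat.card (Sylow b H) → x = r ∨ x = s) → False

/-- a solvable group all of whose degrees are `{t, s}`-numbers or `{a, b}`-numbers, all four primes occurring -/
structure YC (G : Type u) [Group G] (t s a b : ℕ) : Prop where
  solv : Group.IsSolvable G
  dt : ∃ d ∈ charDegrees G, t ∣ d
  ds : ∃ d ∈ charDegrees G, s ∣ d
  da : ∃ d ∈ charDegrees G, a ∣ d
  db : ∃ d ∈ charDegrees G, b ∣ d
  deg : ∀ d ∈ charDegrees G, (∀ x : ℕ, x.Prime → x ∣ d → x = t ∨ x = s) ∨ (∀ x : ℕ, x.Prime → x ∣ d → x = a ∨ x = b)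
  ts : t ≠ s
  ab : a ≠ b
  ta : t ≠ a
  tb : t ≠ b
  sa : s ≠ a
  sb : s ≠ b

namespace YC

variable {G : Type u} [Group G] {t s a b : ℕ}

theorem swap (c : YC G t s a b) : YC G s t a b :=
  ⟨c.solv, c.ds, c.dt, c.da, c.db, fun d hd => (c.deg d hd).imp (fun h x hx hxd => (h x hx hxd).symm) id,
    c.ts.symm, c.ab, c.sa, c.sb, c.ta, c.tb⟩

theorem swap' (c : YC G t s a b) : YC G t s b a :=
  ⟨c.solv, c.dt, c.ds, c.db, c.da, fun d hd => (c.deg d hd).imp id (fun h x hx hxd => (h x hx hxd).symm),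
    c.ts, c.ab.symm, c.tb, c.ta, c.sb, c.sa⟩

theorem rot (c : YC G t s a b) : YC G a b t s :=
  ⟨c.solv, c.da, c.db, c.dt, c.ds, fun d hd => (c.deg d hd).symm,
    c.ab, c.ts, c.ta.symm, c.sa.symm, c.tb.symm, c.sb.symm⟩

theorem of_t (c : YC G t s a b) (ht : t.Prime) {d : ℕ} (hd : d ∈ charDegrees G) (htd : t ∣ d) :
    ∀ x : ℕ, x.Prime → x ∣ d → x = t ∨ x = s := by
  rcases c.deg d hd with h | h
  · exact h
  · rcases h t ht htd with h1 | h1
    · exact absurd h1 c.ta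
    · exact absurd h1 c.tb

theorem not_a (c : YC G t s a b) (ht : t.Prime) (ha : a.Prime) : ∀ d ∈ charDegrees G, t ∣ d → ¬ a ∣ d := by
  intro d hd htd had
  rcases c.of_t ht hd htd a ha had with h | h
  · exact c.ta h.symm
  · exact c.sa h.symm

theorem not_b (c : YC G t s a b) (ht : t.Prime) (hb : b.Prime) : ∀ d ∈ charDegrees G, t ∣ d → ¬ b ∣ d :=
  c.swap'.not_a ht hb

end YC

section

variable {G : Type u} [Group G] [Finite G]

/-- the complement in the case of a minimal normal `t'`-subgroup; adapted from `Cfsg.Agent.H748.Palfy.caseA` -/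
theorem caseA_split {t : ℕ} [ht : Fact t.Prime] (hsolv : Group.IsSolvable G) (hdt : ∃ d ∈ charDegrees G, t ∣ d)
    (N : Subgroup G) [hNn : N.Normal]
    (hN : ∀ x ∈ N, ∀ y ∈ N, x * y = y * x) (hN1 : N ≠ ⊥) (hmin : ∀ K : Subgroup G, K.Normal → K ≤ N → K = ⊥ ∨ K = N)
    (htN : ¬ t ∣ Nat.card N)
    (hq : ∀ d ∈ charDegrees (G ⧸ N), ¬ t ∣ d) : ∃ H : Subgroup G, N ⊓ H = ⊥ ∧ N ⊔ H = ⊤ ∧
      ∀ l : ↥N →* ℂˣ, l ≠ 1 → t ∣ (stab N H (fun n => (l n : ℂ))).relIndex H := by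
  classical
  let P : Sylow t G := default
  have hQ := ito_michler (X := G ⧸ N) inferInstance hq (P.mapSurjective (QuotientGroup.mk'_surjective N))
  have hQn : ((P : Subgroup G).map (QuotientGroup.mk' N)).Normal := hQ.1
  have hPNn : ((P : Subgroup G) ⊔ N).Normal := by
    have := hQn.comap (QuotientGroup.mk' N)
    rwa [Subgroup.comap_map_eq, QuotientGroup.ker_mk'] at this
  have hPcN : ∀ x ∈ (P : Subgroup G), ∀ y ∈ (P : Subgroup G), x * y * x⁻¹ * y⁻¹ ∈ N := by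
    intro x hx y hy
    have h1 := hQ.2 (QuotientGroup.mk' N x) ⟨x, hx, rfl⟩ (QuotientGroup.mk' N y) ⟨y, hy, rfl⟩
    rw [← QuotientGroup.ker_mk' N, MonoidHom.mem_ker]
    rw [map_mul, map_mul, map_mul, map_inv, map_inv, h1]
    group
  have hPN : N ⊓ (P : Subgroup G) = ⊥ := by
    apply disjoint_iff.1
    apply Subgroup.disjoint_of_coprime_natCard
    obtain ⟨n, hn⟩ := IsPGroup.iff_card.1 P.isPGroup'
    have h3 : Nat.card (P : Subgroup G) = t ^ n := hn
    rw [h3]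
    exact ((Nat.Prime.coprime_iff_not_dvd ht.out).2 htN).symm.pow_right n
  have hPc : ∀ x ∈ (P : Subgroup G), ∀ y ∈ (P : Subgroup G), x * y = y * x := by
    intro x hx y hy
    have h1 : x * y * x⁻¹ * y⁻¹ ∈ N ⊓ (P : Subgroup G) :=
      Subgroup.mem_inf.2 ⟨hPcN x hx y hy, (P : Subgroup G).mul_mem ((P : Subgroup G).mul_mem
        ((P : Subgroup G).mul_mem hx hy) ((P : Subgroup G).inv_mem hx)) ((P : Subgroup G).inv_mem hy)⟩
    rw [hPN, Subgroup.mem_bot] at h1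
    have h2 : x * y = (x * y * x⁻¹ * y⁻¹) * (y * x) := by group
    rw [h2, h1, one_mul]
  set H : Subgroup G := Subgroup.normalizer ((P : Subgroup G) : Set G) with hH
  have hPH : (P : Subgroup G) ≤ H := Subgroup.le_normalizer
  have hNH' : N ⊔ H = ⊤ := by
    have h1 := Sylow.normalizer_sup_eq_top' (N := (P : Subgroup G) ⊔ N) P le_sup_left
    rw [← sup_assoc, sup_eq_left.2 (show (P : Subgroup G) ≤ Subgroup.normalizer (P : Set G) from hPH)] at h1
    rw [sup_comm]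
    exact h1
  -- the centralizer of `P` in `N`
  have hconjH : ∀ h ∈ H, ∀ x ∈ (P : Subgroup G), h * x * h⁻¹ ∈ (P : Subgroup G) := by
    intro h hh x hx
    exact (Subgroup.mem_normalizer_iff.1 hh x).1 hx
  have hcomP : ∀ h ∈ H, ∀ n ∈ N, h * n * h⁻¹ ∈ N := fun h _ n hn => hNn.conj_mem n hn h
  have hCn : (N ⊓ Subgroup.centralizer ((P : Subgroup G) : Set G)).Normal := by
    constructor
    rintro x ⟨hxN, hxC⟩ g
    have hg : g ∈ H ⊔ N := by rw [sup_comm, hNH']; trivial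
    obtain ⟨h, hh, n, hn, rfl⟩ := Subgroup.mem_sup_of_normal_right.1 hg
    have h1 : h * n * x * (h * n)⁻¹ = h * x * h⁻¹ := by
      have : n * x = x * n := hN n hn x hxN
      calc h * n * x * (h * n)⁻¹ = h * (n * x) * n⁻¹ * h⁻¹ := by group
        _ = h * x * h⁻¹ := by rw [this]; group
    rw [h1]
    refine Subgroup.mem_inf.2 ⟨hNn.conj_mem x hxN h, ?_⟩
    rw [Subgroup.mem_centralizer_iff]
    intro y hy
    have hy' : h⁻¹ * y * h ∈ (P : Subgroup G) := by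
      have := hconjH h⁻¹ (inv_mem hh) y hy
      rwa [inv_inv] at this
    have h2 := Subgroup.mem_centralizer_iff.1 hxC _ hy'
    calc y * (h * x * h⁻¹) = h * ((h⁻¹ * y * h) * x) * h⁻¹ := by group
      _ = h * (x * (h⁻¹ * y * h)) * h⁻¹ := by rw [h2]
      _ = h * x * h⁻¹ * y := by group
  have hCbot : N ⊓ Subgroup.centralizer ((P : Subgroup G) : Set G) = ⊥ := by
    rcases hmin _ hCn inf_le_left with h | h
    · exact h
    · exfalso
      have hNC : N ≤ Subgroup.centralizer ((P : Subgroup G) : Set G) := inf_eq_left.1 h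
      have hNleH : N ≤ H := hNC.trans (Subgroup.centralizer_le_normalizer _)
      have hHtop : H = ⊤ := by rw [← hNH', sup_eq_right.2 hNleH]
      have hPn : (P : Subgroup G).Normal := Subgroup.normalizer_eq_top_iff.1 hHtop
      exact false_of_sylow P hPn hPc hdt
  have hNH : N ⊓ H = ⊥ := by
    rw [eq_bot_iff, ← hCbot]
    rintro x ⟨hxN, hxH⟩
    refine Subgroup.mem_inf.2 ⟨hxN, ?_⟩
    rw [Subgroup.mem_centralizer_iff]
    intro y hy
    have h1 : x * y * x⁻¹ * y⁻¹ ∈ N ⊓ (P : Subgroup G) := by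
      refine Subgroup.mem_inf.2 ⟨?_, (P : Subgroup G).mul_mem (hconjH x hxH y hy) ((P : Subgroup G).inv_mem hy)⟩
      have : x * y * x⁻¹ * y⁻¹ = x * (y * x⁻¹ * y⁻¹) := by group
      rw [this]
      exact mul_mem hxN (hNn.conj_mem _ (inv_mem hxN) y)
    rw [hPN, Subgroup.mem_bot] at h1
    have h2 : x * y = (x * y * x⁻¹ * y⁻¹) * (y * x) := by group
    rw [h2, h1, one_mul]
  -- `[N, P] = N`
  have hcomm : ∀ l : ↥N →* ℂˣ, (∀ x ∈ (P : Subgroup G), ∀ n : N, l ⟨x * n * x⁻¹, hNn.conj_mem n n.2 x⟩ = l n) → l = 1 := by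
    intro l hl
    -- the kernel-like subgroup
    let K : Subgroup G := Subgroup.closure {y | ∃ x ∈ (P : Subgroup G), ∃ n ∈ N, y = x * n * x⁻¹ * n⁻¹}
    have hKN : K ≤ N := by
      rw [Subgroup.closure_le]
      rintro y ⟨x, hx, n, hn, rfl⟩
      exact mul_mem (hNn.conj_mem n hn x) (inv_mem hn)
    have hKn : K.Normal := by
      constructor
      intro y hy g
      have hg : g ∈ H ⊔ N := by rw [sup_comm, hNH']; trivial
      obtain ⟨h, hh, n, hn, rfl⟩ := Subgroup.mem_sup_of_normal_right.1 hg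
      have h1 : h * n * y * (h * n)⁻¹ = h * y * h⁻¹ := by
        have : n * y = y * n := hN n hn y (hKN hy)
        calc h * n * y * (h * n)⁻¹ = h * (n * y) * n⁻¹ * h⁻¹ := by group
          _ = h * y * h⁻¹ := by rw [this]; group
      rw [h1]
      have h2 : K ≤ K.comap (MulAut.conj h).toMonoidHom := by
        rw [Subgroup.closure_le]
        rintro z ⟨x, hx, m, hm, rfl⟩
        apply Subgroup.subset_closure
        refine ⟨h * x * h⁻¹, hconjH h hh x hx, h * m * h⁻¹, hNn.conj_mem m hm h, ?_⟩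
        change h * (x * m * x⁻¹ * m⁻¹) * h⁻¹ = _
        group
      exact h2 hy
    rcases hmin K hKn hKN with h | h
    · exfalso
      have hle : N ≤ N ⊓ Subgroup.centralizer ((P : Subgroup G) : Set G) := by
        intro n hn
        refine Subgroup.mem_inf.2 ⟨hn, ?_⟩
        rw [Subgroup.mem_centralizer_iff]
        intro x hx
        have h1 : x * n * x⁻¹ * n⁻¹ ∈ K := Subgroup.subset_closure ⟨x, hx, n, hn, rfl⟩
        rw [h, Subgroup.mem_bot] at h1
        have h2 : x * n = (x * n * x⁻¹ * n⁻¹) * (n * x) := by group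
        rw [h2, h1, one_mul]
      rw [hCbot] at hle
      exact hN1 (le_bot_iff.1 hle)
    · have h3 : K ≤ (l.ker).map N.subtype := by
        rw [Subgroup.closure_le]
        rintro y ⟨x, hx, n, hn, rfl⟩
        refine ⟨⟨x * n * x⁻¹, hNn.conj_mem n hn x⟩ * (⟨n, hn⟩ : N)⁻¹, ?_, rfl⟩
        rw [SetLike.mem_coe, MonoidHom.mem_ker, map_mul, hl x hx ⟨n, hn⟩, map_inv, mul_inv_cancel]
      rw [h] at h3
      ext n
      obtain ⟨m, hm, hmn⟩ := h3 n.2
      have : m = n := Subtype.ext hmn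
      rw [← this, (MonoidHom.mem_ker).1 hm]
      rfl
  -- `t` divides the index of the stabilisers
  have hidx : ∀ l : ↥N →* ℂˣ, l ≠ 1 → t ∣ (stab N H (fun n => (l n : ℂ))).relIndex H := by
    intro l hl
    by_contra hnd
    apply hl
    apply hcomm
    -- the stabiliser contains the normal Sylow subgroup
    have hPHn : ((P.subtype hPH : Sylow t H) : Subgroup H).Normal := by
      rw [Sylow.coe_subtype]
      exact Subgroup.normal_in_normalizer
    have := Sylow.unique_of_normal _ hPHn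
    have hfi : ¬ t ∣ ((stab N H (fun n => (l n : ℂ))).subgroupOf H).index := hnd
    obtain ⟨R, hR⟩ : ∃ R : Sylow t H, (R : Subgroup H) ≤ (stab N H (fun n => (l n : ℂ))).subgroupOf H := by
      let R0 : Sylow t ↥((stab N H (fun n => (l n : ℂ))).subgroupOf H) := default
      have hcard : Nat.card ((R0 : Subgroup _).map ((stab N H (fun n => (l n : ℂ))).subgroupOf H).subtype) =
          t ^ (Nat.card H).factorization t := by
        rw [Subgroup.card_map_of_injective (Subgroup.subtype_injective _), R0.card_eq_multiplicity]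
        have h1 : (Nat.card H).factorization t = (Nat.card ((stab N H (fun n => (l n : ℂ))).subgroupOf H)).factorization t := by
          rw [← ((stab N H (fun n => (l n : ℂ))).subgroupOf H).card_mul_index,
            Nat.factorization_mul Nat.card_pos.ne' (Subgroup.index_ne_zero_of_finite), Finsupp.add_apply,
            Nat.factorization_eq_zero_of_not_dvd hfi, add_zero]
        rw [h1]
      refine ⟨Sylow.ofCard _ hcard, ?_⟩
      rw [Sylow.coe_ofCard]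
      exact Subgroup.map_subtype_le _
    have hRP : R = P.subtype hPH := Subsingleton.elim _ _
    intro x hx n
    have h1 : (⟨x, hPH hx⟩ : H) ∈ (R : Subgroup H) := by
      rw [hRP, Sylow.coe_subtype, Subgroup.mem_subgroupOf]
      exact hx
    have h2 := (mem_stab.1 (Subgroup.mem_subgroupOf.1 (hR h1))).2 n
    exact Units.ext h2
  exact ⟨H, hNH, hNH', hidx⟩

/-- the number of Sylow subgroups divides the index of a subgroup which contains exactly one -/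
theorem sylow_dvd_relIndex {S H : Subgroup G} {p : ℕ} [Fact p.Prime] (A : Sylow p ↥H)
    (hA : ∀ x ∈ (A : Subgroup H), (x : G) ∈ S)
    (huniq : ∀ B : Sylow p ↥H, (∀ x ∈ (B : Subgroup H), (x : G) ∈ S) → B = A) :
    Nat.card (Sylow p ↥H) ∣ S.relIndex H := by
  have h1 : S.subgroupOf H ≤ Subgroup.normalizer ((A : Subgroup H) : Set H) := by
    intro g hg
    rw [Subgroup.mem_subgroupOf] at hg
    apply Sylow.smul_eq_iff_mem_normalizer.1
    apply huniq
    intro x hx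
    rw [Sylow.coe_subgroup_smul, Subgroup.mem_pointwise_smul_iff_inv_smul_mem, ← map_inv, MulAut.smul_def,
      MulAut.conj_apply, inv_inv] at hx
    have h2 := hA _ hx
    have h3 : (x : G) = g * ((g⁻¹ * x * g : H) : G) * (g : G)⁻¹ := by
      change (x : G) = g * ((g : G)⁻¹ * x * g) * (g : G)⁻¹
      group
    rw [h3]
    exact S.mul_mem (S.mul_mem hg h2) (S.inv_mem hg)
  have h2 := Subgroup.index_dvd_of_le h1
  rw [Sylow.card_eq_index_normalizer A]
  exact h2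

theorem sylow_dvd_of_unique {N H : Subgroup G} [hNn : N.Normal] {p : ℕ} [Fact p.Prime]
    (hu : letI := linAct N H
      UniqueSylow p ↥H (↥N →* ℂˣ)) {l : ↥N →* ℂˣ} (hl : l ≠ 1) :
    Nat.card (Sylow p ↥H) ∣ (stab N H (fun n => (l n : ℂ))).relIndex H := by
  let _ := linAct N H
  obtain ⟨A, -, h1, h2⟩ := hu l hl
  exact sylow_dvd_relIndex A (fun x hx => (smul_eq_iff N H x l).1 (h1 x hx))
    (fun B hB => h2 B fun x hx => (smul_eq_iff N H x l).2 (hB x hx))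

theorem exists_lin_ne_one {N : Subgroup G} (hN : ∀ x ∈ N, ∀ y ∈ N, x * y = y * x) (hN1 : N ≠ ⊥) :
    ∃ l : ↥N →* ℂˣ, l ≠ 1 := by
  by_contra hcon
  push Not at hcon
  apply hN1
  rw [eq_bot_iff]
  intro n hn
  have := eq_one_of_lin hN ⟨n, hn⟩ (fun l => by rw [hcon l]; rfl)
  exact congrArg Subtype.val this

/-- the case of a minimal normal subgroup of order prime to `t` -/
theorem caseA (hZ : LemZ.{u, u}) {t s a b : ℕ} [ht : Fact t.Prime] [ha : Fact a.Prime] [hb : Fact b.Prime]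
    (c : YC G t s a b) (N : Subgroup G) [hNn : N.Normal]
    (hN : ∀ x ∈ N, ∀ y ∈ N, x * y = y * x) (hN1 : N ≠ ⊥) (hmin : ∀ K : Subgroup G, K.Normal → K ≤ N → K = ⊥ ∨ K = N)
    {ℓ : ℕ} [hℓ : Fact ℓ.Prime] (hNℓ : ∀ x ∈ N, x ^ ℓ = 1) (htN : ¬ t ∣ Nat.card N)
    (hq : ∀ d ∈ charDegrees (G ⧸ N), ¬ t ∣ d) : False := by
  classical
  have hsolv := c.solv
  obtain ⟨H, hNH, hNH', hidx⟩ := caseA_split hsolv c.dt N hN hN1 hmin htN hq
  have huA : ∀ (p : ℕ), (∀ d ∈ charDegrees G, t ∣ d → ¬ p ∣ d) → ∀ l : ↥N →* ℂˣ, l ≠ 1 →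
      ∀ b ∈ charDegrees ↥(stab N H (fun n => (l n : ℂ))), ¬ p ∣ (stab N H (fun n => (l n : ℂ))).relIndex H * b := by
    intro p hp l hl b hb
    exact hp _ (degree_linear hNH hNH' l hb) (dvd_mul_of_dvd_left (hidx l hl) _)
  have uA := uniqueSylow_of hsolv N H (p := a) (huA a (c.not_a ht.out ha.out))
  have uB := uniqueSylow_of hsolv N H (p := b) (huA b (c.not_b ht.out hb.out))
  have nA : letI := linAct N H
      ∃ A : Sylow a H, ∃ h ∈ (A : Subgroup H), ∃ v : ↥N →* ℂˣ, h • v ≠ v := by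
    by_contra hcon
    have h1 := normal_of_trivial hN hN1 uA hcon default
    exact false_of_central hN hNH hNH' default h1.1 h1.2.1 h1.2.2 c.da
  have nB : letI := linAct N H
      ∃ A : Sylow b H, ∃ h ∈ (A : Subgroup H), ∃ v : ↥N →* ℂˣ, h • v ≠ v := by
    by_contra hcon
    have h1 := normal_of_trivial hN hN1 uB hcon default
    exact false_of_central hN hNH hNH' default h1.1 h1.2.1 h1.2.2 c.db
  have hfin : Finite (↥N →* ℂˣ) := Nat.finite_of_card_ne_zero (by rw [card_lin hN]; exact Nat.card_pos.ne')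
  have hnt : Nontrivial (↥N →* ℂˣ) := by
    rw [← Finite.one_lt_card_iff_nontrivial, card_lin hN]
    exact (Subgroup.one_lt_card_iff_ne_bot N).2 hN1
  obtain ⟨l, hl⟩ := exists_lin_ne_one hN hN1
  have hprim : ∀ k : ℕ, k ∣ (stab N H (fun n => (l n : ℂ))).relIndex H → ∀ x : ℕ, x.Prime → x ∣ k → x = t ∨ x = s := by
    intro k hk x hx hxk
    have h1 := degree_linear hNH hNH' l (one_mem (G := ↥(stab N H (fun n => (l n : ℂ)))))
    rw [mul_one] at h1
    exact c.of_t ht.out h1 (hidx l hl) x hx (hxk.trans hk)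
  have pA := hprim _ (sylow_dvd_of_unique uA hl)
  have pB := hprim _ (sylow_dvd_of_unique uB hl)
  let _ := linAct N H
  exact hZ ↥H (↥N →* ℂˣ) a b ℓ t s inferInstance c.ab (fun v => by
      ext n
      have h1 : n ^ ℓ = 1 := Subtype.ext (hNℓ n n.2)
      rw [MonoidHom.pow_apply, ← map_pow, h1, map_one]
      rfl) (lin_irr (Or.inl hNH') hN hmin) uA uB nA nB c.ta.symm c.sa.symm c.tb.symm c.sb.symm pA pB

end

end Cfsg.Agent.H988.DG.Solv
end

-- part: H988/DG/SolvB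
section
/-!
# Two disjoint edges: a minimal normal `t`-subgroup, tools adapted from `Cfsg.Agent.H748.PalfyC/PalfyD` (helper988)
-/

set_option autoImplicit false
set_option linter.unusedSectionVars false

namespace Cfsg.Agent.H988.DG.Solv

open Cfsg Cfsg.Agent.Characters.Core Cfsg.Agent.OddOrderCharacters.IndRes
  Cfsg.Agent.OddOrderCharacters.NormalInduced Cfsg.Agent.OddOrderCharacters.PF9.CliffGen
  Cfsg.Agent.H681.DegBasic Cfsg.Agent.H748.Palfy
open scoped commutatorElement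

universe u

section

variable {G : Type u} [Group G] [Finite G]

/-- the situation in case B -/
structure BX (t : ℕ) (P N H : Subgroup G) [P.Normal] [N.Normal] : Prop where
  solv : Group.IsSolvable G
  hP : IsPGroup t P
  hPH : P ⊓ H = ⊥
  hPH' : P ⊔ H = ⊤
  hcop : (Nat.card P).Coprime (Nat.card H)
  hNP : N ≤ P
  hPcN : ∀ x ∈ P, ∀ y ∈ P, x * y * x⁻¹ * y⁻¹ ∈ N
  hNz : ∀ x ∈ P, ∀ n ∈ N, x * n = n * x
  hN1 : N ≠ ⊥
  hmin : ∀ K : Subgroup G, K.Normal → K ≤ N → K = ⊥ ∨ K = N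
  hNt : ∀ x ∈ N, x ^ t = 1
  hna : ∃ x ∈ P, ∃ y ∈ P, x * y ≠ y * x

variable {t : ℕ} {P N H : Subgroup G} [hPn : P.Normal] [hNn : N.Normal]

theorem BX.hN (B : BX t P N H) : ∀ x ∈ N, ∀ y ∈ N, x * y = y * x :=
  fun x hx y hy => B.hNz x (B.hNP hx) y hy

/-- the commutators generate `N`. -/
theorem BX.lin_eq_one (B : BX t P N H) (l : ↥N →* ℂˣ)
    (hl : ∀ x (hx : x ∈ P) y (hy : y ∈ P), l ⟨x * y * x⁻¹ * y⁻¹, B.hPcN x hx y hy⟩ = 1) : l = 1 := by
  let K : Subgroup G := Subgroup.closure {z | ∃ x ∈ P, ∃ y ∈ P, z = x * y * x⁻¹ * y⁻¹}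
  have hKN : K ≤ N := by
    rw [Subgroup.closure_le]
    rintro z ⟨x, hx, y, hy, rfl⟩
    exact B.hPcN x hx y hy
  have hKn : K.Normal := by
    constructor
    intro z hz g
    have h2 : K ≤ K.comap (MulAut.conj g).toMonoidHom := by
      rw [Subgroup.closure_le]
      rintro z ⟨x, hx, m, hm, rfl⟩
      apply Subgroup.subset_closure
      refine ⟨g * x * g⁻¹, hPn.conj_mem x hx g, g * m * g⁻¹, hPn.conj_mem m hm g, ?_⟩
      change g * (x * m * x⁻¹ * m⁻¹) * g⁻¹ = _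
      group
    exact h2 hz
  rcases B.hmin K hKn hKN with h | h
  · exfalso
    obtain ⟨x, hx, y, hy, hxy⟩ := B.hna
    apply hxy
    have h1 : x * y * x⁻¹ * y⁻¹ ∈ K := Subgroup.subset_closure ⟨x, hx, y, hy, rfl⟩
    rw [h, Subgroup.mem_bot] at h1
    have h2 : x * y = (x * y * x⁻¹ * y⁻¹) * (y * x) := by group
    rw [h2, h1, one_mul]
  · have h3 : K ≤ (l.ker).map N.subtype := by
      rw [Subgroup.closure_le]
      rintro z ⟨x, hx, y, hy, rfl⟩
      exact ⟨⟨x * y * x⁻¹ * y⁻¹, B.hPcN x hx y hy⟩, (MonoidHom.mem_ker).2 (hl x hx y hy), rfl⟩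
    rw [h] at h3
    ext n
    obtain ⟨m, hm, hmn⟩ := h3 n.2
    have : m = n := Subtype.ext hmn
    rw [← this, (MonoidHom.mem_ker).1 hm]
    rfl

/-- characters over a nonprincipal character of `N` have degree divisible by `t` -/
theorem BX.dvd_degree [ht : Fact t.Prime] (B : BX t P N H) {l : ↥N →* ℂˣ} (hl : l ≠ 1) {θ : P → ℂ}
    (hθ : IsIrrCharacter P θ) (hθl : ∀ n : N, θ ⟨n, B.hNP n.2⟩ = θ 1 * l n) : t ∣ charDegree θ := by
  rcases H670.PSing.charDegree_pgroup B.hP hθ with h | h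
  · exfalso
    obtain ⟨f, hf⟩ : ∃ f : P →* ℂˣ, θ = fun x => (f x : ℂ) := by
      apply Characters.Linear.exists_hom_of_isIrrCharacter hθ
      rw [Cfsg.Agent.Blocks.Basic.irr_one_eq_charDegree hθ, h, Nat.cast_one]
    apply hl
    apply B.lin_eq_one
    intro x hx y hy
    have h1 := hθl ⟨x * y * x⁻¹ * y⁻¹, B.hPcN x hx y hy⟩
    rw [hf] at h1
    have h2 : f (⟨x * y * x⁻¹ * y⁻¹, B.hNP (B.hPcN x hx y hy)⟩ : P) = 1 := by
      have : (⟨x * y * x⁻¹ * y⁻¹, B.hNP (B.hPcN x hx y hy)⟩ : P) = ⟨x, hx⟩ * ⟨y, hy⟩ * (⟨x, hx⟩ : P)⁻¹ * (⟨y, hy⟩ : P)⁻¹ := rfl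
      rw [this, map_mul, map_mul, map_mul, map_inv, map_inv, mul_comm (f ⟨x, hx⟩)]
      group
    simp only [h2, map_one, Units.val_one, one_mul] at h1
    exact Units.ext h1.symm
  · exact h

/-- over every linear character of `N` there is an irreducible character of `P` with the same stabiliser in `H` -/
theorem BX.exists_theta [ht : Fact t.Prime] (B : BX t P N H) (l : ↥N →* ℂˣ) :
    ∃ θ : P → ℂ, IsIrrCharacter P θ ∧ (∀ n : N, θ ⟨n, B.hNP n.2⟩ = θ 1 * l n) ∧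
      stab P H θ = stab N H (fun n => (l n : ℂ)) := by
  classical
  have := Fintype.ofFinite G
  have := Fintype.ofFinite P
  have := Fintype.ofFinite N
  have hsolv := B.solv
  have hcop' : (N.relIndex P).Coprime (Nat.card ↥(stab N H (fun n => (l n : ℂ)))) := by
    have h1 : N.relIndex P ∣ Nat.card P := Subgroup.index_dvd_card (N.subgroupOf P)
    have h2 : Nat.card ↥(stab N H (fun n => (l n : ℂ))) ∣ Nat.card H := Subgroup.card_dvd_of_le (stab_le _ _ _)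
    exact (B.hcop.coprime_dvd_left h1).coprime_dvd_right h2
  have hN' : (N.subgroupOf P).Normal := hNn.subgroupOf P
  obtain ⟨χ, h1, h2⟩ := S4448.result P (stab N H (fun n => (l n : ℂ))) N
    (fun s _ g hg => hPn.conj_mem g hg s) B.hNP (fun s _ n hn => hNn.conj_mem n hn s) hcop'
    inferInstance ⟨fun n => (l n : ℂ), Characters.Linear.isIrrCharacter_hom l⟩ (by
      intro s hs g g' hg
      have h3 := (mem_stab.1 hs).2 g
      change ((l g' : ℂˣ) : ℂ) = ((l g : ℂˣ) : ℂ)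
      rw [← h3]
      congr 2
      exact Subtype.ext hg)
  have hover : ∀ n : N, (χ : P → ℂ) ⟨n, B.hNP n.2⟩ = (χ : P → ℂ) 1 * l n := by
    refine resTo_linear (T := P) (lam := l) ?_ B.hNP χ.2 h1
    intro g hg
    funext n
    rw [conjFn_apply]
    congr 2
    apply Subtype.ext
    change g * n * g⁻¹ = n
    rw [B.hNz g hg n n.2, mul_inv_cancel_right]
  refine ⟨χ, χ.2, hover, le_antisymm ?_ ?_⟩
  · intro g hg
    obtain ⟨hg1, hg2⟩ := mem_stab.1 hg
    refine mem_stab.2 ⟨hg1, fun n => ?_⟩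
    have h3 := hg2 ⟨n, B.hNP n.2⟩
    have h4 := hover ⟨g * n * g⁻¹, hNn.conj_mem n n.2 g⟩
    have h5 : (χ : P → ℂ) 1 * l ⟨g * n * g⁻¹, hNn.conj_mem n n.2 g⟩ = (χ : P → ℂ) 1 * l n := by
      rw [← h4, ← hover]
      exact h3
    exact mul_left_cancel₀ (isIrr_apply_one_ne_zero χ.2) h5
  · intro g hg
    refine mem_stab.2 ⟨stab_le _ _ _ hg, fun x => ?_⟩
    exact h2 g hg x _ rfl

/-- degrees over `θ` -/
theorem BX.mem_degrees [Fact t.Prime] (B : BX t P N H) {θ : P → ℂ} (hθ : IsIrrCharacter P θ) {d' : ℕ}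
    (hd' : d' ∈ charDegrees (stab P H θ)) : (stab P H θ).relIndex H * (d' * charDegree θ) ∈ charDegrees G :=
  degree_coprime B.hPH B.hPH' B.hcop hθ (Cfsg.Agent.Blocks.Basic.irr_one_eq_charDegree hθ) hd'

theorem BX.not_dvd [ht : Fact t.Prime] (B : BX t P N H) {p : ℕ} (hp : ∀ d ∈ charDegrees G, t ∣ d → ¬ p ∣ d)
    (l : ↥N →* ℂˣ) (hl : l ≠ 1) : ∀ d ∈ charDegrees ↥(stab N H (fun n => (l n : ℂ))),
      ¬ p ∣ (stab N H (fun n => (l n : ℂ))).relIndex H * d := by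
  intro d hd hpd
  obtain ⟨θ, hθ, hθl, hst⟩ := B.exists_theta l
  rw [← hst] at hd hpd
  have h1 := B.mem_degrees hθ hd
  have h2 : t ∣ (stab P H θ).relIndex H * (d * charDegree θ) :=
    dvd_mul_of_dvd_right (dvd_mul_of_dvd_right (B.dvd_degree hl hθ hθl) _) _
  refine hp _ h1 h2 ?_
  rw [← mul_assoc]
  exact dvd_mul_of_dvd_left hpd _

/-- the normal Sylow `a`-subgroup `A` of `H` fixes the characters over nonprincipal characters of `N`. -/
theorem BX.fix [ht : Fact t.Prime] (B : BX t P N H) {p : ℕ} [hp' : Fact p.Prime]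
    (hp : ∀ d ∈ charDegrees G, t ∣ d → ¬ p ∣ d) (A : Sylow p ↥H)
    (hA : (A : Subgroup H).Normal) {l : ↥N →* ℂˣ} (hl : l ≠ 1) {θ : P → ℂ}
    (hθ : IsIrrCharacter P θ) (hθl : ∀ n : N, θ ⟨n, B.hNP n.2⟩ = θ 1 * l n) :
    ∀ x ∈ (A : Subgroup H), (x : G) ∈ stab P H θ := by
  by_contra hcon
  have h1 := dvd_relIndex A hA hcon
  exact hp _ (B.mem_degrees hθ _root_.Cfsg.Agent.H681.DegBasic.one_mem)
    (dvd_mul_of_dvd_right (dvd_mul_of_dvd_right (B.dvd_degree hl hθ hθl) _) _) (dvd_mul_of_dvd_left h1 _)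

theorem BX.star0 [Fact t.Prime] (B : BX t P N H) {l : ↥N →* ℂˣ} {θ : P → ℂ}
    (hθ : IsIrrCharacter P θ) (hθl : ∀ n : N, θ ⟨n, B.hNP n.2⟩ = θ 1 * l n) {α : G} (hα : α ∈ stab P H θ)
    (hαN : ∀ n ∈ N, α * n = n * α) {y : G} (hy : y ∈ P)
    (hly : ∀ x (hx : x ∈ P), l ⟨x * y * x⁻¹ * y⁻¹, B.hPcN x hx y hy⟩ = 1) :
    θ (⟨α * y * α⁻¹ * y⁻¹, P.mul_mem (hPn.conj_mem y hy α) (P.inv_mem hy)⟩ : P) = θ 1 := by
  have h1 : ∀ x : P, θ (x * ⟨y, hy⟩ * x⁻¹ * (⟨y, hy⟩ : P)⁻¹) = θ 1 := by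
    intro x
    have h2 := hθl ⟨x * y * (x : G)⁻¹ * y⁻¹, B.hPcN x x.2 y hy⟩
    rw [hly x x.2, Units.val_one, mul_one] at h2
    rw [← h2]
    rfl
  have hy' : α * y * α⁻¹ ∈ P := hPn.conj_mem y hy α
  have h3 : ∀ x : P, θ (x * ⟨α * y * α⁻¹, hy'⟩ * x⁻¹ * (⟨α * y * α⁻¹, hy'⟩ : P)⁻¹) = θ 1 := by
    intro x
    have hx' : α⁻¹ * x * α ∈ P := by
      have := hPn.conj_mem x x.2 α⁻¹
      rwa [inv_inv] at this
    have h4 : ((x : G) * (α * y * α⁻¹) * (x : G)⁻¹ * (α * y * α⁻¹)⁻¹) =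
        (α⁻¹ * x * α) * y * (α⁻¹ * x * α)⁻¹ * y⁻¹ := by
      have h5 := hαN _ (B.hPcN _ hx' y hy)
      calc ((x : G) * (α * y * α⁻¹) * (x : G)⁻¹ * (α * y * α⁻¹)⁻¹)
          = α * ((α⁻¹ * x * α) * y * (α⁻¹ * x * α)⁻¹ * y⁻¹) * α⁻¹ := by group
        _ = (α⁻¹ * x * α) * y * (α⁻¹ * x * α)⁻¹ * y⁻¹ := by rw [h5, mul_inv_cancel_right]
    have h6 := hθl ⟨_, B.hPcN _ hx' y hy⟩
    rw [hly _ hx', Units.val_one, mul_one] at h6
    rw [← h6]
    congr 1
    exact Subtype.ext h4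
  have h7 : θ ⟨α * y * α⁻¹, hy'⟩ = θ ⟨y, hy⟩ := (mem_stab.1 hα).2 ⟨y, hy⟩
  exact star_char hθ h1 h3 h7

/-- **(*)** -/
theorem BX.star [ht : Fact t.Prime] (B : BX t P N H) {p : ℕ} [hp' : Fact p.Prime]
    (hp : ∀ d ∈ charDegrees G, t ∣ d → ¬ p ∣ d) (A : Sylow p ↥H)
    (hA : (A : Subgroup H).Normal) (hAN : ∀ x ∈ (A : Subgroup H), ∀ n ∈ N, (x : G) * n = n * x)
    {l : ↥N →* ℂˣ} (hl : l ≠ 1) {y : G} (hy : y ∈ P)
    (hly : ∀ x (hx : x ∈ P), l ⟨x * y * x⁻¹ * y⁻¹, B.hPcN x hx y hy⟩ = 1) :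
    ∀ α ∈ (A : Subgroup H), (α : G) * y * (α : G)⁻¹ * y⁻¹ ∈ N := by
  intro α hα
  obtain ⟨θ, hθ, hθl, -⟩ := B.exists_theta l
  by_contra hcon
  set z : P := ⟨(α : G) * y * (α : G)⁻¹ * y⁻¹, P.mul_mem (hPn.conj_mem y hy α) (P.inv_mem hy)⟩ with hz
  have hN' : (N.subgroupOf P).Normal := hNn.subgroupOf P
  obtain ⟨μ, hμ1, hμ2⟩ := exists_lin (N.subgroupOf P)
    (fun x y => Subgroup.mem_subgroupOf.2 (B.hPcN x x.2 y y.2)) (y := z)
    (fun h => hcon (Subgroup.mem_subgroupOf.1 h))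
  have e1 := B.star0 hθ hθl (B.fix hp A hA hl hθ hθl α hα) (hAN α hα) hy hly
  have hθ' : IsIrrCharacter P (fun x => (μ x : ℂ) * θ x) :=
    Cfsg.Agent.OddOrderCharacters.InertiaAbelian.isIrr_mul_hom μ hθ
  have hθl' : ∀ n : N, (fun x => (μ x : ℂ) * θ x) ⟨n, B.hNP n.2⟩ = (fun x => (μ x : ℂ) * θ x) 1 * l n := by
    intro n
    change (μ ⟨n, _⟩ : ℂ) * θ ⟨n, _⟩ = ((μ 1 : ℂˣ) : ℂ) * θ 1 * l n
    rw [hμ2 _ (Subgroup.mem_subgroupOf.2 n.2), map_one, Units.val_one, one_mul, one_mul, hθl]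
  have e2 := B.star0 hθ' hθl' (B.fix hp A hA hl hθ' hθl' α hα) (hAN α hα) hy hly
  change (μ z : ℂ) * θ z = ((μ 1 : ℂˣ) : ℂ) * θ 1 at e2
  change θ z = θ 1 at e1
  rw [e1, map_one, Units.val_one, one_mul] at e2
  apply hμ1
  have h3 : (μ z : ℂ) = 1 := mul_right_cancel₀ (isIrr_apply_one_ne_zero hθ) (by rw [e2, one_mul])
  exact Units.ext h3

theorem BX.cop (B : BX t P N H) {α : G} (hα : α ∈ H) : (orderOf α).Coprime (Nat.card P) := by
  have h1 : orderOf α ∣ Nat.card H := by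
    have := orderOf_dvd_natCard (⟨α, hα⟩ : H)
    rwa [Subgroup.orderOf_mk] at this
  exact B.hcop.symm.coprime_dvd_left h1

theorem BX.commute_of_mem (B : BX t P N H) {α : G} (hα : α ∈ H) (hαN : ∀ n ∈ N, α * n = n * α) {y : G}
    (h : α * y * α⁻¹ * y⁻¹ ∈ N) : α * y = y * α := by
  have h1 : ⁅y, α⁆ ∈ N := by
    have : ⁅y, α⁆ = (α * y * α⁻¹ * y⁻¹)⁻¹ := by rw [commutatorElement_def]; group
    rw [this]
    exact N.inv_mem h
  have h2 := Lib.CoprimeStab.commute_of_commutator_commute (H := N)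
    ((B.cop hα).coprime_dvd_right (Subgroup.card_dvd_of_le B.hNP)) h1 (hαN _ h1).symm
  exact h2.eq.symm

/-- a normal abelian Sylow `p`-subgroup of `H` does not centralise `P`. -/
theorem BX.not_central (B : BX t P N H) {p : ℕ} [hp : Fact p.Prime] (hpP : ¬ p ∣ Nat.card P)
    (hd : ∃ d ∈ charDegrees G, p ∣ d) (A : Sylow p ↥H)
    (hA : (A : Subgroup H).Normal) (hAc : IsMulCommutative ↥(A : Subgroup H)) :
    ¬ ∀ x ∈ (A : Subgroup H), ∀ y ∈ P, (x : G) * y = y * x := by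
  intro hAP
  let C : Subgroup G := (A : Subgroup H).map H.subtype
  have hmem : ∀ x ∈ C, ∃ hx : x ∈ H, (⟨x, hx⟩ : H) ∈ (A : Subgroup H) := by
    rintro x ⟨y, hy, rfl⟩
    exact ⟨y.2, hy⟩
  have hCc : ∀ x ∈ C, ∀ y ∈ C, x * y = y * x := by
    intro x hx y hy
    obtain ⟨h1, h2⟩ := hmem x hx
    obtain ⟨h3, h4⟩ := hmem y hy
    have := hAc.is_comm.comm (⟨⟨x, h1⟩, h2⟩ : (A : Subgroup H)) ⟨⟨y, h3⟩, h4⟩
    exact congrArg (fun z : (A : Subgroup H) => ((z : H) : G)) this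
  have hCn : C.Normal := by
    constructor
    intro x hx g
    have hg : g ∈ H ⊔ P := by rw [sup_comm, B.hPH']; trivial
    obtain ⟨h, hh, n, hn, rfl⟩ := Subgroup.mem_sup_of_normal_right.1 hg
    obtain ⟨h2, h3⟩ := hmem x hx
    have h1 : h * n * x * (h * n)⁻¹ = h * x * h⁻¹ := by
      have : n * x = x * n := (hAP _ h3 n hn).symm
      calc h * n * x * (h * n)⁻¹ = h * (n * x) * n⁻¹ * h⁻¹ := by group
        _ = h * x * h⁻¹ := by rw [this]; group
    rw [h1]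
    exact ⟨_, hA.conj_mem _ h3 ⟨h, hh⟩, rfl⟩
  refine false_of_abelian hCn hCc (p := p) ?_ hd
  -- index
  have h1 : Nat.card C = Nat.card (A : Subgroup H) := Subgroup.card_map_of_injective H.subtype_injective
  have h2 : Nat.card P * Nat.card H = Nat.card G := by
    have h3 := index_eq (M := P) (T := P) B.hPH B.hPH' le_rfl
    rw [B.hPH, Subgroup.relIndex_bot_left] at h3
    rw [← h3, Subgroup.card_mul_index]
  have h3 : C.index = Nat.card P * (A : Subgroup H).index := by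
    have e1 := C.card_mul_index
    have e2 := (A : Subgroup H).card_mul_index
    rw [h1, ← h2, ← e2] at e1
    have h0 : 0 < Nat.card (A : Subgroup H) := Nat.card_pos
    apply Nat.eq_of_mul_eq_mul_left h0
    rw [e1]
    ring
  rw [h3]
  intro h4
  rcases (Nat.Prime.dvd_mul hp.out).1 h4 with h5 | h5
  · exact hpP h5
  · exact A.not_dvd_index h5

end

end Cfsg.Agent.H988.DG.Solv
end

-- part: H988/DG/SolvC
section
/-!
# Two disjoint edges: group theory for the second case (helper988)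
-/

set_option autoImplicit false
set_option linter.unusedSectionVars false

namespace Cfsg.Agent.H988.DG.Solv

open Cfsg Cfsg.Agent.Characters.Core Cfsg.Agent.OddOrderCharacters.IndRes
  Cfsg.Agent.OddOrderCharacters.NormalInduced Cfsg.Agent.OddOrderCharacters.PF9.CliffGen
  Cfsg.Agent.H681.DegBasic Cfsg.Agent.H748.Palfy
open Cfsg.Agent.H273.Palfy (UniqueSylow)
open scoped commutatorElement

universe u v

section Fit

variable {Γ : Type u} [Group Γ] [Finite Γ]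

theorem mem_pCore_of_commute (hsol : Group.IsSolvable Γ) {b : ℕ} [Fact b.Prime] {β : Γ} {k : ℕ}
    (hβ : β ^ b ^ k = 1) (hc : ∀ q : ℕ, q.Prime → ∀ g ∈ Cfsg.pCore q Γ, β * g = g * β) :
    β ∈ Cfsg.pCore b Γ := by
  have h1 : Cfsg.fittingSubgroup Γ ≤ Subgroup.centralizer ({β} : Set Γ) := by
    rw [Cfsg.Agent.Lib.Cores.fittingSubgroup_eq_iSup_pCore, iSup_le_iff]
    intro s g hg
    rw [Subgroup.mem_centralizer_singleton_iff]
    exact (hc s s.2 g hg).symm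
  have h2 : β ∈ Subgroup.centralizer (Cfsg.fittingSubgroup Γ : Set Γ) := by
    rw [Subgroup.mem_centralizer_iff]
    intro g hg
    exact Subgroup.mem_centralizer_singleton_iff.1 (h1 hg)
  have h3 := Cfsg.Agent.S0044.result h2
  exact Cfsg.Agent.Lib.GenFitting.mem_pCore_of_mem_fitting (p := b) h3 hβ

theorem pCore_bot_of_not_dvd {q : ℕ} (hq : q.Prime) (h : ¬ q ∣ Nat.card Γ) : Cfsg.pCore q Γ = ⊥ := by
  have : Fact q.Prime := ⟨hq⟩
  obtain ⟨k, hk⟩ := IsPGroup.iff_card.1 (Cfsg.Agent.Lib.Cores.pCore_isPGroup (G := Γ) q)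
  rcases Nat.eq_zero_or_pos k with h1 | h1
  · rw [h1, pow_zero] at hk
    exact Subgroup.card_eq_one.1 hk
  · exfalso
    apply h
    have h2 : q ∣ Nat.card (Cfsg.pCore q Γ) := by
      rw [hk]; exact dvd_pow_self q (by omega)
    exact h2.trans (Subgroup.card_subgroup_dvd_card _)

/-- the Sylow `b`-subgroup is normal -/
theorem sylow_b_normal {V : Type v} [CommGroup V] [Finite V] [Nontrivial V] [MulDistribMulAction Γ V]
    (hsol : Group.IsSolvable Γ) (hf : ∀ h : Γ, (∀ v : V, h • v = v) → h = 1) {a b s : ℕ} [Fact a.Prime]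
    [Fact b.Prime] [Fact s.Prime]
    (hpr : ∀ x : ℕ, x.Prime → x ∣ Nat.card Γ → x = a ∨ x = b ∨ x = s) (A : Sylow a Γ) (B : Sylow b Γ)
    (hBc : ∀ x ∈ (B : Subgroup Γ), ∀ y ∈ (B : Subgroup Γ), x * y = y * x)
    (hAB : ∀ x ∈ (A : Subgroup Γ), ∀ y ∈ (B : Subgroup Γ), x * y = y * x) (uS : UniqueSylow s Γ V) :
    (B : Subgroup Γ).Normal := by
  have h1 : (B : Subgroup Γ) ≤ Cfsg.pCore b Γ := by
    intro β hβ
    obtain ⟨k, hk⟩ := B.isPGroup' ⟨β, hβ⟩
    refine mem_pCore_of_commute hsol (k := k) (by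
      have := congrArg Subtype.val hk
      simpa only [_root_.SubmonoidClass.mk_pow, _root_.OneMemClass.coe_one] using this) ?_
    intro q hq g hg
    have : Fact q.Prime := ⟨hq⟩
    by_cases hd : q ∣ Nat.card Γ
    · rcases hpr q hq hd with rfl | rfl | rfl
      · exact (hAB g (Cfsg.Agent.Lib.Cores.pCore_le_sylow A hg) β hβ).symm
      · exact hBc β hβ g (Cfsg.Agent.Lib.Cores.pCore_le_sylow B hg)
      · rw [Cfsg.Agent.H273.PalfyKP.pCore_eq_bot hf uS, Subgroup.mem_bot] at hg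
        rw [hg, mul_one, one_mul]
    · rw [pCore_bot_of_not_dvd hq hd, Subgroup.mem_bot] at hg
      rw [hg, mul_one, one_mul]
  have h2 : (B : Subgroup Γ) = Cfsg.pCore b Γ := le_antisymm h1 (Cfsg.Agent.Lib.Cores.pCore_le_sylow B)
  rw [h2]
  exact Cfsg.Agent.Lib.Cores.pCore_normal b

theorem sup_abelian {A B : Subgroup Γ} (hA : A.Normal)
    (hAc : ∀ x ∈ A, ∀ y ∈ A, x * y = y * x) (hBc : ∀ x ∈ B, ∀ y ∈ B, x * y = y * x)
    (hAB : ∀ x ∈ A, ∀ y ∈ B, x * y = y * x) : ∀ x ∈ A ⊔ B, ∀ y ∈ A ⊔ B, x * y = y * x := by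
  intro x hx y hy
  obtain ⟨n, hn, z, hz, rfl⟩ := Subgroup.mem_sup_of_normal_left.1 hx
  obtain ⟨n', hn', z', hz', rfl⟩ := Subgroup.mem_sup_of_normal_left.1 hy
  have e1 : Commute n n' := hAc n hn n' hn'
  have e2 : Commute z z' := hBc z hz z' hz'
  have e3 : Commute z n' := (hAB n' hn' z hz).symm
  have e4 : Commute n z' := hAB n hn z' hz'
  exact ((e1.mul_left e3).mul_right (e4.mul_left e2)).eq

theorem sup_index {a b s : ℕ} [Fact a.Prime] [Fact b.Prime]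
    (hpr : ∀ x : ℕ, x.Prime → x ∣ Nat.card Γ → x = a ∨ x = b ∨ x = s) (A : Sylow a Γ) (B : Sylow b Γ) :
    ∀ x : ℕ, x.Prime → x ∣ ((A : Subgroup Γ) ⊔ (B : Subgroup Γ)).index → x = s := by
  intro x hx hd
  rcases hpr x hx (hd.trans (Subgroup.index_dvd_card _)) with rfl | rfl | h
  · exact absurd (hd.trans (Subgroup.index_dvd_of_le le_sup_left)) A.not_dvd_index
  · exact absurd (hd.trans (Subgroup.index_dvd_of_le le_sup_right)) B.not_dvd_index
  · exact h

theorem sup_card {a b s : ℕ} [ha : Fact a.Prime] [hb : Fact b.Prime] (hs : s.Prime) (hsa : s ≠ a) (hsb : s ≠ b)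
    (A : Sylow a Γ) (B : Sylow b Γ) (hA : (A : Subgroup Γ).Normal) :
    ¬ s ∣ Nat.card ((A : Subgroup Γ) ⊔ (B : Subgroup Γ) : Subgroup Γ) := by
  intro hd
  have h1 : Nat.card ((A : Subgroup Γ) ⊔ (B : Subgroup Γ) : Subgroup Γ) ∣ Nat.card (A : Subgroup Γ) * Nat.card (B : Subgroup Γ) := by
    have e1 := Subgroup.relIndex_mul_relIndex ⊥ (A : Subgroup Γ) ((A : Subgroup Γ) ⊔ (B : Subgroup Γ)) bot_le le_sup_left
    rw [Subgroup.relIndex_bot_left, Subgroup.relIndex_bot_left] at e1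
    rw [← e1]
    apply mul_dvd_mul_left
    rw [sup_comm, Subgroup.relIndex_sup_right]
    exact Subgroup.relIndex_dvd_card _ _
  have h2 := hd.trans h1
  obtain ⟨i, hi⟩ := IsPGroup.iff_card.1 A.isPGroup'
  obtain ⟨j, hj⟩ := IsPGroup.iff_card.1 B.isPGroup'
  have hi' : Nat.card (A : Subgroup Γ) = a ^ i := hi
  have hj' : Nat.card (B : Subgroup Γ) = b ^ j := hj
  rw [hi', hj'] at h2
  rcases hs.dvd_mul.1 h2 with h3 | h3
  · exact hsa ((Nat.prime_dvd_prime_iff_eq hs ha.out).1 (hs.dvd_of_dvd_pow h3))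
  · exact hsb ((Nat.prime_dvd_prime_iff_eq hs hb.out).1 (hs.dvd_of_dvd_pow h3))

end Fit

section

variable {G : Type u} [Group G] [Finite G]

variable {t : ℕ} {P N H : Subgroup G} [hPn : P.Normal] [hNn : N.Normal]

/-- two normal Sylow subgroups of `H` which both move linear characters of `P` -/
theorem BX.degree_of_moved (B : BX t P N H) {a b : ℕ} [ha : Fact a.Prime] [hb : Fact b.Prime] (A : Sylow a ↥H)
    (hA : (A : Subgroup H).Normal) (A' : Sylow b ↥H) (hA' : (A' : Subgroup H).Normal) {μ1 μ2 : ↥P →* ℂˣ}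
    (h1 : ¬ ∀ x ∈ (A : Subgroup H), (x : G) ∈ stab P H (fun n => (μ1 n : ℂ)))
    (h2 : ¬ ∀ x ∈ (A' : Subgroup H), (x : G) ∈ stab P H (fun n => (μ2 n : ℂ))) :
    ∃ d ∈ charDegrees G, a ∣ d ∧ b ∣ d := by
  have key : ∀ (x : G), ∀ μ ν : ↥P →* ℂˣ, x ∈ stab P H (fun n => (μ n : ℂ)) →
      x ∈ stab P H (fun n => ((μ * ν) n : ℂ)) → x ∈ stab P H (fun n => (ν n : ℂ)) := by
    intro x μ ν hμ hμν
    rw [mem_stab_lin] at hμ hμν ⊢
    refine ⟨hμ.1, fun y => ?_⟩
    have h3 := hμν.2 y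
    rw [MonoidHom.mul_apply, MonoidHom.mul_apply, hμ.2 y] at h3
    exact mul_left_cancel h3
  obtain ⟨μ, hμ1, hμ2⟩ : ∃ μ : ↥P →* ℂˣ, (¬ ∀ x ∈ (A : Subgroup H), (x : G) ∈ stab P H (fun n => (μ n : ℂ))) ∧
      ¬ ∀ x ∈ (A' : Subgroup H), (x : G) ∈ stab P H (fun n => (μ n : ℂ)) := by
    by_cases h3 : ∀ x ∈ (A' : Subgroup H), (x : G) ∈ stab P H (fun n => (μ1 n : ℂ))
    · by_cases h4 : ∀ x ∈ (A : Subgroup H), (x : G) ∈ stab P H (fun n => (μ2 n : ℂ))
      · refine ⟨μ1 * μ2, fun h5 => h1 fun x hx => ?_, fun h5 => h2 fun x hx => ?_⟩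
        · exact key x μ2 μ1 (h4 x hx) (by rw [mul_comm μ2 μ1]; exact h5 x hx)
        · exact key x μ1 μ2 (h3 x hx) (h5 x hx)
      · exact ⟨μ2, h4, h2⟩
    · exact ⟨μ1, h1, h3⟩
  have h5 := degree_linear B.hPH B.hPH' μ (one_mem (G := ↥(stab P H (fun n => (μ n : ℂ)))))
  rw [mul_one] at h5
  exact ⟨_, h5, dvd_relIndex A hA hμ1, dvd_relIndex A' hA' hμ2⟩

/-- an element of `H` fixing all linear characters of `P` centralises `P` -/
theorem BX.central_of_fix_lin (B : BX t P N H) {x : G} (hx : x ∈ H)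
    (h : ∀ μ : ↥P →* ℂˣ, x ∈ stab P H (fun n => (μ n : ℂ))) : ∀ y ∈ P, x * y = y * x := by
  -- trivial on `P / N`
  have h1 : ∀ y ∈ P, x * y * x⁻¹ * y⁻¹ ∈ N := by
    intro y hy
    by_contra hnm
    have hN' : (N.subgroupOf P).Normal := hNn.subgroupOf P
    have hz : x * y * x⁻¹ * y⁻¹ ∈ P := P.mul_mem (hPn.conj_mem y hy x) (P.inv_mem hy)
    obtain ⟨μ, hμ1, hμ2⟩ := exists_lin (N.subgroupOf P)
      (fun x y => Subgroup.mem_subgroupOf.2 (B.hPcN x x.2 y y.2)) (y := ⟨_, hz⟩)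
      (fun h => hnm (Subgroup.mem_subgroupOf.1 h))
    apply hμ1
    have h1 := (mem_stab_lin.1 (h μ)).2 ⟨y, hy⟩
    have h2 : (⟨x * y * x⁻¹ * y⁻¹, hz⟩ : P) = ⟨x * y * x⁻¹, hPn.conj_mem y hy x⟩ * (⟨y, hy⟩ : P)⁻¹ := rfl
    rw [h2, map_mul, map_inv]
    change μ ⟨x * y * x⁻¹, _⟩ * _ = 1
    rw [h1, mul_inv_cancel]
  -- trivial on `N`
  have h2 : ∀ n ∈ N, x * n = n * x := by
    refine comm_of_lin (H := H) B.hN x (fun l n => ?_)
    -- `l ∘ conj x / l` is trivial on commutators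
    let m : ↥N →* ℂˣ := (l.comp (MulAut.conjNormal x : MulAut N).toMonoidHom) * l⁻¹
    have hm : m = 1 := by
      apply B.lin_eq_one
      intro u hu w hw
      have e0 : ∀ n : N, m n = l ⟨x * n * x⁻¹, hNn.conj_mem n n.2 x⟩ * (l n)⁻¹ := fun n => rfl
      rw [e0]
      have e1 : (⟨x * (u * w * u⁻¹ * w⁻¹) * x⁻¹, hNn.conj_mem _ (B.hPcN u hu w hw) x⟩ : N) =
          ⟨u * w * u⁻¹ * w⁻¹, B.hPcN u hu w hw⟩ := by
        apply Subtype.ext
        change x * (u * w * u⁻¹ * w⁻¹) * x⁻¹ = u * w * u⁻¹ * w⁻¹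
        obtain ⟨n1, hn1, e2⟩ : ∃ n ∈ N, x * u * x⁻¹ = n * u := ⟨_, h1 u hu, by group⟩
        obtain ⟨n2, hn2, e3⟩ : ∃ n ∈ N, x * w * x⁻¹ = n * w := ⟨_, h1 w hw, by group⟩
        have z1 : ∀ y ∈ P, y * n1 = n1 * y := fun y hy => B.hNz y hy n1 hn1
        have z2 : ∀ y ∈ P, y * n2 = n2 * y := fun y hy => B.hNz y hy n2 hn2
        have e4 : x * (u * w * u⁻¹ * w⁻¹) * x⁻¹ = (x * u * x⁻¹) * (x * w * x⁻¹) * (x * u * x⁻¹)⁻¹ * (x * w * x⁻¹)⁻¹ := by
          group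
        rw [e4, e2, e3]
        have c1 : Commute n1 u := (z1 u hu).symm
        have c2 : Commute n1 w := (z1 w hw).symm
        have c3 : Commute n2 u := (z2 u hu).symm
        have c4 : Commute n2 w := (z2 w hw).symm
        have c5 : Commute n1 n2 := (z1 n2 (B.hNP hn2)).symm
        calc n1 * u * (n2 * w) * (n1 * u)⁻¹ * (n2 * w)⁻¹
            = n1 * (u * n2) * w * u⁻¹ * n1⁻¹ * (w⁻¹ * n2⁻¹) := by group
          _ = n1 * (n2 * u) * w * u⁻¹ * n1⁻¹ * (w⁻¹ * n2⁻¹) := by rw [c3.eq]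
          _ = (n1 * n2) * ((u * w * u⁻¹) * n1⁻¹) * (w⁻¹ * n2⁻¹) := by group
          _ = (n1 * n2) * (n1⁻¹ * (u * w * u⁻¹)) * (w⁻¹ * n2⁻¹) := by
            have : Commute (u * w * u⁻¹) n1⁻¹ := (((c1.symm.mul_left c2.symm).mul_left c1.symm.inv_left)).inv_right
            rw [this.eq]
          _ = (n1 * n2 * n1⁻¹) * (u * w * u⁻¹ * w⁻¹) * n2⁻¹ := by group
          _ = n2 * ((u * w * u⁻¹ * w⁻¹) * n2⁻¹) := by rw [c5.eq, mul_inv_cancel_right]; group
          _ = n2 * (n2⁻¹ * (u * w * u⁻¹ * w⁻¹)) := by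
            have : Commute (u * w * u⁻¹ * w⁻¹) n2⁻¹ :=
              ((((c3.symm.mul_left c4.symm).mul_left c3.symm.inv_left)).mul_left c4.symm.inv_left).inv_right
            rw [this.eq]
          _ = u * w * u⁻¹ * w⁻¹ := by group
      rw [e1, mul_inv_cancel]
    have h3 := DFunLike.congr_fun hm n
    change l ⟨x * n * x⁻¹, hNn.conj_mem n n.2 x⟩ * (l n)⁻¹ = 1 at h3
    exact mul_inv_eq_one.1 h3
  intro y hy
  exact B.commute_of_mem hx h2 (h1 y hy)

theorem BX.exists_moved' (B : BX t P N H) {p : ℕ} [hp : Fact p.Prime] (hpP : ¬ p ∣ Nat.card P)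
    (hd : ∃ d ∈ charDegrees G, p ∣ d) (A : Sylow p ↥H)
    (hA : (A : Subgroup H).Normal) (hAc : IsMulCommutative ↥(A : Subgroup H)) :
    ∃ μ : ↥P →* ℂˣ, ¬ ∀ x ∈ (A : Subgroup H), (x : G) ∈ stab P H (fun n => (μ n : ℂ)) := by
  by_contra hcon
  push Not at hcon
  apply B.not_central hpP hd A hA hAc
  intro x hx
  exact B.central_of_fix_lin x.2 fun μ => hcon μ x hx

/-- Sylow subgroups for primes which divide no degree centralise `P` -/
theorem BX.other_primes (B : BX t P N H) {x : ℕ} [hx : Fact x.Prime] (hxP : ¬ x ∣ Nat.card P)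
    (hxd : ∀ d ∈ charDegrees G, ¬ x ∣ d) (Q : Sylow x ↥H) :
    ∀ q ∈ (Q : Subgroup H), ∀ y ∈ P, (q : G) * y = y * q := by
  intro q hq y hy
  have h1 : IsPGroup x ((Q : Subgroup H).map H.subtype) := Q.isPGroup'.map _
  obtain ⟨R, hR⟩ := h1.exists_le_sylow
  have hsolv := B.solv
  have hRn := (ito_michler (X := G) inferInstance hxd R).1
  have h2 : (q : G) ∈ (R : Subgroup G) := hR ⟨q, hq, rfl⟩
  have h3 : (R : Subgroup G) ⊓ P = ⊥ := by
    apply disjoint_iff.1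
    apply Subgroup.disjoint_of_coprime_natCard
    obtain ⟨n, hn⟩ := IsPGroup.iff_card.1 R.isPGroup'
    have h3 : Nat.card (R : Subgroup G) = x ^ n := hn
    rw [h3]
    exact ((Nat.Prime.coprime_iff_not_dvd hx.out).2 hxP).pow_left n
  have h4 : (q : G) * y * (q : G)⁻¹ * y⁻¹ ∈ (R : Subgroup G) ⊓ P := by
    refine Subgroup.mem_inf.2 ⟨?_, P.mul_mem (hPn.conj_mem y hy q) (P.inv_mem hy)⟩
    have : (q : G) * y * (q : G)⁻¹ * y⁻¹ = q * (y * (q : G)⁻¹ * y⁻¹) := by group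
    rw [this]
    exact (R : Subgroup G).mul_mem h2 (hRn.conj_mem _ ((R : Subgroup G).inv_mem h2) y)
  rw [h3, Subgroup.mem_bot] at h4
  have h5 : (q : G) * y = (q * y * (q : G)⁻¹ * y⁻¹) * (y * q) := by group
  rw [h5, h4, one_mul]

end

end Cfsg.Agent.H988.DG.Solv
end

-- part: H988/DG/SolvD
section
/-!
# Two disjoint edges: the normal Sylow subgroup centralising `N` (helper988)
-/

set_option autoImplicit false
set_option linter.unusedSectionVars false

namespace Cfsg.Agent.H988.DG.Solv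

open Cfsg Cfsg.Agent.Characters.Core Cfsg.Agent.OddOrderCharacters.IndRes
  Cfsg.Agent.OddOrderCharacters.NormalInduced Cfsg.Agent.OddOrderCharacters.PF9.CliffGen
  Cfsg.Agent.H681.DegBasic Cfsg.Agent.H748.Palfy
open Cfsg.Agent.H273.Palfy (UniqueSylow)
open scoped commutatorElement

universe u v

section

variable {G : Type u} [Group G] [Finite G]

variable {t : ℕ} {P N H : Subgroup G} [hPn : P.Normal] [hNn : N.Normal]

/-- the centraliser in `P` of a subgroup of `H` -/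
def Dc (P : Subgroup G) {H : Subgroup G} (A : Subgroup ↥H) : Subgroup ↥P where
  carrier := {y | ∀ x ∈ A, (x : G) * y = y * x}
  one_mem' := by
    intro x _
    rw [OneMemClass.coe_one, mul_one, one_mul]
  mul_mem' := by
    intro y z hy hz x hx
    rw [Subgroup.coe_mul, ← mul_assoc, hy x hx, mul_assoc, hz x hx, mul_assoc]
  inv_mem' := by
    intro y hy x hx
    have h1 := hy x hx
    rw [Subgroup.coe_inv]
    calc (x : G) * (y : G)⁻¹ = (y : G)⁻¹ * ((y : G) * x) * (y : G)⁻¹ := by group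
      _ = (y : G)⁻¹ * ((x : G) * y) * (y : G)⁻¹ := by rw [h1]
      _ = (y : G)⁻¹ * x := by group

/-- the linear characters of `P` trivial on `D` -/
def Vc (D : Subgroup ↥P) : Subgroup (↥P →* ℂˣ) where
  carrier := {μ | ∀ k ∈ D, μ k = 1}
  one_mem' := fun k _ => rfl
  mul_mem' := by
    intro μ ν hμ hν k hk
    rw [MonoidHom.mul_apply, hμ k hk, hν k hk, one_mul]
  inv_mem' := by
    intro μ hμ k hk
    rw [MonoidHom.inv_apply, hμ k hk, inv_one]

/-- the centraliser of `D` in `P` -/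
def Uc (D : Subgroup ↥P) : Subgroup ↥P where
  carrier := {y | ∀ d ∈ D, d * y = y * d}
  one_mem' := by
    intro x _
    rw [mul_one, one_mul]
  mul_mem' := by
    intro y z hy hz x hx
    rw [← mul_assoc, hy x hx, mul_assoc, hz x hx, mul_assoc]
  inv_mem' := by
    intro y hy x hx
    have h1 := hy x hx
    calc x * y⁻¹ = y⁻¹ * (y * x) * y⁻¹ := by group
      _ = y⁻¹ * (x * y) * y⁻¹ := by rw [h1]
      _ = y⁻¹ * x := by group

/-- the normal abelian Sylow `a`-subgroup of `H` centralising `N` -/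
structure AC (a : ℕ) (P N H : Subgroup G) (A : Sylow a ↥H) : Prop where
  hA : (A : Subgroup H).Normal
  hAc : IsMulCommutative ↥(A : Subgroup H)
  hAN : ∀ x ∈ (A : Subgroup H), ∀ n ∈ N, (x : G) * n = n * x
  haP : ¬ a ∣ Nat.card P
  da : ∃ d ∈ charDegrees G, a ∣ d

variable {a : ℕ} {A : Sylow a ↥H}

theorem AC.mem_of_N (C : AC a P N H A) {n : ↥P} (hn : (n : G) ∈ N) : n ∈ Dc P (A : Subgroup H) :=
  fun x hx => C.hAN x hx n hn

theorem AC.comm_mem (C : AC a P N H A) (B : BX t P N H) (x y : ↥P) : x * y * x⁻¹ * y⁻¹ ∈ Dc P (A : Subgroup H) :=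
  C.mem_of_N (B.hPcN x x.2 y y.2)

theorem AC.normal (C : AC a P N H A) (B : BX t P N H) : (Dc P (A : Subgroup H)).Normal := by
  constructor
  intro d hd y
  have : y * d * y⁻¹ = (y * d * y⁻¹ * d⁻¹) * d := by group
  rw [this]
  exact Subgroup.mul_mem _ (C.comm_mem B y d) hd

theorem AC.conj_D (C : AC a P N H A) {h : G} (hh : h ∈ H) {d : ↥P} (hd : d ∈ Dc P (A : Subgroup H)) :
    (⟨h * d * h⁻¹, hPn.conj_mem d d.2 h⟩ : ↥P) ∈ Dc P (A : Subgroup H) := by
  intro x hx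
  have h1 := hd ((⟨h, hh⟩ : H)⁻¹ * x * (⟨h, hh⟩ : H)) (by
    have := C.hA.conj_mem x hx (⟨h, hh⟩ : H)⁻¹
    rwa [inv_inv] at this)
  have h2 : (((⟨h, hh⟩ : H)⁻¹ * x * (⟨h, hh⟩ : H) : H) : G) = h⁻¹ * x * h := rfl
  rw [h2] at h1
  change (x : G) * (h * d * h⁻¹) = h * d * h⁻¹ * x
  calc (x : G) * (h * d * h⁻¹) = h * ((h⁻¹ * x * h) * d) * h⁻¹ := by group
    _ = h * (d * (h⁻¹ * x * h)) * h⁻¹ := by rw [h1]
    _ = h * d * h⁻¹ * x := by group

theorem AC.conj_U (C : AC a P N H A) {h : G} (hh : h ∈ H) {u : ↥P} (hu : u ∈ Uc (Dc P (A : Subgroup H))) :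
    (⟨h * u * h⁻¹, hPn.conj_mem u u.2 h⟩ : ↥P) ∈ Uc (Dc P (A : Subgroup H)) := by
  intro d hd
  have h1 := C.conj_D (H.inv_mem hh) hd
  have h2 := hu _ h1
  apply Subtype.ext
  have h3 := congrArg Subtype.val h2
  change h⁻¹ * d * h⁻¹⁻¹ * u = u * (h⁻¹ * d * h⁻¹⁻¹) at h3
  change (d : G) * (h * u * h⁻¹) = h * u * h⁻¹ * d
  rw [inv_inv] at h3
  calc (d : G) * (h * u * h⁻¹) = h * (h⁻¹ * d * h * u) * h⁻¹ := by group
    _ = h * (u * (h⁻¹ * d * h)) * h⁻¹ := by rw [h3]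
    _ = h * u * h⁻¹ * d := by group

/-- the commutators of `P` with `A` centralise `D` -/
theorem AC.comm_U (C : AC a P N H A) (B : BX t P N H) {x0 : G} (hx0 : x0 ∈ P) {α0 : ↥H}
    (hα0 : α0 ∈ (A : Subgroup H)) (hy : x0 * α0 * x0⁻¹ * (α0 : G)⁻¹ ∈ P) :
    (⟨x0 * α0 * x0⁻¹ * (α0 : G)⁻¹, hy⟩ : ↥P) ∈ Uc (Dc P (A : Subgroup H)) := by
  intro d hd
  apply Subtype.ext
  change (d : G) * (x0 * α0 * x0⁻¹ * (α0 : G)⁻¹) = (x0 * α0 * x0⁻¹ * (α0 : G)⁻¹) * d
  set y : G := x0 * α0 * x0⁻¹ * (α0 : G)⁻¹ with hy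
  have e1 := hd α0 hα0
  have hn : x0⁻¹ * d * x0 * (d : G)⁻¹ ∈ N := by
    have := B.hPcN x0⁻¹ (P.inv_mem hx0) d d.2
    rwa [inv_inv] at this
  set n := x0⁻¹ * d * x0 * (d : G)⁻¹ with hndef
  have e2 : (d : G) * x0 * (d : G)⁻¹ = x0 * n := by rw [hndef]; group
  have e3 := C.hAN α0 hα0 n hn
  have e1' : (d : G) * α0 * (d : G)⁻¹ = α0 := by rw [← e1, mul_inv_cancel_right]
  have e6 : (d : G) * y * (d : G)⁻¹ = y := by
    calc (d : G) * y * (d : G)⁻¹ = ((d : G) * x0 * (d : G)⁻¹) * ((d : G) * α0 * (d : G)⁻¹) *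
          ((d : G) * x0 * (d : G)⁻¹)⁻¹ * ((d : G) * α0 * (d : G)⁻¹)⁻¹ := by rw [hy]; group
      _ = (x0 * n) * α0 * (x0 * n)⁻¹ * (α0 : G)⁻¹ := by rw [e2, e1']
      _ = x0 * (n * α0) * n⁻¹ * x0⁻¹ * (α0 : G)⁻¹ := by group
      _ = x0 * (α0 * n) * n⁻¹ * x0⁻¹ * (α0 : G)⁻¹ := by rw [e3]
      _ = y := by rw [hy]; group
  calc (d : G) * y = ((d : G) * y * (d : G)⁻¹) * d := by group
    _ = y * d := by rw [e6]

/-- `P = U D` -/
theorem AC.factor [ha : Fact a.Prime] (C : AC a P N H A) (B : BX t P N H) (y : ↥P) :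
    ∃ m ∈ Uc (Dc P (A : Subgroup H)), ∃ c ∈ Dc P (A : Subgroup H), y = m * c := by
  let K : Subgroup G := (A : Subgroup H).map H.subtype
  have hmem : ∀ x ∈ K, ∃ hx : x ∈ H, (⟨x, hx⟩ : H) ∈ (A : Subgroup H) := by
    rintro x ⟨y, hy, rfl⟩
    exact ⟨y.2, hy⟩
  have hCP : IsPGroup a K := A.isPGroup'.map _
  have hCn : K ≤ Subgroup.normalizer (P : Set G) := by
    rw [Subgroup.normalizer_eq_top]
    exact le_top
  have hcomm : (⁅P, K⁆ : Subgroup G) ≤ (Uc (Dc P (A : Subgroup H))).map P.subtype := by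
    rw [Subgroup.commutator_le]
    intro y hy x hx
    obtain ⟨h1, h2⟩ := hmem x hx
    have h4 : y * x * y⁻¹ * x⁻¹ ∈ P := by
      have : y * x * y⁻¹ * x⁻¹ = y * (x * y⁻¹ * x⁻¹) := by group
      rw [this]
      exact P.mul_mem hy (hPn.conj_mem _ (P.inv_mem hy) x)
    exact ⟨⟨_, h4⟩, C.comm_U B hy h2 h4, rfl⟩
  obtain ⟨m, hm, c, hc, hmc⟩ := Lib.CoprimeCommutator.exists_commutator_mul_fixed_of_isPGroup a K P hCP hCn
    C.haP y y.2
  obtain ⟨m', hm', hmm⟩ := hcomm hm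
  have hcP : c ∈ P := (Subgroup.mem_inf.1 hc).1
  refine ⟨m', hm', ⟨c, hcP⟩, ?_, ?_⟩
  · intro x hx
    exact Subgroup.mem_centralizer_iff.1 (Subgroup.mem_inf.1 hc).2 x ⟨x, hx, rfl⟩
  · apply Subtype.ext
    rw [hmc, ← hmm]
    rfl

/-- elements of `U ∩ D` are central in `P` -/
theorem AC.central [ha : Fact a.Prime] (C : AC a P N H A) (B : BX t P N H) {z : ↥P}
    (hzU : z ∈ Uc (Dc P (A : Subgroup H))) (hzD : z ∈ Dc P (A : Subgroup H)) (y : ↥P) : y * z = z * y := by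
  obtain ⟨m, hm, c, hc, rfl⟩ := C.factor B y
  have e1 : Commute z m := hm z hzD
  have e2 : Commute c z := hzU c hc
  exact (e1.symm.mul_left e2).eq

/-- nontrivial characters trivial on `D` are moved by `A` -/
theorem AC.moved [ha : Fact a.Prime] (C : AC a P N H A) (B : BX t P N H) {μ : ↥P →* ℂˣ}
    (hμ : μ ∈ Vc (Dc P (A : Subgroup H))) (hμ1 : μ ≠ 1) :
    ¬ ∀ x ∈ (A : Subgroup H), (x : G) ∈ stab P H (fun n => (μ n : ℂ)) := by
  intro hfix
  apply hμ1
  let K : Subgroup G := (A : Subgroup H).map H.subtype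
  have hmem : ∀ x ∈ K, ∃ hx : x ∈ H, (⟨x, hx⟩ : H) ∈ (A : Subgroup H) := by
    rintro x ⟨y, hy, rfl⟩
    exact ⟨y.2, hy⟩
  have hCP : IsPGroup a K := A.isPGroup'.map _
  have hCn : K ≤ Subgroup.normalizer (P : Set G) := by
    rw [Subgroup.normalizer_eq_top]
    exact le_top
  -- `μ` is trivial on `[P, K]`
  have hcomm : (⁅P, K⁆ : Subgroup G) ≤ (μ.ker).map P.subtype := by
    rw [Subgroup.commutator_le]
    intro y hy x hx
    obtain ⟨h1, h2⟩ := hmem x hx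
    have h3 := (mem_stab_lin.1 (hfix _ h2)).2 ⟨y⁻¹, P.inv_mem hy⟩
    have h4 : x * y⁻¹ * x⁻¹ ∈ P := hPn.conj_mem _ (P.inv_mem hy) x
    refine ⟨⟨y, hy⟩ * ⟨x * y⁻¹ * x⁻¹, h4⟩, ?_, ?_⟩
    · rw [SetLike.mem_coe, MonoidHom.mem_ker, map_mul]
      change μ ⟨y, hy⟩ * μ ⟨x * y⁻¹ * x⁻¹, _⟩ = 1
      have h5 : μ ⟨x * y⁻¹ * x⁻¹, h4⟩ = μ ⟨y⁻¹, P.inv_mem hy⟩ := h3
      rw [h5, ← map_mul]
      have : (⟨y, hy⟩ * ⟨y⁻¹, P.inv_mem hy⟩ : P) = 1 := Subtype.ext (mul_inv_cancel y)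
      rw [this, map_one]
    · rw [commutatorElement_def]
      change y * (x * y⁻¹ * x⁻¹) = _
      group
  ext y
  obtain ⟨m, hm, c, hc, hmc⟩ := Lib.CoprimeCommutator.exists_commutator_mul_fixed_of_isPGroup a K P hCP hCn
    C.haP y y.2
  obtain ⟨m', hm', hmm⟩ := hcomm hm
  have hcP : c ∈ P := (Subgroup.mem_inf.1 hc).1
  have hcD : (⟨c, hcP⟩ : P) ∈ Dc P (A : Subgroup H) := by
    intro x hx
    have h6 := Subgroup.mem_centralizer_iff.1 (Subgroup.mem_inf.1 hc).2 x ⟨x, hx, rfl⟩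
    exact h6
  have h7 : y = m' * ⟨c, hcP⟩ := by
    apply Subtype.ext
    rw [hmc, ← hmm]
    rfl
  rw [h7, map_mul, (MonoidHom.mem_ker).1 hm', hμ _ hcD, one_mul]
  rfl

/-- the commutator pairing -/
noncomputable def pair (B : BX t P N H) (l : ↥N →* ℂˣ) : ↥P →* (↥P →* ℂˣ) where
  toFun y :=
    { toFun := fun x => l ⟨x * y * (x : G)⁻¹ * (y : G)⁻¹, B.hPcN x x.2 y y.2⟩
      map_one' := by
        have : (⟨((1 : P) : G) * y * ((1 : P) : G)⁻¹ * (y : G)⁻¹, B.hPcN _ (1 : P).2 y y.2⟩ : N) = 1 := by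
          apply Subtype.ext
          change ((1 : P) : G) * y * ((1 : P) : G)⁻¹ * (y : G)⁻¹ = 1
          rw [OneMemClass.coe_one]; group
        rw [this, map_one]
      map_mul' := by
        intro x x'
        rw [← map_mul]
        congr 1
        apply Subtype.ext
        change ((x * x' : P) : G) * y * ((x * x' : P) : G)⁻¹ * (y : G)⁻¹ =
          ((x : G) * y * (x : G)⁻¹ * (y : G)⁻¹) * ((x' : G) * y * (x' : G)⁻¹ * (y : G)⁻¹)
        rw [Subgroup.coe_mul]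
        have h1 := B.hPcN x' x'.2 y y.2
        have h2 := B.hNz x x.2 _ h1
        have h3 := B.hNz _ (B.hNP (B.hPcN x x.2 y y.2)) _ h1
        rw [h3]
        calc (x : G) * x' * y * ((x : G) * x')⁻¹ * (y : G)⁻¹
            = ((x : G) * (x' * y * (x' : G)⁻¹ * (y : G)⁻¹)) * y * (x : G)⁻¹ * (y : G)⁻¹ := by group
          _ = ((x' * y * (x' : G)⁻¹ * (y : G)⁻¹) * x) * y * (x : G)⁻¹ * (y : G)⁻¹ := by rw [h2]
          _ = _ := by group }
  map_one' := by
    ext x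
    change ((l ⟨x * ((1 : P) : G) * (x : G)⁻¹ * ((1 : P) : G)⁻¹, B.hPcN x x.2 _ (1 : P).2⟩ : ℂˣ) : ℂ) = 1
    have : (⟨x * ((1 : P) : G) * (x : G)⁻¹ * ((1 : P) : G)⁻¹, B.hPcN x x.2 _ (1 : P).2⟩ : N) = 1 := by
      apply Subtype.ext
      change (x : G) * ((1 : P) : G) * (x : G)⁻¹ * ((1 : P) : G)⁻¹ = 1
      rw [OneMemClass.coe_one]; group
    rw [this, map_one]
    rfl
  map_mul' := by
    intro y y'
    ext x
    change ((l ⟨x * ((y * y' : P) : G) * (x : G)⁻¹ * ((y * y' : P) : G)⁻¹, B.hPcN x x.2 _ (y * y' : P).2⟩ : ℂˣ) : ℂ) =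
      ((l ⟨x * y * (x : G)⁻¹ * (y : G)⁻¹, B.hPcN x x.2 y y.2⟩ *
        l ⟨x * y' * (x : G)⁻¹ * (y' : G)⁻¹, B.hPcN x x.2 y' y'.2⟩ : ℂˣ) : ℂ)
    rw [← map_mul]
    congr 2
    apply Subtype.ext
    change (x : G) * ((y * y' : P) : G) * (x : G)⁻¹ * ((y * y' : P) : G)⁻¹ =
      ((x : G) * y * (x : G)⁻¹ * (y : G)⁻¹) * ((x : G) * y' * (x : G)⁻¹ * (y' : G)⁻¹)
    rw [Subgroup.coe_mul]
    have h1 := B.hPcN x x.2 y' y'.2
    have h2 := B.hNz y y.2 _ h1
    calc (x : G) * (y * y') * (x : G)⁻¹ * ((y : G) * y')⁻¹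
        = (x : G) * y * (x : G)⁻¹ * (x * y' * (x : G)⁻¹ * (y' : G)⁻¹) * (y : G)⁻¹ := by group
      _ = (x : G) * y * (x : G)⁻¹ * (y : G)⁻¹ * (y * (x * y' * (x : G)⁻¹ * (y' : G)⁻¹)) * (y : G)⁻¹ := by group
      _ = (x : G) * y * (x : G)⁻¹ * (y : G)⁻¹ * ((x * y' * (x : G)⁻¹ * (y' : G)⁻¹) * y) * (y : G)⁻¹ := by rw [h2]
      _ = _ := by group

theorem pair_apply (B : BX t P N H) (l : ↥N →* ℂˣ) (y x : ↥P) :
    pair B l y x = l ⟨x * y * (x : G)⁻¹ * (y : G)⁻¹, B.hPcN x x.2 y y.2⟩ := rfl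

theorem pair_self (B : BX t P N H) (l : ↥N →* ℂˣ) (y : ↥P) : pair B l y y = 1 := by
  rw [pair_apply]
  have : (⟨y * y * (y : G)⁻¹ * (y : G)⁻¹, B.hPcN y y.2 y y.2⟩ : N) = 1 := by
    apply Subtype.ext
    change (y : G) * y * (y : G)⁻¹ * (y : G)⁻¹ = 1
    group
  rw [this, map_one]

/-- the radical of the pairing is contained in `D` -/
theorem AC.radical [ht : Fact t.Prime] [ha : Fact a.Prime] (C : AC a P N H A) (B : BX t P N H)
    (hp : ∀ d ∈ charDegrees G, t ∣ d → ¬ a ∣ d) {l : ↥N →* ℂˣ} (hl : l ≠ 1) {y : ↥P} (hy : pair B l y = 1) :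
    y ∈ Dc P (A : Subgroup H) := by
  intro x hx
  apply B.commute_of_mem x.2 (C.hAN x hx)
  exact B.star hp A C.hA C.hAN hl y.2 (fun z hz => DFunLike.congr_fun hy ⟨z, hz⟩) x hx

theorem AC.pair_mem (C : AC a P N H A) (B : BX t P N H) (l : ↥N →* ℂˣ) {y : ↥P}
    (hy : y ∈ Uc (Dc P (A : Subgroup H))) : pair B l y ∈ Vc (Dc P (A : Subgroup H)) := by
  intro k hk
  rw [pair_apply]
  have : (⟨k * y * (k : G)⁻¹ * (y : G)⁻¹, B.hPcN k k.2 y y.2⟩ : N) = 1 := by
    apply Subtype.ext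
    have h1 := congrArg Subtype.val (hy k hk)
    change (k : G) * y = y * k at h1
    change (k : G) * y * (k : G)⁻¹ * (y : G)⁻¹ = 1
    rw [h1]; group
  rw [this, map_one]

/-- elements of `U` outside `D` exist -/
theorem AC.exists_U (C : AC a P N H A) (B : BX t P N H) [ha : Fact a.Prime] :
    ∃ y ∈ Uc (Dc P (A : Subgroup H)), y ∉ Dc P (A : Subgroup H) := by
  by_contra hcon
  push Not at hcon
  apply B.not_central C.haP C.da A C.hA C.hAc
  intro α hα y hy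
  have h2 : y * α * y⁻¹ * (α : G)⁻¹ ∈ P := by
    have : y * α * y⁻¹ * (α : G)⁻¹ = y * (α * y⁻¹ * (α : G)⁻¹) := by group
    rw [this]
    exact P.mul_mem hy (hPn.conj_mem _ (P.inv_mem hy) _)
  have h1 := hcon _ (C.comm_U B hy hα h2)
  have h2' : ⁅y, (α : G)⁆ ∈ P := h2
  have h3 : Commute ⁅y, (α : G)⁆ (α : G) := (h1 α hα).symm
  exact (Lib.CoprimeStab.commute_of_commutator_commute (B.cop α.2) h2' h3).eq.symm

/-- `[P, y] = N` for `y` in `U` outside `D` -/
theorem AC.comm_surj [ht : Fact t.Prime] [ha : Fact a.Prime] (C : AC a P N H A) (B : BX t P N H)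
    (hp : ∀ d ∈ charDegrees G, t ∣ d → ¬ a ∣ d) {y : ↥P} (hy : y ∉ Dc P (A : Subgroup H)) :
    ∀ n ∈ N, ∃ x : ↥P, (x : G) * y * (x : G)⁻¹ * (y : G)⁻¹ = n := by
  let φ : ↥P →* ↥N :=
    { toFun := fun x => ⟨x * y * (x : G)⁻¹ * (y : G)⁻¹, B.hPcN x x.2 y y.2⟩
      map_one' := Subtype.ext (by
        change ((1 : P) : G) * y * ((1 : P) : G)⁻¹ * (y : G)⁻¹ = 1
        rw [OneMemClass.coe_one]; group)
      map_mul' := by
        intro x x'
        apply Subtype.ext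
        change ((x * x' : P) : G) * y * ((x * x' : P) : G)⁻¹ * (y : G)⁻¹ =
          ((x : G) * y * (x : G)⁻¹ * (y : G)⁻¹) * ((x' : G) * y * (x' : G)⁻¹ * (y : G)⁻¹)
        rw [Subgroup.coe_mul]
        have h1 := B.hPcN x' x'.2 y y.2
        have h2 := B.hNz x x.2 _ h1
        have h3 := B.hNz _ (B.hNP (B.hPcN x x.2 y y.2)) _ h1
        rw [h3]
        calc (x : G) * x' * y * ((x : G) * x')⁻¹ * (y : G)⁻¹
            = ((x : G) * (x' * y * (x' : G)⁻¹ * (y : G)⁻¹)) * y * (x : G)⁻¹ * (y : G)⁻¹ := by group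
          _ = ((x' * y * (x' : G)⁻¹ * (y : G)⁻¹) * x) * y * (x : G)⁻¹ * (y : G)⁻¹ := by rw [h2]
          _ = _ := by group }
  have hφ : ∀ x : ↥P, ((φ x : ↥N) : G) = x * y * (x : G)⁻¹ * (y : G)⁻¹ := fun x => rfl
  by_contra hcon
  push Not at hcon
  obtain ⟨n, hnN, hn⟩ := hcon
  have hn' : (⟨n, hnN⟩ : ↥N) ∉ φ.range := by
    rintro ⟨x, hx⟩
    exact hn x (by rw [← hφ, hx])
  have hNc : ∀ x z : ↥N, x * z * x⁻¹ * z⁻¹ = 1 := by
    intro x z
    have : x * z = z * x := Subtype.ext (B.hN x x.2 z z.2)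
    rw [this]; group
  have hrn : φ.range.Normal := by
    constructor
    intro x hx g
    have : g * x * g⁻¹ = x := by
      have h1 : g * x = x * g := Subtype.ext (B.hN g g.2 x x.2)
      rw [h1, mul_inv_cancel_right]
    rwa [this]
  obtain ⟨lam, h1, h2⟩ := exists_lin φ.range (fun x z => by rw [hNc]; exact Subgroup.one_mem _) hn'
  have hl1 : lam ≠ 1 := by
    rintro rfl
    exact h1 rfl
  apply hy
  refine C.radical B hp hl1 ?_
  ext x
  rw [pair_apply]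
  have := h2 _ ⟨x, rfl⟩
  exact congrArg Units.val this

end

end Cfsg.Agent.H988.DG.Solv
end

-- part: H988/DG/SolvE
section
/-!
# Two disjoint edges: the linear group at the end of the second case (helper988)
-/

set_option autoImplicit false
set_option linter.unusedSectionVars false

namespace Cfsg.Agent.H988.DG.Solv

open Cfsg Cfsg.Agent.Characters.Core Cfsg.Agent.OddOrderCharacters.IndRes
  Cfsg.Agent.OddOrderCharacters.NormalInduced Cfsg.Agent.OddOrderCharacters.PF9.CliffGen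
  Cfsg.Agent.H681.DegBasic Cfsg.Agent.H748.Palfy
open Cfsg.Agent.H273.Palfy (UniqueSylow)

universe u v

/-- interface (task 1817, part 1) -/
def IrrU : Prop :=
  ∀ (Γ : Type u) [Group Γ] [Finite Γ] (V : Type v) [CommGroup V] [Finite V] [Nontrivial V]
    [MulDistribMulAction Γ V] (t s : ℕ) [Fact t.Prime] [Fact s.Prime], (∀ v : V, v ^ t = 1) →
    ¬ t ∣ Nat.card Γ → ∀ (E : Subgroup Γ) [E.Normal], (∀ x : ℕ, x.Prime → x ∣ E.index → x = s) →
    ¬ s ∣ Nat.card E → UniqueSylow s Γ V →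
    (∃ S : Sylow s Γ, ∃ h ∈ (S : Subgroup Γ), ∃ v : V, h • v ≠ v) →
    ∀ W : Subgroup V, (∀ d ∈ E, ∀ w ∈ W, d • w ∈ W) → W = ⊥ ∨ W = ⊤

/-- interface (task 1817, part 2) -/
def EndG : Prop :=
  ∀ (Γ : Type u) [Group Γ] [Finite Γ] (V : Type v) [CommGroup V] [Finite V] [Nontrivial V]
    [MulDistribMulAction Γ V] (t s : ℕ) [Fact t.Prime] [Fact s.Prime], t ≠ s → (∀ v : V, v ^ t = 1) →
    (∀ h : Γ, (∀ v : V, h • v = v) → h = 1) →
    ¬ t ∣ Nat.card Γ → ∀ (E : Subgroup Γ) [E.Normal], (∀ x ∈ E, ∀ y ∈ E, x * y = y * x) →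
    (∀ x : ℕ, x.Prime → x ∣ E.index → x = s) →
    ¬ s ∣ Nat.card E → UniqueSylow s Γ V →
    (∃ S : Sylow s Γ, ∃ h ∈ (S : Subgroup Γ), ∃ v : V, h • v ≠ v) →
    ∀ g : V →* V →* ℂˣ, (∀ x, g x x = 1) → (∀ d ∈ E, ∀ x x' : V, g (d • x) (d • x') = g x x') → g ≠ 1 → False

/-- action on an invariant subgroup -/
@[reducible] def subAct {H : Type u} {V : Type v} [Group H] [CommGroup V] [MulDistribMulAction H V] (W : Subgroup V)
    (hW : ∀ h : H, ∀ w ∈ W, h • w ∈ W) : MulDistribMulAction H W where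
  smul h w := ⟨h • (w : V), hW h w w.2⟩
  one_smul w := Subtype.ext (one_smul H (w : V))
  mul_smul g h w := Subtype.ext (mul_smul g h (w : V))
  smul_mul g w w' := Subtype.ext (smul_mul' g (w : V) (w' : V))
  smul_one g := Subtype.ext (smul_one g)

section Core

variable (H : Type u) [Group H] (V : Type v) [CommGroup V] [MulDistribMulAction H V]

/-- the group induced by `H` on `V` -/
abbrev Gam : Type u := H ⧸ (MulDistribMulAction.toMulAut H V).ker

/-- the action of the induced group -/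
@[reducible] noncomputable def gamAct : MulDistribMulAction (Gam H V) V :=
  MulDistribMulAction.compHom V (QuotientGroup.kerLift (MulDistribMulAction.toMulAut H V))

/-- the situation of the last part -/
structure Setup [Finite H] (t s a b : ℕ) [Fact t.Prime] [Fact s.Prime] [Fact a.Prime] [Fact b.Prime]
    (A : Sylow a H) (B : Sylow b H) : Prop where
  sol : Group.IsSolvable H
  hV : ∀ v : V, v ^ t = 1
  htH : ¬ t ∣ Nat.card H
  hother : ∀ x : ℕ, x.Prime → x ≠ a → x ≠ b → x ≠ s → x ∣ Nat.card H → ∀ Q : Sylow x H,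
    ∀ q ∈ (Q : Subgroup H), ∀ v : V, q • v = v
  hA : (A : Subgroup H).Normal
  hAc : ∀ x ∈ (A : Subgroup H), ∀ y ∈ (A : Subgroup H), x * y = y * x
  hBc : ∀ x ∈ (B : Subgroup H), ∀ y ∈ (B : Subgroup H), x * y = y * x
  hAB : ∀ x ∈ (A : Subgroup H), ∀ y ∈ (B : Subgroup H), x * y = y * x
  uS : UniqueSylow s H V
  nS : ∃ S : Sylow s H, ∃ h ∈ (S : Subgroup H), ∃ v : V, h • v ≠ v
  hts : t ≠ s
  hsa : s ≠ a
  hsb : s ≠ b

variable {H V}

section

variable [Finite H] [Finite V] [Nontrivial V] {t s a b : ℕ} [ht : Fact t.Prime] [hs : Fact s.Prime]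
  [ha : Fact a.Prime] [hb : Fact b.Prime] {A : Sylow a H} {B : Sylow b H}

theorem gam_faithful : letI := gamAct H V
    ∀ h : Gam H V, (∀ v : V, h • v = v) → h = 1 := by
  intro x hx
  obtain ⟨h, rfl⟩ := QuotientGroup.mk'_surjective _ x
  rw [QuotientGroup.mk'_apply, QuotientGroup.eq_one_iff, MonoidHom.mem_ker]
  apply MulEquiv.ext
  intro v
  exact hx v

theorem Setup.primes (S : Setup H V t s a b A B) :
    ∀ x : ℕ, x.Prime → x ∣ Nat.card (Gam H V) → x = a ∨ x = b ∨ x = s := by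
  intro x hx hd
  by_contra hcon
  push Not at hcon
  have : Fact x.Prime := ⟨hx⟩
  have h0 : Nat.card (Gam H V) = (MulDistribMulAction.toMulAut H V).ker.index := (Subgroup.index_eq_card _).symm
  have h1 : x ∣ Nat.card H := by
    rw [h0] at hd
    exact hd.trans (Subgroup.index_dvd_card _)
  let Q : Sylow x H := default
  have h2 : (Q : Subgroup H) ≤ (MulDistribMulAction.toMulAut H V).ker := by
    intro q hq
    rw [MonoidHom.mem_ker]
    apply MulEquiv.ext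
    intro v
    exact S.hother x hx hcon.1 hcon.2.1 hcon.2.2 h1 Q q hq v
  rw [h0] at hd
  exact Q.not_dvd_index (hd.trans (Subgroup.index_dvd_of_le h2))

/-- the image of a Sylow subgroup -/
noncomputable def img {p : ℕ} [Fact p.Prime] (Q : Sylow p H) : Sylow p (Gam H V) :=
  Q.mapSurjective (QuotientGroup.mk'_surjective (MulDistribMulAction.toMulAut H V).ker)

theorem Setup.img_normal (S : Setup H V t s a b A B) : ((img A : Sylow a (Gam H V)) : Subgroup (Gam H V)).Normal :=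
  Subgroup.Normal.map S.hA _ (QuotientGroup.mk'_surjective _)

theorem Setup.uS' (S : Setup H V t s a b A B) : letI := gamAct H V
    UniqueSylow s (Gam H V) V := by
  let _ := gamAct H V
  exact Cfsg.Agent.H273.PalfyKP.uniqueSylow_map _ (QuotientGroup.mk'_surjective (MulDistribMulAction.toMulAut H V).ker)
    (fun h v => rfl) S.uS

theorem Setup.nS' (S : Setup H V t s a b A B) : letI := gamAct H V
    ∃ Q : Sylow s (Gam H V), ∃ h ∈ (Q : Subgroup (Gam H V)), ∃ v : V, h • v ≠ v := by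
  obtain ⟨Q, h, hh, v, hv⟩ := S.nS
  exact ⟨img Q, QuotientGroup.mk' _ h, ⟨h, hh, rfl⟩, v, hv⟩

theorem Setup.imgB_normal (S : Setup H V t s a b A B) :
    ((img B : Sylow b (Gam H V)) : Subgroup (Gam H V)).Normal := by
  let _ := gamAct H V
  have hsol := S.sol
  refine sylow_b_normal (V := V) (a := a) (b := b) (s := s) inferInstance gam_faithful S.primes (img A) (img B) ?_ ?_
    S.uS'
  · rintro _ ⟨x, hx, rfl⟩ _ ⟨y, hy, rfl⟩
    rw [← map_mul, ← map_mul]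
    exact congrArg _ (S.hBc x hx y hy)
  · rintro _ ⟨x, hx, rfl⟩ _ ⟨y, hy, rfl⟩
    rw [← map_mul, ← map_mul]
    exact congrArg _ (S.hAB x hx y hy)

/-- all Sylow `b`-subgroups induce the same group on `V`. -/
theorem Setup.same (S : Setup H V t s a b A B) (B' : Sylow b H) :
    ∀ β ∈ (B : Subgroup H), ∃ β' ∈ (B' : Subgroup H), ∀ v : V, (β'⁻¹ * β) • v = v := by
  intro β hβ
  have := Sylow.unique_of_normal _ S.imgB_normal
  have h1 : (img B' : Sylow b (Gam H V)) = img B := Subsingleton.elim _ _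
  have h2 : QuotientGroup.mk' (MulDistribMulAction.toMulAut H V).ker β ∈ (img B' : Sylow b (Gam H V)) := by
    rw [h1]
    exact ⟨β, hβ, rfl⟩
  obtain ⟨β', hβ', h3⟩ := h2
  refine ⟨β', hβ', fun v => ?_⟩
  have h4 : β'⁻¹ * β ∈ (MulDistribMulAction.toMulAut H V).ker := QuotientGroup.eq.1 h3
  rw [MonoidHom.mem_ker] at h4
  exact DFunLike.congr_fun h4 v

theorem mem_E (Z : Subgroup H) (hAZ : (A : Subgroup H) ≤ Z) (hBZ : (B : Subgroup H) ≤ Z)
    (S : Setup H V t s a b A B) {d : Gam H V}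
    (hd : d ∈ ((img A : Sylow a (Gam H V)) : Subgroup (Gam H V)) ⊔ ((img B : Sylow b (Gam H V)) : Subgroup (Gam H V))) :
    ∃ h ∈ Z, QuotientGroup.mk' (MulDistribMulAction.toMulAut H V).ker h = d := by
  have := S.img_normal
  obtain ⟨_, ⟨x, hx, rfl⟩, _, ⟨y, hy, rfl⟩, rfl⟩ := Subgroup.mem_sup_of_normal_left.1 hd
  exact ⟨x * y, Z.mul_mem (hAZ hx) (hBZ hy), map_mul _ _ _⟩

theorem Setup.E_comm (S : Setup H V t s a b A B) :
    ∀ x ∈ ((img A : Sylow a (Gam H V)) : Subgroup (Gam H V)) ⊔ ((img B : Sylow b (Gam H V)) : Subgroup (Gam H V)),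
    ∀ y ∈ ((img A : Sylow a (Gam H V)) : Subgroup (Gam H V)) ⊔ ((img B : Sylow b (Gam H V)) : Subgroup (Gam H V)),
      x * y = y * x := by
  refine sup_abelian S.img_normal ?_ ?_ ?_
  · rintro _ ⟨x, hx, rfl⟩ _ ⟨y, hy, rfl⟩
    rw [← map_mul, ← map_mul]
    exact congrArg _ (S.hAc x hx y hy)
  · rintro _ ⟨x, hx, rfl⟩ _ ⟨y, hy, rfl⟩
    rw [← map_mul, ← map_mul]
    exact congrArg _ (S.hBc x hx y hy)
  · rintro _ ⟨x, hx, rfl⟩ _ ⟨y, hy, rfl⟩
    rw [← map_mul, ← map_mul]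
    exact congrArg _ (S.hAB x hx y hy)

theorem Setup.tGam (S : Setup H V t s a b A B) : ¬ t ∣ Nat.card (Gam H V) := by
  intro h
  apply S.htH
  have h0 : Nat.card (Gam H V) = (MulDistribMulAction.toMulAut H V).ker.index := (Subgroup.index_eq_card _).symm
  rw [h0] at h
  exact h.trans (Subgroup.index_dvd_card _)

/-- irreducibility -/
theorem Setup.irr (hI : IrrU.{u, v}) (S : Setup H V t s a b A B) (Z : Subgroup H) (hAZ : (A : Subgroup H) ≤ Z)
    (hBZ : (B : Subgroup H) ≤ Z) (W : Subgroup V) (hW : ∀ h ∈ Z, ∀ w ∈ W, h • w ∈ W) : W = ⊥ ∨ W = ⊤ := by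
  let _ := gamAct H V
  have h1 := S.img_normal
  have h2 := S.imgB_normal
  refine hI (Gam H V) V t s S.hV S.tGam
    (((img A : Sylow a (Gam H V)) : Subgroup (Gam H V)) ⊔ ((img B : Sylow b (Gam H V)) : Subgroup (Gam H V)))
    (sup_index S.primes (img A) (img B)) (sup_card hs.out S.hsa S.hsb (img A) (img B) h1) S.uS' S.nS' W ?_
  intro d hd w hw
  obtain ⟨h, hh, rfl⟩ := mem_E Z hAZ hBZ S hd
  exact hW h hh w hw

/-- no invariant form -/
theorem Setup.endgame (hE : EndG.{u, v}) (S : Setup H V t s a b A B) (Z : Subgroup H) (hAZ : (A : Subgroup H) ≤ Z)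
    (hBZ : (B : Subgroup H) ≤ Z) (g : V →* V →* ℂˣ) (halt : ∀ x, g x x = 1)
    (hinv : ∀ h ∈ Z, ∀ x x' : V, g (h • x) (h • x') = g x x') (hg : g ≠ 1) : False := by
  let _ := gamAct H V
  have h1 := S.img_normal
  have h2 := S.imgB_normal
  refine hE (Gam H V) V t s S.hts S.hV gam_faithful S.tGam
    (((img A : Sylow a (Gam H V)) : Subgroup (Gam H V)) ⊔ ((img B : Sylow b (Gam H V)) : Subgroup (Gam H V)))
    S.E_comm
    (sup_index S.primes (img A) (img B)) (sup_card hs.out S.hsa S.hsb (img A) (img B) h1) S.uS' S.nS' g halt ?_ hg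
  intro d hd x x'
  obtain ⟨h, hh, rfl⟩ := mem_E Z hAZ hBZ S hd
  exact hinv h hh x x'

end

end Core

end Cfsg.Agent.H988.DG.Solv
end

-- part: H988/DG/SolvF
section
/-!
# Two disjoint edges: end of the second case (helper988)
-/

set_option autoImplicit false
set_option linter.unusedSectionVars false

namespace Cfsg.Agent.H988.DG.Solv

open Cfsg Cfsg.Agent.Characters.Core Cfsg.Agent.OddOrderCharacters.IndRes
  Cfsg.Agent.OddOrderCharacters.NormalInduced Cfsg.Agent.OddOrderCharacters.PF9.CliffGen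
  Cfsg.Agent.H681.DegBasic Cfsg.Agent.H748.Palfy
open Cfsg.Agent.H273.Palfy (UniqueSylow)
open scoped commutatorElement

universe u v

section

variable {G : Type u} [Group G] [Finite G]

variable {t : ℕ} {P N H : Subgroup G} [hPn : P.Normal] [hNn : N.Normal]

variable {a : ℕ} {A : Sylow a ↥H}

theorem AC.Vc_inv (C : AC a P N H A) : letI := linAct P H
    ∀ h : H, ∀ μ ∈ Vc (Dc P (A : Subgroup H)), h • μ ∈ Vc (Dc P (A : Subgroup H)) := by
  intro h μ hμ k hk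
  have h0 : (letI := linAct P H; h • μ) k = _ := linAct_apply P H h μ k
  rw [h0]
  have h1 := hμ _ (C.conj_D (H.inv_mem h.2) hk)
  rw [← h1]
  congr 1
  apply Subtype.ext
  change (h : G)⁻¹ * k * h = (h : G)⁻¹ * k * (h : G)⁻¹⁻¹
  rw [inv_inv]

/-- the action of `H` on the characters trivial on `D` -/
@[reducible] noncomputable def AC.act (C : AC a P N H A) :
    MulDistribMulAction ↥H ↥(Vc (Dc P (A : Subgroup H))) :=
  letI := linAct P H
  subAct _ C.Vc_inv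

seal _root_.Complex.mulAux in
theorem AC.act_coe (C : AC a P N H A) (h : H) (μ : ↥(Vc (Dc P (A : Subgroup H)))) (y : ↥P) :
    ((letI := C.act; h • μ : ↥(Vc (Dc P (A : Subgroup H)))) : ↥P →* ℂˣ) y =
      (μ : ↥P →* ℂˣ) ⟨(h : G)⁻¹ * y * (h : G), by simpa only [_root_.inv_inv] using hPn.conj_mem y y.2 (h : G)⁻¹⟩ :=
  linAct_apply P H h (μ : ↥P →* ℂˣ) y

theorem AC.act_iff (C : AC a P N H A) (h : H) (μ : ↥(Vc (Dc P (A : Subgroup H)))) :
    letI := C.act
    h • μ = μ ↔ (h : G) ∈ stab P H (fun n => ((μ : ↥P →* ℂˣ) n : ℂ)) := by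
  rw [← smul_eq_iff P H h (μ : ↥P →* ℂˣ), Subtype.ext_iff]
  exact Iff.rfl

theorem AC.pow_mem [ht : Fact t.Prime] [ha : Fact a.Prime] (C : AC a P N H A) (B : BX t P N H)
    (hp : ∀ d ∈ charDegrees G, t ∣ d → ¬ a ∣ d) (y : ↥P) : y ^ t ∈ Dc P (A : Subgroup H) := by
  obtain ⟨l, hl⟩ := exists_lin_ne_one B.hN B.hN1
  refine C.radical B hp hl ?_
  rw [map_pow]
  ext x
  rw [MonoidHom.pow_apply, pair_apply, ← map_pow]
  have : (⟨x * y * (x : G)⁻¹ * (y : G)⁻¹, B.hPcN x x.2 y y.2⟩ : N) ^ t = 1 := Subtype.ext (B.hNt _ (B.hPcN x x.2 y y.2))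
  rw [this, map_one]
  rfl

theorem AC.exponent [ht : Fact t.Prime] [ha : Fact a.Prime] (C : AC a P N H A) (B : BX t P N H)
    (hp : ∀ d ∈ charDegrees G, t ∣ d → ¬ a ∣ d) (μ : ↥(Vc (Dc P (A : Subgroup H)))) : μ ^ t = 1 := by
  apply Subtype.ext
  ext y
  have h1 := μ.2 _ (C.pow_mem B hp y)
  change ((((μ : ↥P →* ℂˣ) ^ t) y : ℂˣ) : ℂ) = 1
  rw [MonoidHom.pow_apply, ← map_pow, h1, Units.val_one]

theorem AC.exists_ne [ht : Fact t.Prime] [ha : Fact a.Prime] (C : AC a P N H A) (B : BX t P N H)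
    (hp : ∀ d ∈ charDegrees G, t ∣ d → ¬ a ∣ d) : ∃ μ : ↥(Vc (Dc P (A : Subgroup H))), μ ≠ 1 := by
  obtain ⟨l, hl⟩ := exists_lin_ne_one B.hN B.hN1
  obtain ⟨y, hyU, hyD⟩ := C.exists_U B
  refine ⟨⟨pair B l y, C.pair_mem B l hyU⟩, fun h => hyD (C.radical B hp hl ?_)⟩
  exact congrArg Subtype.val h

variable {s b : ℕ}

theorem AC.unique [ht : Fact t.Prime] [ha : Fact a.Prime] [hs : Fact s.Prime] (c : YC G t s a b) (C : AC a P N H A)
    (B : BX t P N H) : letI := C.act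
    UniqueSylow s ↥H ↥(Vc (Dc P (A : Subgroup H))) := by
  let _ := C.act
  intro μ hμ
  have h1 := dvd_relIndex A C.hA (C.moved B μ.2 (fun h => hμ (Subtype.ext h)))
  obtain ⟨S, h2, h3, h4⟩ := uniq_of_degrees B.solv (stab_le P H (fun n => ((μ : ↥P →* ℂˣ) n : ℂ))) (p := s) (by
    intro d hd hsd
    have h5 := degree_linear B.hPH B.hPH' (μ : ↥P →* ℂˣ) hd
    rcases c.rot.of_t ha.out h5 (dvd_mul_of_dvd_left h1 _) s hs.out hsd with h6 | h6
    · exact c.sa h6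
    · exact c.sb h6)
  exact ⟨S, h2, fun x hx => (C.act_iff x μ).2 (h3 x hx), fun T hT => h4 T fun x hx => (C.act_iff x μ).1 (hT x hx)⟩

seal _root_.Complex.mulAux in
theorem AC.nontriv [ht : Fact t.Prime] [ha : Fact a.Prime] [hs : Fact s.Prime] (c : YC G t s a b) (C : AC a P N H A)
    (B : BX t P N H) (hsP : ¬ s ∣ Nat.card P) : letI := C.act
    ∃ S : Sylow s H, ∃ h ∈ (S : Subgroup H), ∃ v : ↥(Vc (Dc P (A : Subgroup H))), h • v ≠ v := by
  let _ := C.act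
  by_contra hcon
  push Not at hcon
  obtain ⟨μ, hμ⟩ := C.exists_ne B (c.not_a ht.out ha.out)
  obtain ⟨S, h1, h2, h3⟩ := C.unique c B μ hμ
  have hall : ∀ T : Sylow s H, T = S := fun T => h3 T fun x hx => hcon T x hx μ
  have hSn : (S : Subgroup H).Normal := by
    rw [← Subgroup.normalizer_eq_top_iff, Sylow.coe_coe, ← Sylow.stabilizer_eq_normalizer, eq_top_iff]
    intro g _
    rw [MulAction.mem_stabilizer_iff, hall (g • S)]
  obtain ⟨μ2, hμ2⟩ := B.exists_moved' hsP c.ds S hSn h1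
  obtain ⟨d, hd, had, hsd⟩ := B.degree_of_moved A C.hA S hSn (C.moved B μ.2 (fun h => hμ (Subtype.ext h))) hμ2
  rcases c.rot.of_t ha.out hd had s hs.out hsd with h6 | h6
  · exact c.sa h6
  · exact c.sb h6

theorem conj_calc {X : Type u} [Group X] {k x y z d n : X} (hx : x * y * x⁻¹ * y⁻¹ = n) (e1 : k * x * k⁻¹ = d * x)
    (e2 : k * y * k⁻¹ = z * y) (c1 : Commute d y) (c2 : Commute z x) (c3 : Commute z d) (c4 : Commute z n)
    (c5 : Commute d n) : k * n * k⁻¹ = n := by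
  calc k * n * k⁻¹ = (k * x * k⁻¹) * (k * y * k⁻¹) * (k * x * k⁻¹)⁻¹ * (k * y * k⁻¹)⁻¹ := by rw [← hx]; group
    _ = (d * x) * (z * y) * (d * x)⁻¹ * (z * y)⁻¹ := by rw [e1, e2]
    _ = d * ((x * z) * y * x⁻¹) * d⁻¹ * (z * y)⁻¹ := by group
    _ = d * ((z * x) * y * x⁻¹) * d⁻¹ * (z * y)⁻¹ := by rw [c2.eq]
    _ = d * z * ((x * y * x⁻¹ * y⁻¹) * y) * d⁻¹ * (z * y)⁻¹ := by group
    _ = d * z * (n * y) * d⁻¹ * (z * y)⁻¹ := by rw [hx]
    _ = (d * z) * (n * (y * d⁻¹)) * (z * y)⁻¹ := by group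
    _ = (z * d) * (n * (d⁻¹ * y)) * (z * y)⁻¹ := by rw [c3.eq, c1.inv_left.eq]
    _ = z * ((d * n) * d⁻¹) * z⁻¹ := by group
    _ = z * n * z⁻¹ := by rw [c5.eq, mul_inv_cancel_right]
    _ = n := by rw [c4.eq, mul_inv_cancel_right]

/-- an element of `H` acting trivially on the characters trivial on `D` centralises `N`. -/
theorem AC.kernel_central [ht : Fact t.Prime] [ha : Fact a.Prime] (C : AC a P N H A) (B : BX t P N H)
    (hp : ∀ d ∈ charDegrees G, t ∣ d → ¬ a ∣ d) {k : ↥H}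
    (hk : ∀ μ ∈ Vc (Dc P (A : Subgroup H)), (k : G) ∈ stab P H (fun n => (μ n : ℂ))) :
    ∀ n ∈ N, (k : G) * n = n * k := by
  obtain ⟨y, hyU, hyD⟩ := C.exists_U B
  have hDn := C.normal B
  have hmod : ∀ x : ↥P, (⟨(k : G) * x * (k : G)⁻¹, hPn.conj_mem x x.2 k⟩ * x⁻¹ : ↥P) ∈ Dc P (A : Subgroup H) := by
    intro x
    by_contra hcon
    obtain ⟨μ, hμ1, hμ2⟩ := exists_lin (Dc P (A : Subgroup H)) (C.comm_mem B) hcon
    apply hμ1
    rw [map_mul, map_inv, (mem_stab_lin.1 (hk μ hμ2)).2 x, mul_inv_cancel]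
  intro n hn
  obtain ⟨x, hx⟩ := C.comm_surj B hp hyD n hn
  -- images of `x` and `y`
  set d1 : ↥P := ⟨(k : G) * x * (k : G)⁻¹, hPn.conj_mem x x.2 k⟩ * x⁻¹ with hd1
  set z : ↥P := ⟨(k : G) * y * (k : G)⁻¹, hPn.conj_mem y y.2 k⟩ * y⁻¹ with hz
  have hzD : z ∈ Dc P (A : Subgroup H) := hmod y
  have hzU : z ∈ Uc (Dc P (A : Subgroup H)) := Subgroup.mul_mem _ (C.conj_U k.2 hyU) (Subgroup.inv_mem _ hyU)
  have hzc := C.central B hzU hzD
  have hd1D : d1 ∈ Dc P (A : Subgroup H) := hmod x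
  have e1 : (k : G) * x * (k : G)⁻¹ = d1 * x := by
    rw [hd1]
    change (k : G) * x * (k : G)⁻¹ = ((k : G) * x * (k : G)⁻¹ * (x : G)⁻¹) * x
    group
  have e2 : (k : G) * y * (k : G)⁻¹ = z * y := by
    rw [hz]
    change (k : G) * y * (k : G)⁻¹ = ((k : G) * y * (k : G)⁻¹ * (y : G)⁻¹) * y
    group
  have c1 : Commute (d1 : G) y := by
    have := congrArg Subtype.val (hyU d1 hd1D)
    exact this
  have cz : ∀ w : ↥P, Commute (z : G) w := by
    intro w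
    have := congrArg Subtype.val (hzc w)
    exact this.symm
  have hnc : Commute (d1 : G) n := B.hNz d1 d1.2 n hn
  have e3 : (k : G) * n * (k : G)⁻¹ = n :=
    conj_calc hx e1 e2 c1 (cz x) (cz d1) (cz ⟨n, B.hNP hn⟩) hnc
  calc (k : G) * n = ((k : G) * n * (k : G)⁻¹) * k := by group
    _ = n * k := by rw [e3]

end

end Cfsg.Agent.H988.DG.Solv
end

-- part: H988/DG/SolvG
section
/-!
# Two disjoint edges do not occur for solvable groups (helper988)
-/

set_option autoImplicit false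
set_option linter.unusedSectionVars false

namespace Cfsg.Agent.H988.DG.Solv

open Cfsg Cfsg.Agent.Characters.Core Cfsg.Agent.OddOrderCharacters.IndRes
  Cfsg.Agent.OddOrderCharacters.NormalInduced Cfsg.Agent.OddOrderCharacters.PF9.CliffGen
  Cfsg.Agent.H681.DegBasic Cfsg.Agent.H748.Palfy
open Cfsg.Agent.H273.Palfy (UniqueSylow)
open scoped commutatorElement

universe u v

section

variable {G : Type u} [Group G] [Finite G]

variable {t : ℕ} {P N H : Subgroup G} [hPn : P.Normal] [hNn : N.Normal]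

theorem BX.t_not_dvd [ht : Fact t.Prime] (B : BX t P N H) : ¬ t ∣ Nat.card H := by
  intro h
  have h1 : t ∣ Nat.card P := by
    obtain ⟨k, hk⟩ := IsPGroup.iff_card.1 B.hP
    rw [hk]
    have : k ≠ 0 := by
      rintro rfl
      rw [pow_zero] at hk
      have h2 : P = ⊥ := Subgroup.card_eq_one.1 hk
      exact B.hN1 (le_bot_iff.1 (h2 ▸ B.hNP))
    exact dvd_pow_self t this
  have h2 := Nat.dvd_gcd h1 h
  rw [B.hcop] at h2
  exact ht.out.one_lt.ne' (Nat.dvd_one.1 h2)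

theorem BX.not_dvd_P [ht : Fact t.Prime] (B : BX t P N H) {x : ℕ} (hx : x.Prime) (hxt : x ≠ t) : ¬ x ∣ Nat.card P := by
  intro h
  obtain ⟨k, hk⟩ := IsPGroup.iff_card.1 B.hP
  rw [hk] at h
  exact hxt ((Nat.prime_dvd_prime_iff_eq hx ht.out).1 (hx.dvd_of_dvd_pow h))

variable {a : ℕ} {A : Sylow a ↥H}

/-- the centraliser of `N` in `H` -/
def Zc (N H : Subgroup G) : Subgroup ↥H where
  carrier := {h | ∀ n ∈ N, (h : G) * n = n * h}
  one_mem' := by
    intro n _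
    rw [OneMemClass.coe_one, mul_one, one_mul]
  mul_mem' := by
    intro x y hx hy n hn
    rw [Subgroup.coe_mul, mul_assoc, hy n hn, ← mul_assoc, hx n hn, mul_assoc]
  inv_mem' := by
    intro x hx n hn
    have h1 := hx n hn
    rw [Subgroup.coe_inv]
    calc (x : G)⁻¹ * n = (x : G)⁻¹ * (n * x) * (x : G)⁻¹ := by group
      _ = (x : G)⁻¹ * (x * n) * (x : G)⁻¹ := by rw [h1]
      _ = n * (x : G)⁻¹ := by group

/-- the pairing as a map to the characters trivial on `D` -/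
noncomputable def AC.Psi (C : AC a P N H A) (B : BX t P N H) (l : ↥N →* ℂˣ) :
    ↥(Uc (Dc P (A : Subgroup H))) →* ↥(Vc (Dc P (A : Subgroup H))) :=
  ((pair B l).comp (Uc (Dc P (A : Subgroup H))).subtype).codRestrict _ (fun y => C.pair_mem B l y.2)

theorem AC.Psi_apply (C : AC a P N H A) (B : BX t P N H) (l : ↥N →* ℂˣ) (y : ↥(Uc (Dc P (A : Subgroup H)))) (x : ↥P) :
    (C.Psi B l y : ↥P →* ℂˣ) x = pair B l y x := rfl

theorem AC.Psi_conj (C : AC a P N H A) (B : BX t P N H) (l : ↥N →* ℂˣ) {h : ↥H} (hh : h ∈ Zc N H)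
    (y : ↥(Uc (Dc P (A : Subgroup H)))) : letI := C.act
    h • C.Psi B l y = C.Psi B l ⟨_, C.conj_U h.2 y.2⟩ := by
  let _ := C.act
  apply Subtype.ext
  ext x
  have e1 := C.act_coe h (C.Psi B l y) x
  rw [e1, C.Psi_apply, C.Psi_apply, pair_apply, pair_apply]
  congr 2
  apply Subtype.ext
  change (h : G)⁻¹ * x * h * ((y : ↥P) : G) * ((h : G)⁻¹ * x * h)⁻¹ * ((y : ↥P) : G)⁻¹ =
    x * (h * ((y : ↥P) : G) * (h : G)⁻¹) * (x : G)⁻¹ * (h * ((y : ↥P) : G) * (h : G)⁻¹)⁻¹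
  have hm : (h : G)⁻¹ * x * h * ((y : ↥P) : G) * ((h : G)⁻¹ * x * h)⁻¹ * ((y : ↥P) : G)⁻¹ ∈ N := by
    have h1 : (h : G)⁻¹ * x * h ∈ P := by
      have := hPn.conj_mem x x.2 (h : G)⁻¹
      rwa [inv_inv] at this
    exact B.hPcN _ h1 _ (y : ↥P).2
  have h2 := hh _ hm
  have h3 : ((x : G) * ((h : G) * ((y : ↥P) : G) * (h : G)⁻¹) * (x : G)⁻¹ * ((h : G) * ((y : ↥P) : G) * (h : G)⁻¹)⁻¹) =
      (h : G) * ((h : G)⁻¹ * x * h * ((y : ↥P) : G) * ((h : G)⁻¹ * x * h)⁻¹ * ((y : ↥P) : G)⁻¹) * (h : G)⁻¹ := by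
    group
  rw [h3, h2, mul_inv_cancel_right]

variable {s b : ℕ}

theorem caseII (hI : IrrU.{u, u}) (hE : EndG.{u, u}) [ht : Fact t.Prime] [hs : Fact s.Prime] [ha : Fact a.Prime]
    [hb : Fact b.Prime] (c : YC G t s a b) (B : BX t P N H) (A : Sylow a ↥H)
    (C : AC a P N H A) (uB : letI := linAct N H
      UniqueSylow b ↥H (↥N →* ℂˣ)) : False := by
  have hp := c.not_a ht.out ha.out
  have hsolv := B.solv
  have hsP : ¬ s ∣ Nat.card P := B.not_dvd_P hs.out c.ts.symm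
  have htH := B.t_not_dvd
  obtain ⟨l0, hl0⟩ := exists_lin_ne_one B.hN B.hN1
  have hfinP : Finite (↥P →* ℂˣ) := finite_lin
  have hfinN : Finite (↥N →* ℂˣ) := finite_lin
  have hntN : Nontrivial (↥N →* ℂˣ) := ⟨l0, 1, hl0⟩
  -- the Sylow `b`-subgroup fixing `l0`
  obtain ⟨B0, hB0c, hB0, hB0u⟩ := uB l0 hl0
  have hAB : ∀ x ∈ (A : Subgroup H), ∀ y ∈ (B0 : Subgroup H), x * y = y * x := by
    have := Sylow.unique_of_normal _ C.hA
    let _ := linAct N H
    refine Cfsg.Agent.H273.PalfyKP.commute_of_unique (V := ↥N →* ℂˣ) c.ab (v := l0) ?_ (fun C' _ => Subsingleton.elim _ _)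
      hB0 hB0u
    intro x hx
    rw [smul_eq_iff N H x l0, mem_stab]
    refine ⟨x.2, fun n => ?_⟩
    congr 2
    apply Subtype.ext
    change (x : G) * n * (x : G)⁻¹ = n
    rw [C.hAN x hx n n.2, mul_inv_cancel_right]
  have hnt : Nontrivial ↥(Vc (Dc P (A : Subgroup H))) := by
    obtain ⟨μ, hμ⟩ := C.exists_ne B hp
    exact ⟨μ, 1, hμ⟩
  let _ := C.act
  have S : Setup ↥H ↥(Vc (Dc P (A : Subgroup H))) t s a b A B0 :=
    { sol := inferInstance
      hV := C.exponent B hp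
      htH := htH
      hother := by
        intro x hx hxa hxb hxs hxH Q q hq v
        have : Fact x.Prime := ⟨hx⟩
        have hxt : x ≠ t := by
          rintro rfl
          exact htH hxH
        have h1 := B.other_primes (B.not_dvd_P hx hxt) (by
          intro d hd hxd
          rcases c.deg d hd with h | h
          · rcases h x hx hxd with h2 | h2
            · exact hxt h2
            · exact hxs h2
          · rcases h x hx hxd with h2 | h2
            · exact hxa h2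
            · exact hxb h2) Q q hq
        rw [C.act_iff, mem_stab_lin]
        refine ⟨q.2, fun y => ?_⟩
        congr 1
        apply Subtype.ext
        change (q : G) * y * (q : G)⁻¹ = y
        rw [h1 y y.2, mul_inv_cancel_right]
      hA := C.hA
      hAc := fun x hx y hy => congrArg Subtype.val (C.hAc.is_comm.comm (⟨x, hx⟩ : (A : Subgroup H)) ⟨y, hy⟩)
      hBc := fun x hx y hy => congrArg Subtype.val (hB0c.is_comm.comm (⟨x, hx⟩ : (B0 : Subgroup H)) ⟨y, hy⟩)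
      hAB := hAB
      uS := C.unique c B
      nS := C.nontriv c B hsP
      hts := c.ts
      hsa := c.sa
      hsb := c.sb }
  -- `B0` centralises `N`
  have hBN : ∀ β ∈ (B0 : Subgroup H), ∀ n ∈ N, (β : G) * n = n * β := by
    intro β hβ
    refine comm_of_lin (H := H) B.hN (β : G) (fun l n => ?_)
    by_cases hl : l = 1
    · rw [hl]; rfl
    obtain ⟨B', -, hB', -⟩ := uB l hl
    obtain ⟨β', hβ', h1⟩ := S.same B' β hβ
    have h2 := C.kernel_central B hp (k := β'⁻¹ * β) (fun μ hμ => (C.act_iff _ ⟨μ, hμ⟩).1 (h1 ⟨μ, hμ⟩))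
    have h3 := (mem_stab.1 ((smul_eq_iff N H β' l).1 (hB' β' hβ'))).2 n
    have h4 := h2 n n.2
    have h5 : (β : G) * n * (β : G)⁻¹ = β' * n * (β' : G)⁻¹ := by
      have h6 : ((β'⁻¹ * β : H) : G) = (β' : G)⁻¹ * β := rfl
      rw [h6] at h4
      calc (β : G) * n * (β : G)⁻¹ = β' * (((β' : G)⁻¹ * β) * n) * (β : G)⁻¹ := by group
        _ = β' * (n * ((β' : G)⁻¹ * β)) * (β : G)⁻¹ := by rw [h4]
        _ = β' * n * (β' : G)⁻¹ := by group
    have h7 : (⟨(β : G) * n * (β : G)⁻¹, hNn.conj_mem n n.2 β⟩ : N) = ⟨β' * n * (β' : G)⁻¹, hNn.conj_mem n n.2 β'⟩ :=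
      Subtype.ext h5
    rw [h7]
    exact Units.ext h3
  have hAZ : (A : Subgroup H) ≤ Zc N H := fun x hx => C.hAN x hx
  have hBZ : (B0 : Subgroup H) ≤ Zc N H := fun x hx => hBN x hx
  -- surjectivity of the pairing
  obtain ⟨y0, hy0U, hy0D⟩ := C.exists_U B
  have hrange : (C.Psi B l0).range = ⊤ := by
    refine (S.irr hI (Zc N H) hAZ hBZ (C.Psi B l0).range ?_).resolve_left ?_
    · rintro h hh _ ⟨y, rfl⟩
      have h1 := C.Psi_conj B l0 hh y
      rw [h1]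
      exact ⟨_, rfl⟩
    · intro hbot
      apply hy0D
      refine C.radical B hp hl0 ?_
      have h1 : C.Psi B l0 ⟨y0, hy0U⟩ ∈ (C.Psi B l0).range := ⟨_, rfl⟩
      rw [hbot, Subgroup.mem_bot] at h1
      exact congrArg Subtype.val h1
  have hsurj : Function.Surjective (C.Psi B l0) := MonoidHom.range_eq_top.1 hrange
  let r : ↥(Vc (Dc P (A : Subgroup H))) → ↥(Uc (Dc P (A : Subgroup H))) := Function.surjInv hsurj
  have hr : ∀ ν, C.Psi B l0 (r ν) = ν := Function.surjInv_eq hsurj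
  have key : ∀ y y' : ↥(Uc (Dc P (A : Subgroup H))), C.Psi B l0 y = C.Psi B l0 y' →
      ∀ μ : ↥(Vc (Dc P (A : Subgroup H))), (μ : ↥P →* ℂˣ) y = (μ : ↥P →* ℂˣ) y' := by
    intro y y' h μ
    have h1 : C.Psi B l0 (y * y'⁻¹) = 1 := by rw [map_mul, map_inv, h, mul_inv_cancel]
    have h2 : (y : ↥P) * (y' : ↥P)⁻¹ ∈ Dc P (A : Subgroup H) :=
      C.radical B hp hl0 (congrArg Subtype.val h1)
    have h3 := μ.2 _ h2
    rw [map_mul, map_inv] at h3
    exact mul_inv_eq_one.1 h3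
  let g : ↥(Vc (Dc P (A : Subgroup H))) →* ↥(Vc (Dc P (A : Subgroup H))) →* ℂˣ :=
    { toFun := fun μ =>
        { toFun := fun ν => (μ : ↥P →* ℂˣ) (r ν)
          map_one' := by
            rw [key (r 1) 1 (by rw [hr, map_one]) μ]
            exact map_one _
          map_mul' := by
            intro ν ν'
            rw [key (r (ν * ν')) (r ν * r ν') (by rw [hr, map_mul, hr, hr]) μ]
            exact map_mul _ _ _ }
      map_one' := rfl
      map_mul' := fun _ _ => rfl }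
  have hg : ∀ μ ν, g μ ν = (μ : ↥P →* ℂˣ) (r ν) := fun _ _ => rfl
  refine S.endgame hE (Zc N H) hAZ hBZ g ?_ ?_ ?_
  · intro x
    rw [hg]
    have h1 : (C.Psi B l0 (r x) : ↥P →* ℂˣ) (r x) = 1 := pair_self B l0 _
    rwa [hr] at h1
  · intro h hh x x'
    rw [hg, hg]
    have h1 : C.Psi B l0 ((r (h • x') :)) = C.Psi B l0 ⟨_, C.conj_U h.2 (r x').2⟩ := by
      rw [hr, ← C.Psi_conj B l0 hh, hr]
    rw [key _ _ h1]
    have h2 := C.act_coe h x (⟨h * r x' * (h : G)⁻¹, hPn.conj_mem _ (r x' : ↥P).2 h⟩ : ↥P)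
    refine h2.trans ?_
    congr 1
    apply Subtype.ext
    change (h : G)⁻¹ * (h * (r x' : ↥P) * (h : G)⁻¹) * h = (r x' : ↥P)
    group
  · intro h1
    have hDn := C.normal B
    obtain ⟨μ, hμ1, hμ2⟩ := exists_lin (Dc P (A : Subgroup H)) (C.comm_mem B) hy0D
    apply hμ1
    have h2 : g ⟨μ, hμ2⟩ (C.Psi B l0 ⟨y0, hy0U⟩) = 1 := by rw [h1]; rfl
    rw [hg, key _ ⟨y0, hy0U⟩ (hr _)] at h2
    exact h2

end

end Cfsg.Agent.H988.DG.Solv
end

-- part: H988/DG/SolvH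
section
/-!
# Two disjoint edges do not occur for solvable groups: induction (helper988)
-/

set_option autoImplicit false
set_option linter.unusedSectionVars false

namespace Cfsg.Agent.H988.DG.Solv

open Cfsg Cfsg.Agent.Characters.Core Cfsg.Agent.OddOrderCharacters.IndRes
  Cfsg.Agent.OddOrderCharacters.NormalInduced Cfsg.Agent.OddOrderCharacters.PF9.CliffGen
  Cfsg.Agent.H681.DegBasic
open Cfsg.Agent.H748.Palfy hiding caseA caseB step main
open Cfsg.Agent.H273.Palfy (UniqueSylow)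
open scoped commutatorElement

universe u v

section

variable {G : Type u} [Group G] [Finite G]

/-- the case of a minimal normal `t`-subgroup -/
theorem caseB (hZ : LemZ.{u, u}) (hI : IrrU.{u, u}) (hE : EndG.{u, u}) {t s a b : ℕ} [ht : Fact t.Prime]
    [hs : Fact s.Prime] [ha : Fact a.Prime] [hb : Fact b.Prime]
    (c : YC G t s a b) (N : Subgroup G) [hNn : N.Normal]
    (hN1 : N ≠ ⊥) (hmin : ∀ K : Subgroup G, K.Normal → K ≤ N → K = ⊥ ∨ K = N)
    (hNt : ∀ x ∈ N, x ^ t = 1) (hNp : IsPGroup t N)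
    (hq : ∀ d ∈ charDegrees (G ⧸ N), ¬ t ∣ d) : False := by
  classical
  have hsolv := c.solv
  let P0 : Sylow t G := default
  have hQ := ito_michler (X := G ⧸ N) inferInstance hq (P0.mapSurjective (QuotientGroup.mk'_surjective N))
  have hNP : N ≤ (P0 : Subgroup G) := hNp.le_sylow_of_normal P0
  have hPn : (P0 : Subgroup G).Normal := by
    have h1 : ((P0 : Subgroup G).map (QuotientGroup.mk' N)).Normal := hQ.1
    have h2 := h1.comap (QuotientGroup.mk' N)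
    rwa [Subgroup.comap_map_eq, QuotientGroup.ker_mk', sup_eq_left.2 hNP] at h2
  have hPcN : ∀ x ∈ (P0 : Subgroup G), ∀ y ∈ (P0 : Subgroup G), x * y * x⁻¹ * y⁻¹ ∈ N := by
    intro x hx y hy
    have h1 := hQ.2 (QuotientGroup.mk' N x) ⟨x, hx, rfl⟩ (QuotientGroup.mk' N y) ⟨y, hy, rfl⟩
    rw [← QuotientGroup.ker_mk' N, MonoidHom.mem_ker]
    rw [map_mul, map_mul, map_mul, map_inv, map_inv, h1]
    group
  have hcopidx : (Nat.card (P0 : Subgroup G)).Coprime (P0 : Subgroup G).index := by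
    obtain ⟨n, hn⟩ := IsPGroup.iff_card.1 P0.isPGroup'
    have h3 : Nat.card (P0 : Subgroup G) = t ^ n := hn
    rw [h3]
    exact ((Nat.Prime.coprime_iff_not_dvd ht.out).2 P0.not_dvd_index).pow_left n
  obtain ⟨H, hH⟩ := Subgroup.exists_right_complement'_of_coprime hcopidx
  have hcardH : Nat.card H = (P0 : Subgroup G).index := hH.symm.index_eq_card.symm
  have B : BX t (P0 : Subgroup G) N H :=
    { solv := c.solv
      hP := P0.isPGroup'
      hPH := hH.disjoint.eq_bot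
      hPH' := hH.sup_eq_top
      hcop := by rw [hcardH]; exact hcopidx
      hNP := hNP
      hPcN := hPcN
      hNz := central_of_min P0.isPGroup' hNP hN1 hmin
      hN1 := hN1
      hmin := hmin
      hNt := hNt
      hna := by
        by_contra hcon
        push Not at hcon
        exact false_of_sylow P0 hPn hcon c.dt }
  have uA := uniqueSylow_of hsolv N H (p := a) (B.not_dvd (c.not_a ht.out ha.out))
  have uB := uniqueSylow_of hsolv N H (p := b) (B.not_dvd (c.not_b ht.out hb.out))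
  by_cases nA : letI := linAct N H
      ∃ A : Sylow a H, ∃ h ∈ (A : Subgroup H), ∃ v : ↥N →* ℂˣ, h • v ≠ v
  · by_cases nB : letI := linAct N H
        ∃ A : Sylow b H, ∃ h ∈ (A : Subgroup H), ∃ v : ↥N →* ℂˣ, h • v ≠ v
    · -- the linear group lemma
      have hfin : Finite (↥N →* ℂˣ) := finite_lin
      have hnt : Nontrivial (↥N →* ℂˣ) := by
        rw [← Finite.one_lt_card_iff_nontrivial, card_lin B.hN]
        exact (Subgroup.one_lt_card_iff_ne_bot N).2 hN1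
      obtain ⟨l, hl⟩ := exists_lin_ne_one B.hN hN1
      have hprim : ∀ k : ℕ, k ∣ (stab N H (fun n => (l n : ℂ))).relIndex H → ∀ x : ℕ, x.Prime → x ∣ k →
          x = t ∨ x = s := by
        intro k hk x hx hxk
        obtain ⟨θ, hθ, hθl, hst⟩ := B.exists_theta l
        rw [← hst] at hk
        have h1 := B.mem_degrees hθ _root_.Cfsg.Agent.H681.DegBasic.one_mem
        exact c.of_t ht.out h1 (dvd_mul_of_dvd_right (dvd_mul_of_dvd_right (B.dvd_degree hl hθ hθl) _) _) x hx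
          (dvd_mul_of_dvd_left (hxk.trans hk) _)
      have pA := hprim _ (sylow_dvd_of_unique uA hl)
      have pB := hprim _ (sylow_dvd_of_unique uB hl)
      let _ := linAct N H
      exact hZ ↥H (↥N →* ℂˣ) a b t t s inferInstance c.ab (fun v => by
          ext n
          have h1 : n ^ t = 1 := Subtype.ext (hNt n n.2)
          rw [MonoidHom.pow_apply, ← map_pow, h1, map_one]
          rfl) (lin_irr (Or.inr fun x => by
            have hx : x ∈ H ⊔ (P0 : Subgroup G) := by rw [sup_comm, B.hPH']; trivial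
            obtain ⟨h, hh, y, hy, rfl⟩ := Subgroup.mem_sup_of_normal_right.1 hx
            refine ⟨h, hh, fun n hn => ?_⟩
            have h1 := B.hNz y hy n hn
            calc h * y * n * (h * y)⁻¹ = h * (y * n) * y⁻¹ * h⁻¹ := by group
              _ = h * n * h⁻¹ := by rw [h1]; group) B.hN hmin) uA uB nA nB
            c.ta.symm c.sa.symm c.tb.symm c.sb.symm pA pB
    · have h1 := normal_of_trivial B.hN hN1 uB nB default
      exact caseII hI hE c.swap' B default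
        ⟨h1.1, h1.2.1, h1.2.2, B.not_dvd_P hb.out c.tb.symm, c.db⟩ uA
  · have h1 := normal_of_trivial B.hN hN1 uA nA default
    exact caseII hI hE c B default
      ⟨h1.1, h1.2.1, h1.2.2, B.not_dvd_P ha.out c.ta.symm, c.da⟩ uB

end

/-- one step: a minimal normal subgroup `N` such that `t` divides no degree of `G / N` -/
theorem step (hZ : LemZ.{u, u}) (hI : IrrU.{u, u}) (hE : EndG.{u, u}) {G : Type u} [Group G] [Finite G]
    {t s a b : ℕ} [ht : Fact t.Prime] [hs : Fact s.Prime] [ha : Fact a.Prime] [hb : Fact b.Prime]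
    (c : YC G t s a b) (N : Subgroup G) [hNn : N.Normal]
    (hN1 : N ≠ ⊥) (hmin : ∀ K : Subgroup G, K.Normal → K ≤ N → K = ⊥ ∨ K = N)
    {ℓ : ℕ} [hℓ : Fact ℓ.Prime] (hNℓ : IsPGroup ℓ N) (hNc : IsMulCommutative N)
    (hq : ∀ d ∈ charDegrees (G ⧸ N), ¬ t ∣ d) : False := by
  have hN : ∀ x ∈ N, ∀ y ∈ N, x * y = y * x := by
    intro x hx y hy
    exact congrArg Subtype.val (hNc.is_comm.comm (⟨x, hx⟩ : N) ⟨y, hy⟩)
  -- exponent
  have hexp : ∀ x ∈ N, x ^ ℓ = 1 := by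
    let K : Subgroup G :=
      { carrier := {x | x ∈ N ∧ x ^ ℓ = 1}
        one_mem' := ⟨N.one_mem, one_pow _⟩
        mul_mem' := by
          rintro x y ⟨hx, hx'⟩ ⟨hy, hy'⟩
          refine ⟨N.mul_mem hx hy, ?_⟩
          rw [(show Commute x y from hN x hx y hy).mul_pow, hx', hy', one_mul]
        inv_mem' := by
          rintro x ⟨hx, hx'⟩
          exact ⟨N.inv_mem hx, by rw [inv_pow, hx', inv_one]⟩ }
    have hKn : K.Normal := by
      constructor
      rintro x ⟨hx, hx'⟩ g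
      refine ⟨hNn.conj_mem x hx g, ?_⟩
      rw [conj_pow, hx', mul_one, mul_inv_cancel]
    rcases hmin K hKn (fun x hx => hx.1) with h | h
    · exfalso
      have hdvd : ℓ ∣ Nat.card N := by
        obtain ⟨k, hk⟩ := IsPGroup.iff_card.1 hNℓ
        rw [hk]
        have : k ≠ 0 := by
          rintro rfl
          rw [pow_zero] at hk
          exact hN1 (Subgroup.card_eq_one.1 hk)
        exact dvd_pow_self ℓ this
      obtain ⟨x, hx⟩ := exists_prime_orderOf_dvd_card' (G := N) ℓ hdvd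
      have h1 : (x : G) ∈ K := ⟨x.2, by
        have := pow_orderOf_eq_one x
        rw [hx] at this
        exact congrArg Subtype.val this⟩
      rw [h, Subgroup.mem_bot] at h1
      have h2 : x = 1 := Subtype.ext h1
      rw [h2, orderOf_one] at hx
      exact hℓ.out.one_lt.ne hx
    · intro x hx
      have h1 : x ∈ K := by rw [h]; exact hx
      exact h1.2
  by_cases htl : ℓ = t
  · subst htl
    exact caseB hZ hI hE c N hN1 hmin hexp hNℓ hq
  · refine caseA hZ c N hN hN1 hmin (ℓ := ℓ) hexp ?_ hq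
    intro hd
    obtain ⟨n, hn⟩ := IsPGroup.iff_card.1 hNℓ
    rw [hn] at hd
    exact htl ((Nat.prime_dvd_prime_iff_eq ht.out hℓ.out).1 (ht.out.dvd_of_dvd_pow hd)).symm

theorem no_YC (hZ : LemZ.{u, u}) (hI : IrrU.{u, u}) (hE : EndG.{u, u}) (n : ℕ) :
    ∀ (G : Type u) [Group G] [Finite G], Nat.card G ≤ n →
    ∀ {t s a b : ℕ} [Fact t.Prime] [Fact s.Prime] [Fact a.Prime] [Fact b.Prime], YC G t s a b → False := by
  induction n with
  | zero =>
    intro G _ _ hn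
    exact absurd hn (by have := Nat.card_pos (α := G); omega)
  | succ n ih =>
    intro G _ _ hn t s a b ht hs ha hb c
    have hsolv := c.solv
    have hnt : Nontrivial G := by
      by_contra hcon
      rw [not_nontrivial_iff_subsingleton] at hcon
      obtain ⟨d, hd, htd⟩ := c.dt
      have h1 := dvd_card hd
      rw [Nat.card_of_subsingleton (1 : G)] at h1
      exact ht.out.one_lt.ne' (Nat.dvd_one.1 (htd.trans h1))
    obtain ⟨ℓ, N, hℓ, hNn, hNℓ, hNc, hN1, hmin⟩ := Solvable.Carter.exists_min_normal G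
    have : Fact ℓ.Prime := ⟨hℓ⟩
    by_cases ht' : ∀ d ∈ charDegrees (G ⧸ N), ¬ t ∣ d
    · exact step hZ hI hE c N hN1 hmin hNℓ hNc ht'
    by_cases hs' : ∀ d ∈ charDegrees (G ⧸ N), ¬ s ∣ d
    · exact step hZ hI hE c.swap N hN1 hmin hNℓ hNc hs'
    by_cases ha' : ∀ d ∈ charDegrees (G ⧸ N), ¬ a ∣ d
    · exact step hZ hI hE c.rot N hN1 hmin hNℓ hNc ha'
    by_cases hb' : ∀ d ∈ charDegrees (G ⧸ N), ¬ b ∣ d
    · exact step hZ hI hE c.rot.swap N hN1 hmin hNℓ hNc hb'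
    push Not at ht' hs' ha' hb'
    have hcard : Nat.card (G ⧸ N) ≤ n := by
      have h1 := Subgroup.card_eq_card_quotient_mul_card_subgroup N
      have h2 : 1 < Nat.card N := by
        rw [Subgroup.one_lt_card_iff_ne_bot]; exact hN1
      have h3 : 0 < Nat.card (G ⧸ N) := Nat.card_pos
      nlinarith
    have hq : ∀ d ∈ charDegrees (G ⧸ N), d ∈ charDegrees G := fun d hd =>
      charDegrees_comp (QuotientGroup.mk' N) (QuotientGroup.mk'_surjective N) hd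
    exact ih (G ⧸ N) hcard
      ⟨inferInstance, ht', hs', ha', hb', fun d hd => c.deg d (hq d hd), c.ts, c.ab, c.ta, c.tb, c.sa, c.sb⟩

end Cfsg.Agent.H988.DG.Solv
end
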