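import Cfsg.Agent.H671.H5Facts
import Cfsg.Agent.H424.DegTools
import Cfsg.Agent.H113.PSU.Rank3_m3
import Cfsg.Agent.H870.IMFiTwentyTwo
import Cfsg.Agent.H870.IMFiTwentyThree
import Cfsg.Agent.H870.IMRu_m3
import Cfsg.Agent.H843.IMC.Co3A
import Cfsg.Agent.H658.Reg.DegTool
import Cfsg.Agent.H653.Spor.Mathieu
import Cfsg.Agent.H714.DG.CoTwoX
import Cfsg.Agent.H671.GraphFin_m3
import Cfsg.Agent.H678.DG.McL
import Cfsg.Agent.H653.Spor.J1
import Cfsg.Agent.H653.Spor.J3
import Cfsg.Agent.H492.IMJ1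
import Cfsg.Agent.H492.FactsHN
import Cfsg.Agent.H492.FactsON
import Cfsg.Agent.H492.FactsTh
import Cfsg.Agent.H492.IMJ4
import Cfsg.Agent.H843.IMC.RowsB
import Cfsg.Agent.H30.GraphFi24A
import Cfsg.Agent.H314.LyOrb.Deg
import Cfsg.Agent.H877.BSgnDeg
import Cfsg.Agent.H816.IMM
import Cfsg.Agent.H677.DG.TriBM
import Cfsg.Agent.H477.HC.SpSix
import Cfsg.Agent.H678.DG.Tits_m3
import Cfsg.Agent.Lib.ListFast
import Cfsg.Agent.Prune
set_option linter.all false

section
prune_inst 0x7f00000000000000000000000000000000000000000000000000000000000000000000000000000000000000000000000000000000000000000000000000000000000000000000000000000000000000003fffffffffffffffffffffffffffbeffbdffffffff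

-- part: H658/Reg/TriSpor
section
set_option linter.all false
open scoped Cfsg.Agent.FastGrp

-- part: H677/DG/TriSporA
section
/-!
# Triangles in the degree graphs of `Ru`, `Fi22`, `Fi23`, `Co2` (helper677)

Rank 3 actions.
-/

set_option autoImplicit false
set_option maxRecDepth 100000

open Cfsg Cfsg.Agent.H671.H5

namespace Cfsg.Agent.H677.TriSpor

open Cfsg.Agent.H690.Spor.RankThree

universe u v

/-- a triangle -/
def Tri (S : Type u) [Group S] : Prop := ∃ p q r : ℕ, Adj p q S ∧ Adj q r S ∧ Adj p r S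

theorem Tri.of_equiv {S : Type u} [Group S] {T : Type v} [Group T] (e : S ≃* T) (h : Tri T) : Tri S := by
  unfold Tri Adj at *
  rw [H424.DegTools.degreeGraph_congr e]
  exact h

theorem tri_of_degree {S : Type u} [Group S] {d : ℕ} (h : ∃ χ : IrrCharacter S, charDegree (χ : S → ℂ) = d)
    {p q r : ℕ} (hp : p.Prime) (hq : q.Prime) (hr : r.Prime) (h1 : p ≠ q) (h2 : q ≠ r) (h3 : p ≠ r)
    (hd : p * q * r ∣ d) : Tri S := by
  obtain ⟨χ, hχ⟩ := h
  have e1 : p * q ∣ d := (Dvd.intro _ rfl).trans hd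
  have e2 : q * r ∣ d := (Dvd.intro_left p (by ring)).trans hd
  have e3 : p * r ∣ d := (Dvd.intro_left q (by ring)).trans hd
  exact ⟨p, q, r, adj_iff.2 ⟨h1, hp, hq, χ, by rw [hχ]; exact e1⟩, adj_iff.2 ⟨h2, hq, hr, χ, by rw [hχ]; exact e2⟩,
    adj_iff.2 ⟨h3, hp, hr, χ, by rw [hχ]; exact e3⟩⟩

/-- rank 3 actions: all possible pairs of degrees have a member with three prime divisors -/
theorem tri_of_r3 {G : Type u} {X : Type v} [Group G] [MulAction G X] [Finite G] {R : X → X → Prop} {k l : ℕ}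
    (h : R3 G X R k l) (L : List ℕ)
    (hL : ∀ f ≤ (k + l) / 2, (1 + k + l) * k * l % (f * (k + l - f)) = 0 →
      Nat.sqrt ((1 + k + l) * k * l / (f * (k + l - f))) * Nat.sqrt ((1 + k + l) * k * l / (f * (k + l - f))) =
        (1 + k + l) * k * l / (f * (k + l - f)) ∨ f + f = k + l → f ∈ L ∨ k + l - f ∈ L)
    (hT : ∀ d ∈ L, ∃ p q r : ℕ, p.Prime ∧ q.Prime ∧ r.Prime ∧ p ≠ q ∧ q ≠ r ∧ p ≠ r ∧ p * q * r ∣ d) : Tri G := by
  classical
  have hX : Finite X := by
    apply Nat.finite_of_card_ne_zero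
    rw [h.cardn]
    omega
  have := Fintype.ofFinite X
  obtain ⟨χ₁, χ₂, f, g, D, h1, h2, -, h3, h4, h5⟩ := h.frame
  have d1 : charDegree (χ₁ : G → ℂ) = f := Cfsg.Agent.H670.PSing.charDegree_eq_of h1
  have d2 : charDegree (χ₂ : G → ℂ) = g := Cfsg.Agent.H670.PSing.charDegree_eq_of h2
  have hN : 0 < (1 + k + l) * k * l := by
    have := h.k0
    have := h.l0
    positivity
  have key : ∀ f g : ℕ, f + g = k + l → f * g * D = (1 + k + l) * k * l → (f ≠ g → IsSquare D) → f ≤ g →
      f ∈ L ∨ g ∈ L := by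
    intro f g h3 h4 h5 hle
    have hg : g = k + l - f := by omega
    have hfg : 0 < f * g := by
      rcases Nat.eq_zero_or_pos (f * g) with h | h
      · rw [h, zero_mul] at h4
        omega
      · exact h
    have hdiv : (1 + k + l) * k * l / (f * g) = D := by
      rw [← h4, Nat.mul_div_cancel_left _ hfg]
    rw [hg] at hdiv h4 ⊢
    refine hL f (by omega) ?_ ?_
    · rw [← h4]
      exact Nat.mul_mod_right _ _
    · rw [hdiv]
      by_cases hne : f = g
      · right; omega
      · left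
        obtain ⟨s, rfl⟩ := h5 hne
        rw [Nat.sqrt_eq]
  have fin : ∀ d ∈ L, (∃ χ : IrrCharacter G, charDegree (χ : G → ℂ) = d) → Tri G := by
    intro d hd hχ
    obtain ⟨p, q, r, hp, hq, hr, e1, e2, e3, e4⟩ := hT d hd
    exact tri_of_degree hχ hp hq hr e1 e2 e3 e4
  rcases le_total f g with hle | hle
  · rcases key f g h3 h4 h5 hle with h | h
    · exact fin f h ⟨χ₁, d1⟩
    · exact fin g h ⟨χ₂, d2⟩
  · rcases key g f (by omega) (by rw [mul_comm g f]; exact h4) (fun h => h5 h.symm) hle with h | h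
    · exact fin g h ⟨χ₂, d2⟩
    · exact fin f h ⟨χ₁, d1⟩

/-- the boolean check -/
def chk (k l : ℕ) (L : List ℕ) : Bool :=
  (List.range ((k + l) / 2 + 1)).all fun f =>
    !((1 + k + l) * k * l % (f * (k + l - f)) == 0) ||
    !(Nat.sqrt ((1 + k + l) * k * l / (f * (k + l - f))) * Nat.sqrt ((1 + k + l) * k * l / (f * (k + l - f))) ==
        (1 + k + l) * k * l / (f * (k + l - f)) || f + f == k + l) || L.contains f || L.contains (k + l - f)

theorem tri_of_chk {G : Type u} {X : Type v} [Group G] [MulAction G X] [Finite G] {R : X → X → Prop} {k l : ℕ}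
    (h : R3 G X R k l) (L : List ℕ) (hc : chk k l L = true)
    (hT : ∀ d ∈ L, ∃ p q r : ℕ, p.Prime ∧ q.Prime ∧ r.Prime ∧ p ≠ q ∧ q ≠ r ∧ p ≠ r ∧ p * q * r ∣ d) : Tri G := by
  refine tri_of_r3 h L (fun f hf h1 h2 => ?_) hT
  have h3 := List.all_eq_true.1 hc f (List.mem_range.2 (by omega))
  simp only [Bool.or_eq_true, Bool.not_eq_true', beq_eq_false_iff_ne, Bool.or_eq_false_iff, List.contains_iff_mem] at h3
  rcases h3 with ((h3 | h3) | h3) | h3
  · exact absurd h1 h3
  · exfalso
    rcases h2 with h2 | h2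
    · exact h3.1 h2
    · exact h3.2 h2
  · exact Or.inl h3
  · exact Or.inr h3

private noncomputable def _root_.Cfsg.Agent.LsF.f57b102_0 : {f // @Cfsg.Agent.H677.TriSpor.chk = f} := ⟨_, by first | (delta Cfsg.Agent.H677.TriSpor.chk; rewrite [Cfsg.Agent.LsF.nadd_pat, Cfsg.Agent.LsF.nmul_pat, Cfsg.Agent.LsF.nsub_pat, Cfsg.Agent.LsF.ndiv_pat, Cfsg.Agent.LsF.nmod_pat, Cfsg.Agent.LsF.nbeq_pat, Cfsg.Agent.LsF.instNBEq_pat, Cfsg.Agent.LsF.or_eq, Cfsg.Agent.LsF.not_eq, Cfsg.Agent.LsF.all_eq, Cfsg.Agent.LsF.contains_eq, Cfsg.Agent.LsF.range_eq]; exact rfl) | exact rfl⟩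
/-- `Ru` : 783, 3276 -/
theorem ru {S : Type u} [Group S] (h : Spor.IsoRu S) : Tri S := by
  obtain ⟨e⟩ := h
  have e' := e.trans Cfsg.Agent.RuLat.Main.equiv
  refine Tri.of_equiv e' ?_
  have := H690.Spor.Ru.instFiniteH
  obtain ⟨R, hR⟩ := H690.Spor.Ru.r3
  refine tri_of_chk hR [3276] (by ((try (rewrite [Cfsg.Agent.LsF.f57b102_0.2])); decide +kernel)) ?_
  intro d hd
  rw [List.mem_singleton] at hd
  subst hd
  exact ⟨2, 3, 7, by norm_num, by norm_num, by norm_num, by norm_num, by norm_num, by norm_num, by norm_num⟩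

/-- `Fi22` : 429, 3080 (or 1430, 2079) -/
theorem fi22 {S : Type u} [Group S] (h : Spor.IsoFi22 S) : Tri S := by
  obtain ⟨e⟩ := h
  have C := Cfsg.Agent.LThreeFi22.Inst.ctx e
  have : Finite S := Nat.finite_of_card_ne_zero (by rw [C.card]; norm_num)
  let _ := Cfsg.Agent.H870.IMFi22.act C
  refine tri_of_chk (Cfsg.Agent.H870.IMFi22.r3 C) [429, 1430] (by ((try (rewrite [Cfsg.Agent.LsF.f57b102_0.2])); decide +kernel)) ?_
  intro d hd
  rw [List.mem_cons, List.mem_singleton] at hd
  rcases hd with rfl | rfl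
  · exact ⟨3, 11, 13, by norm_num, by norm_num, by norm_num, by norm_num, by norm_num, by norm_num, by norm_num⟩
  · exact ⟨2, 5, 11, by norm_num, by norm_num, by norm_num, by norm_num, by norm_num, by norm_num, by norm_num⟩

/-- `Fi23` : 782, 30888 -/
theorem fi23 {S : Type u} [Group S] [Finite S] (h : Spor.IsoFi23 S) : Tri S := by
  obtain ⟨e⟩ := h
  refine Tri.of_equiv e ?_
  have : Finite Spor.Fi23 := Finite.of_equiv _ e.toEquiv
  obtain ⟨R, hR⟩ := Cfsg.Agent.H870.IMFi23.exists_r3
  refine tri_of_chk hR [782] (by ((try (rewrite [Cfsg.Agent.LsF.f57b102_0.2])); decide +kernel)) ?_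
  intro d hd
  rw [List.mem_singleton] at hd
  subst hd
  exact ⟨2, 17, 23, by norm_num, by norm_num, by norm_num, by norm_num, by norm_num, by norm_num, by norm_num⟩

/-- `Co2` : 2024 -/
theorem co2 {S : Type u} [Group S] (h : Spor.IsoCo2 S) : Tri S := by
  obtain ⟨e⟩ := h
  refine Tri.of_equiv e ?_
  exact tri_of_degree Cfsg.Agent.H843.IMC.Co2A.hasDeg_2024_275.1 (p := 2) (q := 11) (r := 23) (by norm_num)
    (by norm_num) (by norm_num) (by norm_num) (by norm_num) (by norm_num) (by norm_num)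

end Cfsg.Agent.H677.TriSpor
end

-- part: H658/Reg/DegSporA
section
/-!
# Three neighbours in the degree graphs of the sporadic groups, I (helper658, S4920)

`M11`, `M12`, `M22`, `M23`, `M24`, `J1`, `J2`, `J3`, `HS`, `McL`, `Suz`, `He`, `Ru`, `Fi22`, `Fi23`, `Co2`.
-/

set_option autoImplicit false
set_option maxRecDepth 100000

namespace Cfsg.Agent.H658.Reg.Spor

open Cfsg Cfsg.Agent.H671 Cfsg.Agent.H658.Reg

universe u

theorem m11 {S : Type u} [Group S] (h : Spor.IsoM11 S) : DegRow S := by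
  have h' := UGT.End.MEleven.isM11 h
  have : Finite S := Nat.finite_of_card_ne_zero (by rw [h'.2]; norm_num)
  exact deg_of_list (D := [10, 44, 45, 55]) (fun d hd => H678.DG.Mathieu.im_m11 h' hd) (v := 5) (a := 2) (b := 3)
    (c := 11) (by norm_num) (by norm_num) (by norm_num) (by norm_num) (by decide +kernel)

theorem m12 {S : Type u} [Group S] (h : Spor.IsoM12 S) : DegRow S := by
  obtain ⟨e⟩ := h
  have h12 : IsM12 Spor.M12 := ⟨CpAutTThree.MTwelve.simple, CpAutTThree.MTwelve.card⟩
  have hcard : Nat.card Spor.M12 = 95040 := h12.2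
  have : Finite Spor.M12 := Nat.finite_of_card_ne_zero (by rw [hcard]; norm_num)
  refine DegRow.congr e ?_
  obtain ⟨⟨d, ⟨χ, hχ⟩, hd⟩, -⟩ := H417.DegMTwelve.exists_both h12
  refine deg_of_list (D := [120, 55]) ?_ (v := 5) (a := 2) (b := 3)
    (c := 11) (by norm_num) (by norm_num) (by norm_num) (by norm_num) (by decide +kernel)
  intro m hm
  simp only [List.mem_cons, List.not_mem_nil, or_false] at hm
  rcases hm with rfl | rfl
  · exact H678.DG.Mathieu.exists_120 h12
  · exact ⟨χ, by rw [hχ]; exact hd⟩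

theorem m22 {S : Type u} [Group S] (h : Spor.IsoM22 S) : DegRow S := by
  have h' := H417.RecogMathieu.isM22 h
  have : Finite S := Nat.finite_of_card_ne_zero (by rw [h'.2]; norm_num)
  exact deg_of_list (D := [55, 99, 210, 231, 385]) (fun d hd => H653.Spor.Mathieu.im_m22 h' hd) (v := 2) (a := 3)
    (b := 5) (c := 7) (by norm_num) (by norm_num) (by norm_num) (by norm_num) (by decide +kernel)

theorem m23 {S : Type u} [Group S] (h : Spor.IsoM23 S) : DegRow S := by
  have h' := H417.RecogMathieu.isM23 h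
  have : Finite S := Nat.finite_of_card_ne_zero (by rw [h'.2]; norm_num)
  exact deg_of_list (D := [230, 45, 1035, 231, 2024, 896]) (fun d hd => H653.Spor.Mathieu.im_m23 h' hd) (v := 5)
    (a := 2) (b := 3) (c := 23) (by norm_num) (by norm_num) (by norm_num) (by norm_num) (by decide +kernel)

theorem m24 {S : Type u} [Group S] (h : Spor.IsoM24 S) : DegRow S := by
  have h' := H417.RecogMathieu.isM24 h
  have : Finite S := Nat.finite_of_card_ne_zero (by rw [h'.2]; norm_num)
  exact deg_of_list (D := [1035, 5796, 1771, 2024, 5544, 990]) (fun d hd => H653.Spor.Mathieu.im_m24 h' hd) (v := 2)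
    (a := 3) (b := 7) (c := 11) (by norm_num) (by norm_num) (by norm_num) (by norm_num) (by decide +kernel)

theorem j1 {S : Type u} [Group S] (h : Spor.IsoJ1 S) : DegRow S := by
  have h1 := H653.Spor.J1.facts S h
  have hc : Nat.card S = 175560 := by
    obtain ⟨e⟩ := h
    rw [Nat.card_congr e.toEquiv, H413.JOneLocal.card_J1]
  have : Finite S := Nat.finite_of_card_ne_zero (by rw [hc]; norm_num)
  refine deg_of_conn h1.conn h1.tri (fourth_of_im ?_ fun t ht hd => ?_)
  · have h2 : ({2, 3, 5, 7} : Finset ℕ) ⊆ (Nat.card S).primeFactors := by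
      intro x hx
      simp only [Finset.mem_insert, Finset.mem_singleton] at hx
      rw [hc, Nat.mem_primeFactors]
      rcases hx with rfl | rfl | rfl | rfl <;> norm_num
    have h3 := Finset.card_le_card h2
    simpa using h3
  · have : Fact t.Prime := ⟨ht⟩
    exact H492.IMJ1.im_j1 h hd

theorem j2 {S : Type u} [Group S] (h : Spor.IsoJ2 S) : DegRow S := by
  obtain ⟨h1, -⟩ := H672.SporIM.j2 h
  obtain ⟨f⟩ := J2.HundredGens.J2_iso Cfsg.Agent.S1619.result.2.2.2
  obtain ⟨e⟩ := h
  have h2 : H672.SporIM.HasDeg S 90 := H672.SporIM.HasDeg.of_equiv (e.trans f) H678.DG.JTwoDeg.deg_90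
  refine deg_of_list (D := [63, 90]) ?_ (v := 3) (a := 2)
    (b := 5) (c := 7) (by norm_num) (by norm_num) (by norm_num) (by norm_num) (by decide +kernel)
  intro m hm
  simp only [List.mem_cons, List.not_mem_nil, or_false] at hm
  rcases hm with rfl | rfl
  · exact H678.DG.Rows.im_of_hasDeg h1
  · exact H678.DG.Rows.im_of_hasDeg h2

theorem j3 {S : Type u} [Group S] [Finite S] (h : Spor.IsoJ3 S) : DegRow S := by
  have h1 := H653.Spor.J3.clauses h
  refine deg_of_list (D := [6, 10, 34]) ?_ (v := 2) (a := 3)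
    (b := 5) (c := 17) (by norm_num) (by norm_num) (by norm_num) (by norm_num) (by decide +kernel)
  intro m hm
  have h2 : H653.Graph.Cl S [m] := by
    simp only [List.mem_cons, List.not_mem_nil, or_false] at hm
    rcases hm with rfl | rfl | rfl <;> exact h1 _ (by simp)
  obtain ⟨n, hn, χ, hχ⟩ := h2
  rw [List.mem_singleton] at hn
  subst hn
  exact ⟨χ, hχ⟩

theorem hs {S : Type u} [Group S] (h : Spor.IsoHS S) : DegRow S := by
  obtain ⟨e⟩ := h
  obtain ⟨⟨f⟩, -⟩ := HN.AutHS.nonempty_Q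
  refine DegRow.congr (e.trans f.symm) ?_
  exact deg_of_degree (d := 770) H678.DG.HSDeg.deg_770 (v := 2) (a := 5)
    (b := 7) (c := 11) (by norm_num) (by norm_num) (by norm_num) (by norm_num) (by decide +kernel)

open Cfsg.Agent.H904.McLCent Cfsg.Agent.McLType.X275 Cfsg.Agent.McLType.Gens in
theorem mcl {S : Type u} [Group S] (h : Spor.IsoMcL S) : DegRow S := by
  obtain ⟨θ, R⟩ := exists_rep h
  let f : S ≃* K0 := (MonoidHom.ofInjective R.inj).trans (MulEquiv.subgroupCongr R.range)
  refine DegRow.congr f ?_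
  refine deg_of_list (D := [3520, 4500]) ?_ (v := 2) (a := 3)
    (b := 5) (c := 11) (by norm_num) (by norm_num) (by norm_num) (by norm_num) (by decide +kernel)
  intro m hm
  simp only [List.mem_cons, List.not_mem_nil, or_false] at hm
  rcases hm with rfl | rfl
  · obtain ⟨χ, hχ⟩ := H678.DG.McLDeg.deg_3520
    exact ⟨χ, by rw [hχ]⟩
  · obtain ⟨χ, hχ⟩ := H678.DG.McLDeg.deg_4500
    exact ⟨χ, by rw [hχ]⟩

theorem suz {S : Type u} [Group S] (h : Spor.IsoSuz S) : DegRow S := by
  obtain ⟨-, h2⟩ := H672.SporIM.suz h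
  exact deg_of_degree (d := 780) h2 (v := 2) (a := 3)
    (b := 5) (c := 13) (by norm_num) (by norm_num) (by norm_num) (by norm_num) (by decide +kernel)

theorem he {S : Type u} [Group S] (h : Spor.IsoHe S) : DegRow S := by
  obtain ⟨e⟩ := h
  refine DegRow.congr e ?_
  refine deg_of_list (D := [680, 1275]) ?_ (v := 5) (a := 2)
    (b := 3) (c := 17) (by norm_num) (by norm_num) (by norm_num) (by norm_num) (by decide +kernel)
  intro m hm
  simp only [List.mem_cons, List.not_mem_nil, or_false] at hm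
  rcases hm with rfl | rfl
  · exact H678.DG.He.im_of H678.DG.HeDegA.deg_680
  · exact H678.DG.He.im_of H678.DG.HeDegA.deg_1275

private noncomputable def _root_.Cfsg.Agent.LsF.f57b102_1 : {f // @Cfsg.Agent.H658.Reg.chk = f} := ⟨_, by first | (delta Cfsg.Agent.H658.Reg.chk; rewrite [Cfsg.Agent.LsF.nadd_pat, Cfsg.Agent.LsF.nmul_pat, Cfsg.Agent.LsF.nsub_pat, Cfsg.Agent.LsF.ndiv_pat, Cfsg.Agent.LsF.nmod_pat, Cfsg.Agent.LsF.nbeq_pat, Cfsg.Agent.LsF.instNBEq_pat, Cfsg.Agent.LsF.or_eq, Cfsg.Agent.LsF.not_eq, Cfsg.Agent.LsF.all_eq, Cfsg.Agent.LsF.contains_eq, Cfsg.Agent.LsF.range_eq]; exact rfl) | exact rfl⟩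
/-- `Ru` : 3276 -/
theorem ru {S : Type u} [Group S] (h : Spor.IsoRu S) : DegRow S := by
  obtain ⟨e⟩ := h
  have e' := e.trans Cfsg.Agent.RuLat.Main.equiv
  refine DegRow.congr e' ?_
  have := H690.Spor.Ru.instFiniteH
  obtain ⟨R, hR⟩ := H690.Spor.Ru.r3
  refine deg_of_chk hR [3276] (by ((try (rewrite [Cfsg.Agent.LsF.f57b102_1.2])); decide +kernel)) ?_
  intro d hd
  rw [List.mem_singleton] at hd
  subst hd
  exact ⟨2, 3, 7, 13, by norm_num, by norm_num, by norm_num, by norm_num, by decide +kernel⟩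

/-- `Fi22` : 3080 or 1430 -/
theorem fi22 {S : Type u} [Group S] (h : Spor.IsoFi22 S) : DegRow S := by
  obtain ⟨e⟩ := h
  have C := Cfsg.Agent.LThreeFi22.Inst.ctx e
  have : Finite S := Nat.finite_of_card_ne_zero (by rw [C.card]; norm_num)
  let _ := Cfsg.Agent.H870.IMFi22.act C
  refine deg_of_chk (Cfsg.Agent.H870.IMFi22.r3 C) [3080, 1430] (by ((try (rewrite [Cfsg.Agent.LsF.f57b102_1.2])); decide +kernel)) ?_
  intro d hd
  rw [List.mem_cons, List.mem_singleton] at hd
  rcases hd with rfl | rfl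
  · exact ⟨2, 5, 7, 11, by norm_num, by norm_num, by norm_num, by norm_num, by decide +kernel⟩
  · exact ⟨2, 5, 11, 13, by norm_num, by norm_num, by norm_num, by norm_num, by decide +kernel⟩

/-- `Fi23` : 30888 -/
theorem fi23 {S : Type u} [Group S] [Finite S] (h : Spor.IsoFi23 S) : DegRow S := by
  obtain ⟨e⟩ := h
  refine DegRow.congr e ?_
  have : Finite Spor.Fi23 := Finite.of_equiv _ e.toEquiv
  obtain ⟨R, hR⟩ := Cfsg.Agent.H870.IMFi23.exists_r3
  refine deg_of_chk hR [30888] (by ((try (rewrite [Cfsg.Agent.LsF.f57b102_1.2])); decide +kernel)) ?_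
  intro d hd
  rw [List.mem_singleton] at hd
  subst hd
  exact ⟨2, 3, 11, 13, by norm_num, by norm_num, by norm_num, by norm_num, by decide +kernel⟩

/-- `Co2` : 275, 2024 -/
theorem co2 {S : Type u} [Group S] (h : Spor.IsoCo2 S) : DegRow S := by
  obtain ⟨e⟩ := h
  refine DegRow.congr e ?_
  refine deg_of_list (D := [275, 2024]) ?_ (v := 11) (a := 2)
    (b := 5) (c := 23) (by norm_num) (by norm_num) (by norm_num) (by norm_num) (by decide +kernel)
  intro m hm
  simp only [List.mem_cons, List.not_mem_nil, or_false] at hm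
  rcases hm with rfl | rfl
  · exact H678.DG.Rows.im_of_hasDeg H843.IMC.Co2A.hasDeg_2024_275.2
  · exact H678.DG.Rows.im_of_hasDeg H843.IMC.Co2A.hasDeg_2024_275.1

end Cfsg.Agent.H658.Reg.Spor
end

-- part: H658/Reg/DegSporB
section
/-!
# Three neighbours in the degree graphs of the sporadic groups, II (helper658, S4920)

`J4`, `Co1`, `Co3`, `ON`, `Ly`, `Fi24'`, `HN`, `Th`, `B`.
-/

set_option autoImplicit false
set_option maxRecDepth 100000

namespace Cfsg.Agent.H658.Reg.Spor

open Cfsg Cfsg.Agent.H671 Cfsg.Agent.H658.Reg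

universe u

theorem of_val {S : Type u} [Group S] {d : ℕ} (h : ∃ χ : IrrCharacter S, (χ : S → ℂ) 1 = (d : ℕ)) :
    ∃ χ : IrrCharacter S, charDegree (χ : S → ℂ) = d := by
  obtain ⟨χ, hχ⟩ := h
  exact ⟨χ, Cfsg.Agent.H670.PSing.charDegree_eq_of hχ⟩

theorem j4 {S : Type u} [Group S] (h : Spor.IsoJ4 S) : DegRow S := by
  obtain ⟨e⟩ := h
  refine DegRow.congr e ?_
  exact deg_of_degree (d := 1776888) (of_val H492.IMJ4.exists_1776888) (v := 2) (a := 3)
    (b := 23) (c := 29) (by norm_num) (by norm_num) (by norm_num) (by norm_num) (by decide +kernel)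

theorem co1 {S : Type u} [Group S] (h : Spor.IsoCo1 S) : DegRow S := by
  obtain ⟨e⟩ := h
  refine DegRow.congr e ?_
  exact deg_of_degree (d := 80730) H843.IMC.Co1D.hasDeg.2 (v := 2) (a := 3)
    (b := 5) (c := 13) (by norm_num) (by norm_num) (by norm_num) (by norm_num) (by decide +kernel)

theorem co3 {S : Type u} [Group S] (h : Spor.IsoCo3 S) : DegRow S := by
  obtain ⟨e⟩ := h
  refine DegRow.congr e ?_
  obtain ⟨-, χ, h, -⟩ := H769.PB.CoThreeRank5.exists_chars
  exact deg_of_degree (d := 8855) ⟨χ, h⟩ (v := 5) (a := 7)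
    (b := 11) (c := 23) (by norm_num) (by norm_num) (by norm_num) (by norm_num) (by decide +kernel)

theorem on {S : Type u} [Group S] (h : Spor.IsoON S) : DegRow S := by
  obtain ⟨e⟩ := h
  refine DegRow.congr e ?_
  exact deg_of_degree (d := 52668) (of_val H492.FactsON.exists_52668) (v := 2) (a := 3)
    (b := 7) (c := 11) (by norm_num) (by norm_num) (by norm_num) (by norm_num) (by decide +kernel)

theorem ly {S : Type u} [Group S] (h : Spor.IsoLy S) : DegRow S := by
  obtain ⟨e⟩ := h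
  refine DegRow.congr e ?_
  obtain ⟨χ, -, h2⟩ := H314.LyOrb.exists_deg_ly
  exact deg_of_degree (d := 1534500) ⟨χ 2, h2 2⟩ (v := 2) (a := 3)
    (b := 5) (c := 11) (by norm_num) (by norm_num) (by norm_num) (by norm_num) (by decide +kernel)

theorem fi24 {S : Type u} [Group S] (h : Spor.IsoFi24' S) : DegRow S := by
  obtain ⟨e⟩ := h
  refine DegRow.congr e ?_
  exact deg_of_degree (d := 249458) H30.GraphFi24.exists_deg.2 (v := 2) (a := 11)
    (b := 17) (c := 23) (by norm_num) (by norm_num) (by norm_num) (by norm_num) (by decide +kernel)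

theorem hn {S : Type u} [Group S] (h : Spor.IsoHN S) : DegRow S := by
  obtain ⟨e⟩ := h
  refine DegRow.congr e ?_
  exact deg_of_degree (d := 8910) (of_val H492.IMHN.exists_8910) (v := 2) (a := 3)
    (b := 5) (c := 11) (by norm_num) (by norm_num) (by norm_num) (by norm_num) (by decide +kernel)

theorem th {S : Type u} [Group S] (h : Spor.IsoTh S) : DegRow S := by
  obtain ⟨e⟩ := h
  refine DegRow.congr e ?_
  exact deg_of_degree (d := 61256) (of_val H492.FactsTh.exists_61256) (v := 2) (a := 13)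
    (b := 19) (c := 31) (by norm_num) (by norm_num) (by norm_num) (by norm_num) (by decide +kernel)

theorem b {S : Type u} [Group S] (h : Spor.IsoB S) : DegRow S := by
  obtain ⟨χ, -, hχ⟩ := H995.IMB.deg_b h (d := 96255) (by unfold H995.IMB.ds; simp)
  exact deg_of_degree (d := 96255) ⟨χ, hχ⟩ (v := 3) (a := 5)
    (b := 23) (c := 31) (by norm_num) (by norm_num) (by norm_num) (by norm_num) (by decide +kernel)

end Cfsg.Agent.H658.Reg.Spor
end

-- part: H658/Reg/DegSpor
section
/-!
# `FactDeg` (helper658, S4920)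

* `deg_spor` : in the degree graph of a sporadic simple group some prime has three neighbours;
* `factDeg'` : `FactDeg`, from the graph facts of the other simple groups.
-/

set_option autoImplicit false
set_option maxRecDepth 100000

namespace Cfsg.Agent.H658.Reg.Spor

open Cfsg Cfsg.Agent.H671 Cfsg.Agent.H671.H5 Cfsg.Agent.H671.GraphAsm Cfsg.Agent.H658.Reg

universe u

theorem m {S : Type u} [Group S] (h : Spor.IsoM S) : DegRow S := by
  obtain ⟨χ, h1, h2⟩ := H816.IMM.exists_chi_842609326 h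
  exact deg_of_degree (d := 842609326) ⟨⟨χ, h1⟩, Cfsg.Agent.H670.PSing.charDegree_eq_of (by push_cast; exact h2)⟩
    (v := 2) (a := 13) (b := 29) (c := 31) (by norm_num) (by norm_num) (by norm_num) (by norm_num) (by decide +kernel)

/-- **The sporadic groups.** -/
theorem deg_spor (S : Type u) [Group S] [Finite S] (h : IsSporadicGroup S) : DegRow S := by
  rcases h with h | h | h | h | h | h | h | h | h | h | h | h | h | h | h | h | h | h | h | h | h | h | h | h | h | h
  · exact m11 h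
  · exact m12 h
  · exact m22 h
  · exact m23 h
  · exact m24 h
  · exact j1 h
  · exact j2 h
  · exact j3 h
  · exact j4 h
  · exact co1 h
  · exact co2 h
  · exact co3 h
  · exact mcl h
  · exact hs h
  · exact suz h
  · exact he h
  · exact ru h
  · exact on h
  · exact ly h
  · exact fi22 h
  · exact fi23 h
  · exact fi24 h
  · exact hn h
  · exact th h
  · exact b h
  · exact m h

theorem factDeg' (hK : KnownAll.{u}) (hG : ∀ (S : Type u) [Group S] [Finite S] [IsSimpleGroup S],
    ¬ IsMulCommutative S → ¬ IsL2 S → GFacts S ∨ IsSporadicGroup S) : FactDeg.{u} :=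
  factDeg hK hG fun S _ _ _ h => deg_spor S h

end Cfsg.Agent.H658.Reg.Spor
end

-- part: H658/Reg/TriSpor
section
/-!
# The graph facts for S4920 from the classification (helper658)

* `tri_spor` : the degree graph of a sporadic simple group has a triangle;
* `factTri_of`, `factDeg_of` : `FactTri` and `FactDeg` from `KnownAll` and `Herzog`.
-/

set_option autoImplicit false
set_option maxRecDepth 100000

namespace Cfsg.Agent.H658.Reg.Spor

open Cfsg Cfsg.Agent.H671 Cfsg.Agent.H671.H5 Cfsg.Agent.H671.GraphAsm Cfsg.Agent.H658.Reg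

universe u

theorem tri_spor (S : Type u) [Group S] [Finite S] [IsSimpleGroup S] (h : IsSporadicGroup S) :
    ∃ p q r : ℕ, H5.Adj p q S ∧ H5.Adj q r S ∧ H5.Adj p r S := by
  rcases h with h | h | h | h | h | h | h | h | h | h | h | h | h | h | h | h | h | h | h | h | h | h | h | h | h | h
  · exact (H678.DG.Mathieu.facts_m11 h).tri
  · exact (H678.DG.Mathieu.facts_m12 h).tri
  · exact (H653.Spor.Mathieu.facts_m22 h).tri
  · exact (H653.Spor.Mathieu.facts_m23 h).tri
  · exact (H653.Spor.Mathieu.facts_m24 h).tri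
  · exact (H653.Spor.J1.facts S h).tri
  · exact (H678.DG.Rows.facts_j2 h).tri
  · exact (H653.Spor.J3.facts S h).tri
  · exact (H492.IMJ4.facts_j4 h).tri
  · exact (H843.IMC.Rows.facts_co1 h).tri
  · exact H677.TriSpor.co2 h
  · exact (H843.IMC.Rows.facts_co3 h).tri
  · exact (H678.DG.McL.facts_mcl h).tri
  · exact (H678.DG.HS.facts_hs h).tri
  · exact (H678.DG.Rows.facts_suz h).tri
  · exact (H678.DG.He.facts_he h).tri
  · exact H677.TriSpor.ru h
  · exact (H492.FactsON.facts_on h).tri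
  · obtain ⟨e⟩ := h
    refine H677.TriSpor.Tri.of_equiv e ?_
    obtain ⟨χ, -, h2⟩ := H314.LyOrb.exists_deg_ly
    exact H677.TriSpor.tri_of_degree (d := 1534500) ⟨χ 2, h2 2⟩ (p := 2) (q := 3) (r := 5) (by norm_num) (by norm_num)
      (by norm_num) (by norm_num) (by norm_num) (by norm_num) (by norm_num)
  · exact H677.TriSpor.fi22 h
  · exact H677.TriSpor.fi23 h
  · exact H30.GraphFi24.tri_fi24 h
  · exact (H492.FactsHN.facts_hn h).tri
  · exact (H492.FactsTh.facts_th h).tri
  · exact H677.TriBM.tri_b h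
  · exact H677.TriBM.tri_m h

theorem tits (S : Type u) [Group S] [Finite S] [IsSimpleGroup S] (h : Lie.IsoTits S) : GFacts S := by
  have h1 := H678.DG.Tits.facts_tits h
  exact ⟨h1.conn, h1.ind, h1.tri⟩

theorem restAll : Rest.{u} := rest H477.HC.tsp62 tits

theorem factTri_of (hK : KnownAll.{u}) (hH : Herzog.{u}) : FactTri.{u} :=
  factTri hK hH restAll tri_spor

theorem factDeg_of (hK : KnownAll.{u}) (hH : Herzog.{u}) : FactDeg.{u} :=
  factDeg' hK (graph_split hK hH restAll)

end Cfsg.Agent.H658.Reg.Spor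
end
end

-- part: H988/DG/TriAll
section
set_option linter.all false

/-!
# `FactTri` without hypotheses (uses the classification `S0000`)
-/

set_option autoImplicit false

namespace Cfsg.Agent.H988.DG

theorem factTri : Cfsg.Agent.H671.H5.FactTri.{0} :=
  Cfsg.Agent.H658.Reg.Spor.factTri_of Cfsg.Agent.H671.GraphAsm.knownAll
    Cfsg.Agent.H671.GraphAsm.herzog

end Cfsg.Agent.H988.DG
end
end
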